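import Cfsg.Agent.Lib.Recog.U4Two.Main
import Cfsg.Agent.Lib.Classical.SpSimple
import Cfsg.Agent.S0822
import Mathlib.FieldTheory.Finite.GaloisField

/-!
The centralizer of a central involution of `PSp_4(3)`, and the recognition of `PSp_4(3)`.
-/

set_option autoImplicit false
set_option linter.unusedSectionVars false
set_option linter.style.haveILetI false

namespace CfsgLib.Recog.U4Two

open Subgroup CfsgLib.Invol.SpFour
open scoped MatrixGroups

section Model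

variable {F : Type*} [Field F] [Fintype F]

theorem exists_hom (hF : Fintype.card F = 3) : ∃ f : ZMod 3 →+* F, Function.Bijective f := by
  haveI : CharP F 3 := charP_of_card_eq_prime hF
  refine ⟨ZMod.castHom (dvd_refl 3) F, ?_⟩
  refine (Fintype.bijective_iff_injective_and_card _).2 ⟨ZMod.castHom_injective F, ?_⟩
  rw [ZMod.card, hF]

theorem psi_zc (f : ZMod 3 →+* F) : psiHom f Cm.zc = prj (zS F) := by
  show prj (d2 (decF f Cm.zc.xOf) (decF f Cm.zc.yOf) * wpow Cm.zc.sOf) = _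
  rw [show Cm.zc.xOf = (0 + 12) % 24 by decide +kernel, show Cm.zc.yOf = 0 by decide +kernel,
    show Cm.zc.sOf = 0 by decide +kernel, decF_neg f (by norm_num : (0 : ℕ) < 24),
    show decF f 0 = 1 by rw [decF, decZ_zero, map_one], wpow, if_pos rfl, mul_one,
    show d2 (-1 : SL(2, F)) 1 = CfsgLib.Geom.spNeg 2 F * zS F by rw [zS, neg_d2, neg_neg], prj_neg]

theorem range_psi (hodd : Odd (Fintype.card F)) (f : ZMod 3 →+* F) (hf : Function.Bijective f)
    (g : Cfsg.PSp 2 F) :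
    g * psiHom f Cm.zc = psiHom f Cm.zc * g ↔ ∃ c, psiHom f c = g := by
  refine ⟨fun h => ?_, fun ⟨c, hc⟩ => by rw [← hc, ← map_mul, ← map_mul, zc_central]⟩
  rw [psi_zc] at h
  obtain ⟨A, rfl⟩ := QuotientGroup.mk'_surjective (Subgroup.center (Matrix.symplecticGroup (Fin 2) F)) g
  have h' : prj (A * zS F) = prj (zS F * A) := by rw [map_mul, map_mul]; exact h
  have hdec : ∀ a : SL(2, F), ∃ i : Fin 24, decF f i = a := by
    intro a
    obtain ⟨i, hi⟩ := decZ_surj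
      (Matrix.SpecialLinearGroup.map ((RingEquiv.ofBijective f hf).symm : F →+* ZMod 3) a)
    refine ⟨i, ?_⟩
    rw [decF, hi]
    refine Subtype.ext ?_
    ext r s
    exact (RingEquiv.ofBijective f hf).apply_symm_apply _
  have key : ∀ {s : ℕ}, s < 2 → ∀ a b : SL(2, F), ∃ c, psiHom f c = prj (d2 a b * wpow s) := by
    intro s hs a b
    obtain ⟨i, rfl⟩ := hdec a
    obtain ⟨j, rfl⟩ := hdec b
    exact ⟨Cm.ofSXY s i j, psi_ofSXY f hs i.2 j.2⟩
  rcases prj_eq_iff.1 h' with e | e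
  · obtain ⟨a, b, rfl⟩ := exists_d2_of_commute hodd e
    obtain ⟨c, hc⟩ := key (s := 0) (by norm_num) a b
    exact ⟨c, by rw [hc, wpow, if_pos rfl, mul_one]; rfl⟩
  · have hB : A * wS F * zS F = zS F * (A * wS F) := by
      have hw : wS F * zS F = CfsgLib.Geom.spNeg 2 F * zS F * wS F := by
        rw [← zS_w, inv_mul_cancel_right]
      have hn := Subgroup.mem_center_iff.1 (CfsgLib.Geom.spNeg_mem_center (m := 2) (F := F))
      have hnn : CfsgLib.Geom.spNeg 2 F * CfsgLib.Geom.spNeg 2 F =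
          (1 : Matrix.symplecticGroup (Fin 2) F) := by
        rw [spNeg_eq, d2_mul, neg_mul_neg, one_mul, d2_one]
      rw [mul_assoc A, hw, ← mul_assoc, ← mul_assoc, hn A, mul_assoc (CfsgLib.Geom.spNeg 2 F) A, e,
        ← mul_assoc, hnn, one_mul, mul_assoc]
    obtain ⟨a, b, hab⟩ := exists_d2_of_commute hodd hB
    obtain ⟨c, hc⟩ := key (s := 1) (by norm_num) a b
    refine ⟨c, ?_⟩
    rw [hc, wpow, if_neg (by norm_num), ← hab, mul_assoc, wS_sq, mul_one]
    rfl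

theorem cfg_model (hF : Fintype.card F = 3) (f : ZMod 3 →+* F) (hf : Function.Bijective f) :
    Cfg (psiHom f Cm.zc) (psiHom f) where
  inj := psi_injective f
  range := range_psi (by rw [hF]; decide) f hf
  hz := rfl
  noIdx H hH := by
    haveI := CfsgLib.Classical.isSimpleGroup_psp (F := F) 2 le_rfl (fun _ => hF.ge)
    rcases (inferInstance : IsSimpleGroup (Cfsg.PSp 2 F)).eq_bot_or_eq_top_of_normal H
      (Subgroup.normal_of_index_eq_two hH) with rfl | rfl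
    · rw [Subgroup.index_bot] at hH
      have h2 := Nat.card_le_card_of_injective (psiHom f) (psi_injective f)
      rw [hH, Nat.card_eq_fintype_card, Fintype.card_congr
        (⟨Cm.code, Cm.mk, fun _ => rfl, fun _ => rfl⟩ : Cm ≃ Fin 576), Fintype.card_fin] at h2
      omega
    · rw [Subgroup.index_top] at hH; omega

end Model

/-- Recognition of `PSp_4(3)`. -/
theorem psp_four_three {G : Type*} [Group G] [Finite G] (hG : ∀ H : Subgroup G, H.index ≠ 2)
    {F : Type*} [Field F] [Fintype F] (hF : Fintype.card F = 3)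
    (U : Sylow 2 (Cfsg.PSp 2 F)) (t₀ : Cfsg.PSp 2 F) (ht₀ : orderOf t₀ = 2)
    (ht₀U : t₀ ∈ (U : Subgroup (Cfsg.PSp 2 F)))
    (ht₀c : ∀ u ∈ (U : Subgroup (Cfsg.PSp 2 F)), u * t₀ = t₀ * u) (t : G) (ht : orderOf t = 2)
    (e : ↥(Subgroup.centralizer ({t} : Set G)) ≃* ↥(Subgroup.centralizer ({t₀} : Set (Cfsg.PSp 2 F)))) :
    Nonempty (G ≃* Cfsg.PSp 2 F) := by
  haveI : Fact (Nat.Prime 2) := ⟨Nat.prime_two⟩
  obtain ⟨f, hf⟩ := exists_hom hF
  have M := cfg_model hF f hf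
  obtain ⟨S, hS⟩ := M.exists_sylow
  obtain ⟨g, hg⟩ := MulAction.exists_smul_eq (Cfsg.PSp 2 F) U S
  have hin : ∀ {a}, a ∈ (U : Subgroup (Cfsg.PSp 2 F)) → g * a * g⁻¹ ∈ M.ssub := fun ha => by
    rw [← hS, ← hg]; exact ⟨_, ha, rfl⟩
  obtain ⟨c, hc, hce⟩ := hin ht₀U
  have hcz : c = Cm.zc := by
    refine (center_inS c hc fun q hq => M.inj ?_).resolve_left fun h => ?_
    · rw [map_mul, map_mul, hce]
      have hq' : psiHom f q ∈ M.ssub := ⟨q, hq, rfl⟩
      rw [← hS, ← hg] at hq'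
      obtain ⟨a, ha, hae⟩ := hq'
      rw [← hae]
      show g * t₀ * g⁻¹ * (g * a * g⁻¹) = g * a * g⁻¹ * (g * t₀ * g⁻¹)
      rw [show g * t₀ * g⁻¹ * (g * a * g⁻¹) = g * (t₀ * a) * g⁻¹ by group, ← ht₀c a ha]
      group
    · rw [h, map_one, eq_comm, conj_eq_one_iff] at hce
      rw [hce, orderOf_one] at ht₀
      norm_num at ht₀
  rw [hcz] at hce
  have ht0 : t₀ = g⁻¹ * psiHom f Cm.zc * g := by rw [hce]; group
  have hmem : ∀ c, ((MulAut.conj g⁻¹).toMonoidHom.comp (psiHom f)) c ∈ centralizer ({t₀} : Set (Cfsg.PSp 2 F)) := by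
    intro c
    rw [mem_centralizer_singleton_iff, ht0]
    show g⁻¹ * psiHom f c * g⁻¹⁻¹ * _ = _ * (g⁻¹ * psiHom f c * g⁻¹⁻¹)
    calc g⁻¹ * psiHom f c * g⁻¹⁻¹ * (g⁻¹ * psiHom f Cm.zc * g)
        = g⁻¹ * (psiHom f c * psiHom f Cm.zc) * g := by group
      _ = g⁻¹ * (psiHom f Cm.zc * psiHom f c) * g := by rw [← map_mul, ← map_mul, zc_central]
      _ = _ := by group
  obtain ⟨θ, hθ⟩ : ∃ θ : Cm →* centralizer ({t₀} : Set (Cfsg.PSp 2 F)),
      θ = ((MulAut.conj g⁻¹).toMonoidHom.comp (psiHom f)).codRestrict _ hmem := ⟨_, rfl⟩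
  have hθbij : Function.Bijective θ := by
    constructor
    · intro a b hab
      rw [hθ] at hab
      exact M.inj ((MulAut.conj g⁻¹).injective (congrArg Subtype.val hab))
    · intro a
      have ha := (congrArg (fun z => (a : Cfsg.PSp 2 F) * z = z * (a : Cfsg.PSp 2 F)) ht0).mp
        (mem_centralizer_singleton_iff.1 a.2)
      obtain ⟨c, hc⟩ := (M.range (g * (a : Cfsg.PSp 2 F) * g⁻¹)).1 (by
        calc g * (a : Cfsg.PSp 2 F) * g⁻¹ * psiHom f Cm.zc
            = g * ((a : Cfsg.PSp 2 F) * (g⁻¹ * psiHom f Cm.zc * g)) * g⁻¹ := by group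
          _ = g * (g⁻¹ * psiHom f Cm.zc * g * (a : Cfsg.PSp 2 F)) * g⁻¹ := by rw [ha]
          _ = _ := by group)
      refine ⟨c, Subtype.ext ?_⟩
      rw [hθ]
      show g⁻¹ * psiHom f c * g⁻¹⁻¹ = a
      rw [hc]; group
  obtain ⟨ε, hε⟩ : ∃ ε : Cm ≃* centralizer ({t} : Set G),
      ε = (MulEquiv.ofBijective θ hθbij).trans e.symm := ⟨_, rfl⟩
  obtain ⟨φ, hφ⟩ : ∃ φ : Cm →* G, φ = (centralizer ({t} : Set G)).subtype.comp ε.toMonoidHom := ⟨_, rfl⟩
  have hφv : ∀ c, φ c = (ε c : G) := fun c => by rw [hφ]; rfl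
  have hrange : ∀ g : G, g * t = t * g ↔ ∃ c, φ c = g := fun x =>
    ⟨fun h => ⟨ε.symm ⟨x, mem_centralizer_singleton_iff.2 h⟩, by rw [hφv, MulEquiv.apply_symm_apply]⟩,
      fun ⟨c, hc⟩ => by rw [← hc, hφv]; exact mem_centralizer_singleton_iff.1 (ε c).2⟩
  have hz : φ Cm.zc = t := by
    obtain ⟨c, hc⟩ := (hrange t).1 rfl
    have hinj : Function.Injective φ := fun a b h => ε.injective (Subtype.ext (by rwa [← hφv, ← hφv]))
    have hcc : c = 1 ∨ c = Cm.zc := center_fact c fun q _ => hinj (by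
      rw [map_mul, map_mul, hc]
      exact ((hrange (φ q)).2 ⟨q, rfl⟩).symm)
    rcases hcc with rfl | rfl
    · rw [map_one] at hc
      rw [← hc, orderOf_one] at ht
      norm_num at ht
    · exact hc
  have X : Cfg t φ := ⟨fun a b h => ε.injective (Subtype.ext (by rwa [← hφv, ← hφv])), hrange, hz, hG⟩
  obtain ⟨ψ, X2⟩ := X.exists_cfg2
  obtain ⟨K, hK, hKi, hK4, ⟨e4⟩⟩ := X2.psu
  obtain ⟨e'⟩ := Cfsg.Agent.S0822.result (F := K) (K := F) hK4 hF
  exact ⟨e4.trans e'⟩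

end CfsgLib.Recog.U4Two
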