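import Cfsg.Agent.Lib.Recog.U4Two.CentTwo
import Cfsg.Agent.Lib.InvChar.HallJankoKlein
import Mathlib.GroupTheory.Transfer

/-!
The centralizer of the second involution has order 96 and normalises `E`.
-/

set_option autoImplicit false
set_option linter.unusedSectionVars false
set_option linter.style.haveILetI false

namespace CfsgLib.Recog.U4Two

open Subgroup Cm

/-- The transfer of an involution all whose conjugates in the subgroup have the same value. -/
theorem transfer_involution {H C : Type*} [Group H] [Finite H] [CommGroup C] (A : Subgroup H)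
    (hodd : Odd A.index) (f : A →* C) {x : H} (hx : x * x = 1) (c : C) (hc : c * c = 1)
    (h : ∀ g : H, ∀ hg : g⁻¹ * x * g ∈ A, f ⟨_, hg⟩ = c) : MonoidHom.transfer f x = c := by
  classical
  let _ : Fintype (Quotient (MulAction.orbitRel (zpowers x) (H ⧸ A))) := Fintype.ofFinite _
  rw [MonoidHom.transfer_eq_prod_quotient_orbitRel_zpowers_quot]
  let m : Quotient (MulAction.orbitRel (zpowers x) (H ⧸ A)) → ℕ :=
    fun q => Function.minimalPeriod (x • ·) q.out
  have hval : ∀ q, f ⟨q.out.out⁻¹ * x ^ m q * q.out.out,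
      QuotientGroup.out_conj_pow_minimalPeriod_mem _ x q.out⟩ = c ^ m q := by
    intro q
    have hm : m q ∣ 2 := by
      apply Function.IsPeriodicPt.minimalPeriod_dvd
      change ((x • ·)^[2]) q.out = q.out
      simp only [smul_iterate, pow_two, hx, one_smul]
    rcases (Nat.dvd_prime Nat.prime_two).1 hm with hm | hm
    · have hmem := QuotientGroup.out_conj_pow_minimalPeriod_mem A x q.out
      have hval' := h q.out.out
      simp only [hm, pow_one]
      rw [show Function.minimalPeriod (x • ·) q.out = 1 from hm, pow_one] at hmem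
      exact hval' hmem
    · simp only [hm, pow_two, hx, hc, mul_one, inv_mul_cancel]
      exact map_one f
  rw [Finset.prod_congr rfl fun q _ => hval q, Finset.prod_pow_eq_pow_sum,
    ← index_eq_sum_minimalPeriod A x]
  obtain ⟨j, hj⟩ := hodd
  rw [hj, pow_succ, pow_mul, pow_two, hc, one_pow, one_mul]

theorem card_cent_w : ∀ e ∈ ([2, 7, 11, 15] : List ℕ),
    (Finset.univ.filter fun p : Cm => p * io e = io e * p).card = 48 := by
  decide +kernel

namespace Cfg2

variable {G : Type*} [Group G] [Finite G] {t : G} {φ : Cm →* G} (X : Cfg2 t φ)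

include X

open Cfg

theorem not_two_pow : ¬ 2 ^ 6 ∣ Nat.card (cU φ) := by
  haveI : Fact (Nat.Prime 2) := ⟨Nat.prime_two⟩
  intro h
  obtain ⟨R, hR⟩ := Sylow.exists_subgroup_card_pow_prime 2 h
  obtain ⟨S, hS⟩ := X.toCfg.exists_sylow
  have hcard : Nat.card (R.map (cU φ).subtype) = 2 ^ 6 := by
    rw [card_map_of_injective (subtype_injective _), hR]
  have hu : IsPGroup 2 (zpowers (ee φ 4)) := IsPGroup.of_card (n := 1) (by
    rw [Nat.card_zpowers, pow_one]
    exact orderOf_eq_prime (by rw [pow_two]; exact ee_sq φ (by norm_num)) fun e =>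
      absurd (X.toCfg.ee_inj (by norm_num) (by norm_num) (e.trans (ee_zero φ).symm)) (by norm_num))
  have hsup := IsPGroup.to_sup_of_normal_left' hu (IsPGroup.of_card hcard) (fun g hg => by
    obtain ⟨b, -, rfl⟩ := hg
    refine mem_normalizer_fintype fun z hz => ?_
    obtain ⟨i, rfl⟩ := mem_zpowers_iff.1 hz
    have hb : Commute ((cU φ).subtype b) (ee φ 4) := mem_cU.1 b.2
    rw [SetLike.mem_coe, (hb.zpow_right i).eq,
      mul_inv_cancel_right]
    exact hz)
  obtain ⟨P, hP⟩ := hsup.exists_le_sylow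
  have hPc : Nat.card P = 2 ^ 6 := by
    obtain ⟨g, hg⟩ := MulAction.exists_smul_eq G P S
    calc Nat.card P = Nat.card S := Nat.card_congr (Sylow.equiv P S).toEquiv
      _ = 2 ^ 6 := by rw [show Nat.card S = Nat.card (S : Subgroup G) from rfl, hS, X.toCfg.card_ssub]; norm_num
  have hRP : R.map (cU φ).subtype = P := eq_of_le_of_card_ge (le_sup_right.trans hP) (by rw [hcard, hPc])
  have huP : ee φ 4 ∈ (P : Subgroup G) := hP (mem_sup_left (mem_zpowers _))
  obtain ⟨g, hg⟩ := MulAction.exists_smul_eq G P S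
  have hmem : ∀ {a : G}, a ∈ (P : Subgroup G) → g * a * g⁻¹ ∈ ssub X.toCfg := fun ha => by
    rw [← hS, ← hg]; exact ⟨_, ha, rfl⟩
  obtain ⟨c, hc, hce⟩ := hmem huP
  have hcz := center_inS c hc fun q hq => X.inj (by
    rw [map_mul, map_mul, hce]
    have hq' : φ q ∈ ssub X.toCfg := ⟨q, hq, rfl⟩
    rw [← hS, ← hg] at hq'
    obtain ⟨p, hp, hpe⟩ := hq'
    rw [SetLike.mem_coe, ← hRP] at hp
    obtain ⟨b, -, rfl⟩ := hp
    rw [← hpe]
    show g * ee φ 4 * g⁻¹ * (g * (cU φ).subtype b * g⁻¹) = g * (cU φ).subtype b * g⁻¹ * (g * ee φ 4 * g⁻¹)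
    rw [show g * ee φ 4 * g⁻¹ * (g * (cU φ).subtype b * g⁻¹) = g * (ee φ 4 * (cU φ).subtype b) * g⁻¹ by group,
      show ee φ 4 * (cU φ).subtype b = (cU φ).subtype b * ee φ 4 from (mem_cU.1 b.2).symm]
    group)
  rcases hcz with rfl | rfl
  · rw [map_one, eq_comm, conj_eq_one_iff] at hce
    exact absurd (X.toCfg.ee_inj (by norm_num) (by norm_num) (hce.trans (ee_zero φ).symm)) (by norm_num)
  · rw [X.hz] at hce
    exact X.four_not_conj (isConj_iff.2 ⟨g⁻¹, by rw [hce]; group⟩)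

theorem odd_index_pU : Odd ((pU φ).subgroupOf (cU φ)).index := by
  rw [← Nat.not_even_iff_odd, even_iff_two_dvd]
  intro h
  apply X.not_two_pow
  rw [← card_mul_index ((pU φ).subgroupOf (cU φ)), Nat.card_congr (subgroupOfEquivOfLe pU_le_cU).toEquiv,
    X.toCfg.card_pU]
  obtain ⟨k, hk⟩ := h
  exact ⟨k, by rw [hk]; ring⟩

/-- The transfer to the four-group `pU / E`. -/
theorem exists_index_two : ∃ M : Subgroup G, M ≤ cU φ ∧ esub φ ≤ M ∧
    Nat.card (cU φ) = 2 * Nat.card M ∧ M ⊔ pU φ = cU φ ∧ ∀ g ∈ cU φ, g * (g * g) = 1 → g ∈ M := by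
  classical
  obtain ⟨y0, hy2, hy4, hyE⟩ := exists_outer
  have hyp : φ y0 ∈ pU φ := ⟨y0, mem_centralizer_singleton_iff.2 hy4, rfl⟩
  have hyE' : φ y0 ∉ esub φ := fun h => by
    rw [X.toCfg.map_mem_esub, hyE] at h; exact Bool.false_ne_true h
  have hy2' : φ y0 * φ y0 = 1 := by rw [← map_mul, hy2, map_one]
  have hidx : ((esub φ).subgroupOf (pU φ)).index = 2 := by
    have h := card_mul_index ((esub φ).subgroupOf (pU φ))
    rw [Nat.card_congr (subgroupOfEquivOfLe esub_le_pU).toEquiv, X.toCfg.elem16_esub.1,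
      X.toCfg.card_pU] at h
    omega
  let f : (pU φ).subgroupOf (cU φ) →* ℤˣ :=
    MonoidHom.mk' (fun g => if ((g : cU φ) : G) ∈ esub φ then 1 else -1) fun a b => by
      have h := mul_mem_iff_of_index_two hidx (a := (⟨_, mem_subgroupOf.1 a.2⟩ : pU φ))
        (b := ⟨_, mem_subgroupOf.1 b.2⟩)
      simp only [mem_subgroupOf, MulMemClass.mk_mul_mk] at h
      simp only [Subgroup.coe_mul]
      split_ifs with h1 h2 h3 h4 <;> first | rfl | tauto
  have hf1 : ∀ {g : cU φ} (hg : g ∈ (pU φ).subgroupOf (cU φ)), (g : G) ∈ esub φ → f ⟨g, hg⟩ = 1 :=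
    fun hg h => if_pos h
  have hf2 : ∀ {g : cU φ} (hg : g ∈ (pU φ).subgroupOf (cU φ)), (g : G) ∉ esub φ → f ⟨g, hg⟩ = -1 :=
    fun hg h => if_neg h
  let τ := MonoidHom.transfer f
  have hτE : ∀ e : cU φ, (e : G) ∈ esub φ → τ e = 1 := by
    intro e he
    refine transfer_involution _ X.odd_index_pU f
      (Subtype.ext (X.toCfg.elem16_esub.2 _ he)) 1 (one_mul 1) fun g hg => hf1 hg ?_
    by_contra hn
    refine X.outer_not_conj (mem_subgroupOf.1 hg) ?_ hn g.2 ?_
    · show (g : G)⁻¹ * e * g * ((g : G)⁻¹ * e * g) = 1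
      rw [show (g : G)⁻¹ * e * g * ((g : G)⁻¹ * e * g) = (g : G)⁻¹ * ((e : G) * e) * g by group,
        X.toCfg.elem16_esub.2 _ he]
      group
    · show (g : G) * ((g : G)⁻¹ * e * g) * (g : G)⁻¹ ∈ esub φ
      rwa [show (g : G) * ((g : G)⁻¹ * e * g) * (g : G)⁻¹ = e by group]
  have hτy : τ ⟨φ y0, pU_le_cU hyp⟩ = -1 := by
    refine transfer_involution _ X.odd_index_pU f (Subtype.ext hy2') (-1) (by norm_num)
      fun g hg => hf2 hg ?_
    have := X.outer_not_conj hyp hy2' hyE' (inv_mem g.2)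
    rwa [inv_inv] at this
  have hindex : τ.ker.index = 2 := by
    rw [index_ker, show τ.range = ⊤ from MonoidHom.range_eq_top.2 fun z => ?_, card_top,
      Nat.card_eq_fintype_card, Fintype.card_units_int]
    rcases Int.units_eq_one_or z with rfl | rfl
    · exact ⟨1, map_one τ⟩
    · exact ⟨_, hτy⟩
  obtain ⟨M, hM⟩ : ∃ M, M = τ.ker.map (cU φ).subtype := ⟨_, rfl⟩
  have hEM : esub φ ≤ M := fun e he => hM ▸ ⟨⟨e, esub_le_cU he⟩, hτE _ he, rfl⟩
  have hle : M ≤ cU φ := hM ▸ map_subtype_le _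
  have hcard : Nat.card (cU φ) = 2 * Nat.card M := by
    rw [hM, card_map_of_injective (subtype_injective _), ← card_mul_index τ.ker, hindex, mul_comm]
  refine ⟨M, hle, hEM, hcard, ?_, fun g hg hg3 => hM ▸ ⟨⟨g, hg⟩, ?_, rfl⟩⟩
  · refine eq_of_le_of_card_ge (sup_le hle pU_le_cU) ?_
    have hlt : M < M ⊔ pU φ := lt_of_le_of_ne le_sup_left fun e => by
      have hy : φ y0 ∈ M := by rw [e]; exact mem_sup_right hyp
      rw [hM] at hy
      obtain ⟨b, hb, hbe⟩ := hy
      have : b = ⟨φ y0, pU_le_cU hyp⟩ := Subtype.ext hbe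
      rw [this] at hb
      exact absurd (hτy.symm.trans hb) (by decide)
    obtain ⟨k, hk⟩ := card_dvd_of_le hlt.le
    have hl : Nat.card M < Nat.card ↥(M ⊔ pU φ) := lt_of_not_ge fun h => hlt.ne (eq_of_le_of_card_ge hlt.le h)
    rw [hcard, hk, mul_comm 2]
    refine Nat.mul_le_mul_left _ ?_
    rw [hk] at hl
    by_contra h
    have hk' : k ≤ 1 := by omega
    have := Nat.mul_le_mul_left (Nat.card M) hk'
    omega
  · show τ _ = 1
    have h3 : τ ⟨g, hg⟩ * (τ ⟨g, hg⟩ * τ ⟨g, hg⟩) = 1 := by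
      rw [← map_mul, ← map_mul, ← map_one τ]; exact congrArg τ (Subtype.ext hg3)
    rcases Int.units_eq_one_or (τ ⟨g, hg⟩) with e | e
    · exact e
    · rw [e] at h3; exact absurd h3 (by decide)

omit X in
/-- The centralizer of `11` in the centralizer of the second involution. -/
def cab (φ : Cm →* G) : Subgroup G := cU φ ⊓ centralizer ({ee φ 11} : Set G)

omit X in
theorem mem_cab {g : G} :
    g ∈ cab φ ↔ g * ee φ 4 = ee φ 4 * g ∧ g * ee φ 11 = ee φ 11 * g := by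
  rw [cab, mem_inf, mem_cU, mem_centralizer_singleton_iff]

omit X in
theorem comm_fifteen {g : G} (hg : g ∈ cab φ) : g * ee φ 15 = ee φ 15 * g := by
  obtain ⟨h1, h2⟩ := mem_cab.1 hg
  rw [show ee φ 15 = ee φ 4 * ee φ 11 from (ee_mul φ (a := 4) (b := 11) (by norm_num) (by norm_num)).symm,
    ← mul_assoc, h1, mul_assoc, h2, mul_assoc]

theorem cab_facts : Nat.card (cab φ) = 48 ∧ cab φ ≤ normalizer (esub φ : Set G) ∧
    ∃ x ∈ cab φ, x * (x * x) = 1 ∧ x ≠ 1 ∧ esub φ ⊔ zpowers x = cab φ := by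
  classical
  obtain ⟨m, hm, hmt⟩ := (X.orbit_iff (a := 11) (by norm_num)).2 (by decide)
  obtain ⟨e, he, hme⟩ := X.conj_de (inv_mem hm) (d := 15) (by decide)
  rw [inv_inv] at hme
  have hew : e ∈ ([2, 7, 11, 15] : List ℕ) := by
    rcases List.mem_cons.1 he with rfl | h
    · rw [X.toCfg.ee_one] at hme
      have h15 : ee φ 15 = ee φ 11 := by rw [← hmt, ← hme]; group
      exact absurd (X.toCfg.ee_inj (by norm_num) (by norm_num) h15) (by norm_num)
    · exact h
  have he16 := line_lt e hew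
  obtain ⟨C, hC⟩ : ∃ C, C = (centralizer ({io e} : Set Cm)).map
      ((MulAut.conj m).toMonoidHom.comp φ) := ⟨_, rfl⟩
  have h15 : ee φ 15 = m * ee φ e * m⁻¹ := by rw [← hme]; group
  have hmem : ∀ g, g ∈ cab φ ↔ g ∈ C := by
    intro g
    constructor
    · intro hg
      obtain ⟨h1, h2⟩ := mem_cab.1 hg
      obtain ⟨q, hq⟩ := (X.range (m⁻¹ * g * m)).1 (by
        calc m⁻¹ * g * m * t = m⁻¹ * (g * ee φ 11) * m := by rw [← hmt]; group
          _ = m⁻¹ * (ee φ 11 * g) * m := by rw [h2]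
          _ = t * (m⁻¹ * g * m) := by rw [← hmt]; group)
      refine hC ▸ ⟨q, mem_centralizer_singleton_iff.2 (X.inj ?_), ?_⟩
      · rw [map_mul, map_mul, hq]
        show m⁻¹ * g * m * ee φ e = ee φ e * (m⁻¹ * g * m)
        calc m⁻¹ * g * m * ee φ e = m⁻¹ * (g * ee φ 15) * m := by rw [h15]; group
          _ = m⁻¹ * (ee φ 15 * g) * m := by rw [comm_fifteen hg]
          _ = _ := by rw [h15]; group
      · show m * φ q * m⁻¹ = g
        rw [hq]; group
    · intro hg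
      obtain ⟨q, hq, rfl⟩ := (hC ▸ hg : g ∈ (centralizer ({io e} : Set Cm)).map _)
      have hq' : φ q * ee φ e = ee φ e * φ q := by
        rw [ee, ← map_mul, ← map_mul, mem_centralizer_singleton_iff.1 hq]
      have ha : m * φ q * m⁻¹ * ee φ 11 = ee φ 11 * (m * φ q * m⁻¹) := by
        rw [← hmt]
        calc m * φ q * m⁻¹ * (m * t * m⁻¹) = m * (φ q * t) * m⁻¹ := by group
          _ = m * (t * φ q) * m⁻¹ := by rw [X.toCfg.comm_t]
          _ = _ := by group
      have hb : m * φ q * m⁻¹ * ee φ 15 = ee φ 15 * (m * φ q * m⁻¹) := by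
        rw [h15]
        calc m * φ q * m⁻¹ * (m * ee φ e * m⁻¹) = m * (φ q * ee φ e) * m⁻¹ := by group
          _ = m * (ee φ e * φ q) * m⁻¹ := by rw [hq']
          _ = _ := by group
      refine mem_cab.2 ⟨?_, ha⟩
      show m * φ q * m⁻¹ * _ = _ * (m * φ q * m⁻¹)
      rw [show ee φ 4 = ee φ 11 * ee φ 15 from (ee_mul φ (a := 11) (b := 15) (by norm_num) (by norm_num)).symm,
        ← mul_assoc, ha, mul_assoc, hb, ← mul_assoc]
  have hcab : cab φ = C := SetLike.ext hmem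
  have hn : cab φ ≤ normalizer (esub φ : Set G) := by
    rw [hcab, hC]
    rintro _ ⟨q, hq, rfl⟩
    refine mul_mem (mul_mem hm ?_) (inv_mem hm)
    refine X.toCfg.normE_mem (conj_inE_norm ⟨e, he16⟩
      ((by decide : ∀ e ∈ ([2, 7, 11, 15] : List ℕ), 2 ≤ e) e hew) q ?_)
    rw [show q * io ((⟨e, he16⟩ : Fin 16) : ℕ) = io e * q from mem_centralizer_singleton_iff.1 hq,
      mul_inv_cancel_right]
    exact (inE_iff _).2 ⟨⟨e, he16⟩, rfl⟩
  have hcard : Nat.card (cab φ) = 48 := by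
    rw [hcab, hC, card_map_of_injective ((MulAut.conj m).injective.comp X.inj), ← card_cent_w e hew,
      ← Nat.card_eq_finsetCard]
    exact Nat.card_congr (Equiv.subtypeEquivRight fun p => by
      rw [mem_centralizer_singleton_iff]
      exact ⟨fun h => Finset.mem_filter.2 ⟨Finset.mem_univ _, h⟩, fun h => (Finset.mem_filter.1 h).2⟩)
  refine ⟨hcard, hn, ?_⟩
  obtain ⟨c, hc, hc3, hc1, -⟩ := exists_three e hew
  have hx : m * φ c * m⁻¹ ∈ cab φ := hcab ▸ hC ▸ ⟨c, mem_centralizer_singleton_iff.2 hc, rfl⟩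
  refine ⟨_, hx, ?_, ?_, ?_⟩
  · rw [show m * φ c * m⁻¹ * (m * φ c * m⁻¹ * (m * φ c * m⁻¹)) = m * (φ c * (φ c * φ c)) * m⁻¹ by group,
      ← map_mul, ← map_mul, hc3, map_one]
    group
  · rw [Ne, conj_eq_one_iff, ← map_one φ]
    exact fun h => hc1 (X.inj h)
  · have hEc : esub φ ≤ cab φ := fun g hg => mem_cab.2
      ⟨X.toCfg.elem16_esub.comm hg (ee_mem (by norm_num)), X.toCfg.elem16_esub.comm hg (ee_mem (by norm_num))⟩
    refine eq_of_le_of_card_ge (sup_le hEc (zpowers_le.2 hx)) ?_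
    rw [hcard]
    refine Nat.le_of_dvd Nat.card_pos ?_
    have h16 := card_dvd_of_le (le_sup_left : esub φ ≤ esub φ ⊔ zpowers (m * φ c * m⁻¹))
    rw [X.toCfg.elem16_esub.1] at h16
    have h3 : orderOf (m * φ c * m⁻¹) = 3 := by
      haveI : Fact (Nat.Prime 3) := ⟨Nat.prime_three⟩
      refine orderOf_eq_prime ?_ fun h => hc1 (X.inj (by rwa [map_one, ← conj_eq_one_iff]))
      rw [pow_three, show m * φ c * m⁻¹ * (m * φ c * m⁻¹ * (m * φ c * m⁻¹)) =
        m * (φ c * (φ c * φ c)) * m⁻¹ by group, ← map_mul, ← map_mul, hc3, map_one]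
      group
    have h3' := card_dvd_of_le (le_sup_right : zpowers (m * φ c * m⁻¹) ≤ esub φ ⊔ zpowers (m * φ c * m⁻¹))
    rw [Nat.card_zpowers, h3] at h3'
    exact Nat.Coprime.mul_dvd_of_dvd_of_dvd (by norm_num : Nat.Coprime 16 3) h16 h3'

/-- The centralizer of `u` and one of `3, 5, 6` is a 2-group normalising `E`. -/
theorem cent_v {v : ℕ} (hv : v ∈ ([3, 5, 6] : List ℕ)) {g : G} (hg : g ∈ cU φ)
    (hgv : g * ee φ v = ee φ v * g) :
    g ∈ normalizer (esub φ : Set G) ∧ g ^ 2 ^ 5 = 1 := by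
  classical
  obtain ⟨hv16, hdv, hvn⟩ : v < 16 ∧ 4 ^^^ v ∈ ([1, 2, 7, 11, 15] : List ℕ) ∧
      v ∉ ([1, 2, 7, 11, 15] : List ℕ) :=
    (by decide : ∀ v ∈ ([3, 5, 6] : List ℕ), v < 16 ∧ 4 ^^^ v ∈ ([1, 2, 7, 11, 15] : List ℕ) ∧
      v ∉ ([1, 2, 7, 11, 15] : List ℕ)) v hv
  obtain ⟨n, hn, hne⟩ := (X.orbit_iff (xor_lt (by norm_num : 4 < 16) hv16)).2 hdv
  obtain ⟨q, hq16, hqe⟩ := mem_esub.1 ((mem_normalizer_iff.1 (inv_mem hn) _).1
    (ee_mem (φ := φ) (a := 4) (by norm_num)))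
  rw [inv_inv] at hqe
  have hqn : q ∉ ([1, 2, 7, 11, 15] : List ℕ) := fun h => X.four_not_conj
    (((X.isConj_ee hq16).2 h).trans (isConj_iff.2 ⟨n, by rw [hqe]; group⟩))
  have hvq : n⁻¹ * ee φ v * n = ee φ (1 ^^^ q) := by
    rw [← ee_mul φ (by norm_num : 1 < 16) hq16, X.toCfg.ee_one, hqe,
      show t = n⁻¹ * ee φ (4 ^^^ v) * n by rw [← hne]; group,
      ← ee_mul φ (by norm_num : 4 < 16) hv16,
      show n⁻¹ * (ee φ 4 * ee φ v) * n * (n⁻¹ * ee φ 4 * n) = n⁻¹ * (ee φ 4 * ee φ v * ee φ 4) * n by group,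
      ee_comm φ (by norm_num : 4 < 16) hv16, mul_assoc (ee φ v), ee_sq φ (by norm_num : 4 < 16), mul_one]
  have h1qn : 1 ^^^ q ∉ ([1, 2, 7, 11, 15] : List ℕ) := fun h => by
    refine hvn ((X.isConj_ee hv16).1 (((X.isConj_ee (xor_lt (by norm_num) hq16)).2 h).trans ?_))
    exact isConj_iff.2 ⟨n, by rw [← hvq]; group⟩
  have hq0 : q ≠ 0 := fun h => by
    rw [h, ee_zero] at hqe
    have h4 : ee φ 4 = ee φ 0 := by
      rw [ee_zero]; calc ee φ 4 = n * (n⁻¹ * ee φ 4 * n) * n⁻¹ := by group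
        _ = 1 := by rw [← hqe]; group
    exact absurd (X.toCfg.ee_inj (by norm_num) (by norm_num) h4) (by norm_num)
  have hqQ : q ∈ ([4, 5, 8, 9, 12, 13] : List ℕ) :=
    (by decide : ∀ q : Fin 16, (q : ℕ) ≠ 0 → (q : ℕ) ∉ ([1, 2, 7, 11, 15] : List ℕ) →
      1 ^^^ (q : ℕ) ∉ ([1, 2, 7, 11, 15] : List ℕ) → (q : ℕ) ∈ ([4, 5, 8, 9, 12, 13] : List ℕ))
      ⟨q, hq16⟩ hq0 hqn h1qn
  obtain ⟨p, hp⟩ := (X.range (n⁻¹ * g * n)).1 (by
    calc n⁻¹ * g * n * t = n⁻¹ * (g * (ee φ 4 * ee φ v)) * n := by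
          rw [show t = n⁻¹ * ee φ (4 ^^^ v) * n by rw [← hne]; group, ← ee_mul φ (by norm_num) hv16]; group
      _ = n⁻¹ * (ee φ 4 * ee φ v * g) * n := by rw [← mul_assoc g, mem_cU.1 hg, mul_assoc (ee φ 4) g, hgv]; group
      _ = t * (n⁻¹ * g * n) := by
          rw [show t = n⁻¹ * ee φ (4 ^^^ v) * n by rw [← hne]; group, ← ee_mul φ (by norm_num) hv16]; group)
  have hpq : p * io q = io q * p := X.inj (by
    rw [map_mul, map_mul, hp, show φ (io q) = ee φ q from rfl, hqe]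
    calc n⁻¹ * g * n * (n⁻¹ * ee φ 4 * n) = n⁻¹ * (g * ee φ 4) * n := by group
      _ = n⁻¹ * (ee φ 4 * g) * n := by rw [mem_cU.1 hg]
      _ = _ := by group)
  have hge : g = n * φ p * n⁻¹ := by rw [hp]; group
  constructor
  · rw [hge]
    refine mul_mem (mul_mem hn (X.toCfg.normE_mem (conj_inE_norm ⟨q, hq16⟩
      ((by decide : ∀ q ∈ ([4, 5, 8, 9, 12, 13] : List ℕ), 2 ≤ q) q hqQ) p ?_))) (inv_mem hn)
    rw [show p * io ((⟨q, hq16⟩ : Fin 16) : ℕ) = io q * p from hpq, mul_inv_cancel_right]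
    exact (inE_iff _).2 ⟨⟨q, hq16⟩, rfl⟩
  · have h32 : p ^ 32 = 1 := by
      have h := pow_card_eq_one' (x := (⟨p, mem_centralizer_singleton_iff.2 hpq⟩ :
        centralizer ({io q} : Set Cm)))
      rw [show Nat.card (centralizer ({io q} : Set Cm)) = 32 by
        rw [← card_cent_q q hqQ, ← Nat.card_eq_finsetCard]
        exact Nat.card_congr (Equiv.subtypeEquivRight fun p => by
          rw [mem_centralizer_singleton_iff]
          exact ⟨fun h => Finset.mem_filter.2 ⟨Finset.mem_univ _, h⟩,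
            fun h => (Finset.mem_filter.1 h).2⟩)] at h
      exact congrArg Subtype.val h
    rw [hge, show (2 : ℕ) ^ 5 = 32 by norm_num, conj_pow, ← map_pow, h32, map_one]
    group

end Cfg2

end CfsgLib.Recog.U4Two
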