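import Cfsg.Agent.Lib.Recog.U4Two.Facts

/-!
Finite facts used to determine the centralizer of the second involution.
-/

set_option autoImplicit false
set_option maxRecDepth 100000

namespace CfsgLib.Recog.U4Two

open Cm

theorem outer_class : ∀ q ∈ invL, q * io 4 = io 4 * q → inE q = false → q ∈ uL ∧ q * io 4 ∈ uL := by
  decide +kernel

theorem norm_two_wp : ∀ a ∈ ([2, 7, 11, 15] : List ℕ), ∀ b ∈ ([2, 7, 11, 15] : List ℕ), a ≠ b →
    ∀ c : Cm, c * io a = io a * c → c * io b = io b * c → inE c = true := by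
  decide +kernel

theorem exists_three : ∀ e ∈ ([2, 7, 11, 15] : List ℕ), ∃ c : Cm,
    c * io e = io e * c ∧ c * (c * c) = 1 ∧ c ≠ 1 ∧ normE c = true := by
  decide +kernel

theorem card_cent_q : ∀ a ∈ ([4, 5, 8, 9, 12, 13] : List ℕ),
    (Finset.univ.filter fun p : Cm => p * io a = io a * p).card = 32 := by
  decide +kernel

theorem pair_split : ∀ a ∈ ([8, 9, 10, 12, 13, 14] : List ℕ), ∃ x ∈ ([11, 15] : List ℕ),
    ∃ y ∈ ([1, 2, 7] : List ℕ), a = x ^^^ y := by decide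

theorem pair_unique : ∀ a ∈ ([1, 2, 7, 11, 15] : List ℕ), ∀ b ∈ ([1, 2, 7, 11, 15] : List ℕ),
    ∀ c ∈ ([1, 2, 7, 11, 15] : List ℕ), ∀ d ∈ ([1, 2, 7, 11, 15] : List ℕ),
      a ^^^ b = c ^^^ d → a ≠ b → (a = c ∧ b = d) ∨ (a = d ∧ b = c) := by decide

theorem v_split : ∀ a : Fin 16, ∃ v ∈ ([0, 3, 5, 6] : List ℕ), ∃ w ∈ ([0, 4, 11, 15] : List ℕ),
    (a : ℕ) = v ^^^ w := by decide

end CfsgLib.Recog.U4Two
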