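import Cfsg.Agent.Lib.Recog.U4Two.CentCard
import Mathlib.GroupTheory.Sylow

/-!
The group of index four in the centralizer of the second involution has order 12, so this
centralizer has order 96 and normalises `E`.
-/

set_option autoImplicit false
set_option linter.unusedSectionVars false
set_option linter.style.haveILetI false

namespace CfsgLib.Recog.U4Two

open Subgroup Cm

theorem derangement_three : ∀ p q r : ℕ, p ∈ ([1, 2, 7] : List ℕ) → q ∈ ([1, 2, 7] : List ℕ) →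
    r ∈ ([1, 2, 7] : List ℕ) → p ≠ 1 → q ≠ 2 → r ≠ 7 → p ≠ q → p ≠ r → q ≠ r →
      (p = 2 ∧ q = 7 ∧ r = 1) ∨ (p = 7 ∧ q = 1 ∧ r = 2) := by
  intro p q r hp hq hr
  simp only [List.mem_cons, List.not_mem_nil, or_false] at hp hq hr
  omega

/-- An involutive automorphism of a four-group fixes a non-trivial element. -/
theorem exists_fixed_of_involutive {B : Type*} [Group B] (Q : Subgroup B) (α : B →* B)
    (hne : ∃ q ∈ Q, q ≠ 1) (hmap : ∀ q ∈ Q, α q ∈ Q) (hinv : ∀ q ∈ Q, α (α q) = q)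
    (hsq : ∀ q ∈ Q, q * q = 1) : ∃ q ∈ Q, q ≠ 1 ∧ α q = q := by
  obtain ⟨q, hq, hq1⟩ := hne
  by_cases h : α q = q
  · exact ⟨q, hq, hq1, h⟩
  refine ⟨q * α q, mul_mem hq (hmap q hq), fun e => h ?_, ?_⟩
  · rw [← inv_eq_of_mul_eq_one_right e, inv_eq_of_mul_eq_one_right (hsq q hq)]
  · rw [map_mul, hinv q hq]
    have h1 := hsq _ (mul_mem hq (hmap q hq))
    have h2 := inv_eq_of_mul_eq_one_right h1
    rw [_root_.mul_inv_rev, inv_eq_of_mul_eq_one_right (hsq q hq),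
      inv_eq_of_mul_eq_one_right (hsq _ (hmap q hq))] at h2
    exact h2

theorem comm_of_card_four {B : Type*} [Group B] {Q : Subgroup B} (h : Nat.card Q = 2 ^ 2) {a b : B}
    (ha : a ∈ Q) (hb : b ∈ Q) : a * b = b * a := by
  haveI : Fact (Nat.Prime 2) := ⟨Nat.prime_two⟩
  exact congrArg Subtype.val
    ((IsPGroup.isMulCommutative_of_card_eq_prime_sq h).is_comm.comm ⟨a, ha⟩ ⟨b, hb⟩)

namespace Cfg2

variable {G : Type*} [Group G] [Finite G] {t : G} {φ : Cm →* G} (X : Cfg2 t φ)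

include X

open Cfg

section

variable {M : Subgroup G} (hM : M ≤ cU φ) (hEM : esub φ ≤ M) (hM32 : ¬ 32 ∣ Nat.card M)
  (hM3 : ∀ g ∈ cU φ, g * (g * g) = 1 → g ∈ M)

include hM hEM hM32 hM3

theorem two_elem_mem {g : G} (hg : g ∈ M) (hn : g ∈ normalizer (esub φ : Set G)) {k : ℕ}
    (hk : g ^ 2 ^ k = 1) : g ∈ esub φ := by
  haveI : Fact (Nat.Prime 2) := ⟨Nat.prime_two⟩
  obtain ⟨j, -, hj⟩ := (Nat.dvd_prime_pow Nat.prime_two).1 (orderOf_dvd_of_pow_eq_one hk)
  have hsup := IsPGroup.to_sup_of_normal_left'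
    (IsPGroup.of_card (p := 2) (n := 4) (by rw [X.toCfg.elem16_esub.1]; norm_num) : IsPGroup 2 (esub φ))
    (IsPGroup.of_card (p := 2) (by rw [Nat.card_zpowers, hj]) : IsPGroup 2 (zpowers g)) (zpowers_le.2 hn)
  obtain ⟨i, hi⟩ := hsup.exists_card_eq
  have hle : esub φ ⊔ zpowers g ≤ M := sup_le hEM (zpowers_le.2 hg)
  have hi4 : i ≤ 4 := by
    by_contra h
    exact hM32 (((pow_dvd_pow 2 (show 5 ≤ i by omega)).trans hi.symm.dvd).trans (card_dvd_of_le hle))
  have he : esub φ = esub φ ⊔ zpowers g := eq_of_le_of_card_ge le_sup_left (by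
    rw [X.toCfg.elem16_esub.1, hi]
    exact Nat.pow_le_pow_right (by norm_num) hi4 |>.trans (by norm_num))
  rw [he]; exact mem_sup_right (mem_zpowers g)

theorem cab_le : cab φ ≤ M := by
  obtain ⟨-, -, x, hx, hx3, -, hsup⟩ := X.cab_facts
  rw [← hsup]
  exact sup_le hEM (zpowers_le.2 (hM3 x (mem_cab.1 hx |>.1 |> mem_cU.2) hx3))

theorem no_swap {n : G} (hn : n ∈ M) (hnN : n ∈ normalizer (esub φ : Set G)) :
    n * ee φ 11 * n⁻¹ = ee φ 11 ∧ n * ee φ 15 * n⁻¹ = ee φ 15 := by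
  rcases X.conj_ab hnN (hM hn) with h | ⟨h1, h2⟩
  · exact h
  exfalso
  obtain ⟨k, o, ho, hko⟩ := Nat.exists_eq_pow_mul_and_not_dvd (orderOf_pos n).ne' 2 (by norm_num)
  obtain ⟨j, hj⟩ : Odd o := Nat.not_even_iff_odd.1 fun h => ho (even_iff_two_dvd.1 h)
  have hsq : Commute (n * n) (ee φ 11) := by
    refine mul_inv_eq_iff_eq_mul.1 ?_
    calc n * n * ee φ 11 * (n * n)⁻¹ = n * (n * ee φ 11 * n⁻¹) * n⁻¹ := by group
      _ = ee φ 11 := by rw [h1, h2]
  have hE := X.two_elem_mem hM hEM hM32 hM3 (pow_mem hn o) (pow_mem hnN o) (k := k)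
    (by rw [← pow_mul, mul_comm, ← hko, pow_orderOf_eq_one])
  have h3 : n ^ o * ee φ 11 * (n ^ o)⁻¹ = ee φ 15 := by
    rw [hj, pow_succ', pow_mul, pow_two]
    calc n * (n * n) ^ j * ee φ 11 * (n * (n * n) ^ j)⁻¹
        = n * ((n * n) ^ j * ee φ 11 * ((n * n) ^ j)⁻¹) * n⁻¹ := by group
      _ = n * ee φ 11 * n⁻¹ := by rw [(hsq.pow_left j).eq, mul_inv_cancel_right]
      _ = ee φ 15 := h1
  rw [X.toCfg.elem16_esub.comm hE (ee_mem (by norm_num)), mul_inv_cancel_right] at h3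
  exact absurd (X.toCfg.ee_inj (by norm_num) (by norm_num) h3) (by norm_num)

theorem conj_fixed {a : ℕ} (ha : a ∈ ([11, 15] : List ℕ)) {g : G} (hg : g ∈ M)
    (h : g⁻¹ * ee φ a * g ∈ esub φ) : g⁻¹ * ee φ a * g = ee φ a := by
  have ha16 : a < 16 := (by decide : ∀ a ∈ ([11, 15] : List ℕ), a < 16) a ha
  obtain ⟨A, hA⟩ : ∃ A, A = (esub φ).map (MulAut.conj g⁻¹).toMonoidHom := ⟨_, rfl⟩
  have hAe : Elem16 A := hA ▸ X.toCfg.elem16_esub.conj _
  have huA : ee φ 4 ∈ A := hA ▸ ⟨ee φ 4, ee_mem (by norm_num), by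
    show g⁻¹ * ee φ 4 * g⁻¹⁻¹ = ee φ 4
    rw [mem_cU.1 (inv_mem (hM hg)), mul_inv_cancel_right]⟩
  have hxA : g⁻¹ * ee φ a * g ∈ A := hA ▸ ⟨ee φ a, ee_mem ha16, by
    show g⁻¹ * ee φ a * g⁻¹⁻¹ = _; rw [inv_inv]⟩
  obtain ⟨c, hcx, hcu, hc⟩ := X.toCfg.exists_conj_pair hAe X.toCfg.elem16_esub hxA huA h
    (ee_mem (by norm_num))
  have hnN : c * g⁻¹ ∈ normalizer (esub φ : Set G) := by
    refine mem_normalizer_fintype fun e he => ?_
    rw [SetLike.mem_coe, ← hc]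
    refine ⟨g⁻¹ * e * g, hA ▸ ⟨e, he, by show g⁻¹ * e * g⁻¹⁻¹ = _; rw [inv_inv]⟩, ?_⟩
    show c * (g⁻¹ * e * g) * c⁻¹ = _; group
  have hnu : c * g⁻¹ ∈ cU φ := mul_mem (mem_cU.2 hcu) (inv_mem (hM hg))
  have hconj : c * g⁻¹ * ee φ a * (c * g⁻¹)⁻¹ = g⁻¹ * ee φ a * g := by
    calc c * g⁻¹ * ee φ a * (c * g⁻¹)⁻¹ = c * (g⁻¹ * ee φ a * g) * c⁻¹ := by group
      _ = _ := by rw [hcx, mul_inv_cancel_right]
  simp only [List.mem_cons, List.not_mem_nil, or_false] at ha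
  rcases X.conj_ab hnN hnu with ⟨e1, e2⟩ | ⟨e1, e2⟩
  · rcases ha with rfl | rfl
    · exact hconj.symm.trans e1
    · exact hconj.symm.trans e2
  exfalso
  have h11 : c * ee φ 11 = ee φ 11 * c := by
    rcases ha with rfl | rfl
    · rw [hconj] at e1
      rw [e1] at hcx
      rw [show ee φ 11 = ee φ 4 * ee φ 15 from (ee_mul φ (a := 4) (b := 15) (by norm_num) (by norm_num)).symm,
        ← mul_assoc, hcu, mul_assoc, hcx, ← mul_assoc]
    · rw [hconj] at e2
      rwa [e2] at hcx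
  have hnM : c * g⁻¹ ∈ M :=
    mul_mem (X.cab_le hM hEM hM32 hM3 (mem_cab.2 ⟨hcu, h11⟩)) (inv_mem hg)
  obtain ⟨f1, -⟩ := X.no_swap hM hEM hM32 hM3 hnM hnN
  exact absurd (X.toCfg.ee_inj (by norm_num) (by norm_num) (f1.symm.trans e1)) (by norm_num)

/-- The kernel of the transfer to `E`. -/
theorem exists_kernel : ∃ K1 : Subgroup G, K1 ≤ M ∧ (∀ m ∈ M, ∀ k ∈ K1, m * k * m⁻¹ ∈ K1) ∧
    (∀ a < 16, ee φ a ∈ K1 ↔ a ∈ ([0, 3, 5, 6] : List ℕ)) ∧
    (∀ g ∈ cU φ, g * (g * g) = 1 → g ∈ K1) ∧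
    ∃ r, r ∣ 16 ∧ Nat.card M = Nat.card K1 * r := by
  classical
  letI : CommGroup (esub φ) :=
    { (inferInstance : Group (esub φ)) with
      mul_comm := fun a b => Subtype.ext (X.toCfg.elem16_esub.comm a.2 b.2) }
  let f : (esub φ).subgroupOf M →* esub φ := (subgroupOfEquivOfLe hEM).toMonoidHom
  have hodd : Odd ((esub φ).subgroupOf M).index := by
    rw [← Nat.not_even_iff_odd, even_iff_two_dvd]
    rintro ⟨k, hk⟩
    apply hM32
    rw [← card_mul_index ((esub φ).subgroupOf M), Nat.card_congr (subgroupOfEquivOfLe hEM).toEquiv,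
      X.toCfg.elem16_esub.1, hk]
    exact ⟨k, by ring⟩
  obtain ⟨τ, hτdef⟩ : ∃ τ : M →* esub φ, τ = MonoidHom.transfer f := ⟨_, rfl⟩
  have hτ : ∀ a, a ∈ ([11, 15] : List ℕ) → ∀ ha : a < 16,
      τ ⟨ee φ a, hEM (ee_mem ha)⟩ = ⟨ee φ a, ee_mem ha⟩ := by
    intro a ha ha16
    rw [hτdef]
    refine transfer_involution _ hodd f (Subtype.ext (ee_sq φ ha16)) _ (Subtype.ext (ee_sq φ ha16))
      fun g hg => Subtype.ext ?_
    exact X.conj_fixed hM hEM hM32 hM3 ha g.2 (mem_subgroupOf.1 hg)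
  have hsq : ∀ z : esub φ, z * z = 1 := fun z => Subtype.ext (X.toCfg.elem16_esub.2 _ z.2)
  obtain ⟨-, hcn, x, hx, hx3, hx1, -⟩ := X.cab_facts
  have hxM := X.cab_le hM hEM hM32 hM3 hx
  have hxnot : x ∉ esub φ := fun h => hx1 (by
    have := hx3
    rwa [X.toCfg.elem16_esub.2 x h, mul_one] at this)
  -- `x` permutes `1, 2, 7` cyclically
  have himg : ∀ b ∈ ([1, 2, 7] : List ℕ), ∃ e ∈ ([1, 2, 7] : List ℕ), e ≠ b ∧
      x * ee φ b * x⁻¹ = ee φ e := by
    intro b hb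
    obtain ⟨hbde, hb11, hb15⟩ := (by decide : ∀ b ∈ ([1, 2, 7] : List ℕ),
      b ∈ ([1, 2, 7, 11, 15] : List ℕ) ∧ b ≠ 11 ∧ b ≠ 15) b hb
    obtain ⟨e, he, hee⟩ := X.conj_de (hcn hx) hbde
    have hinj : ∀ {c : ℕ}, c ∈ ([1, 2, 7, 11, 15] : List ℕ) → x * ee φ c = ee φ c * x → e = c → b = c :=
      fun {c} hc hxc hec => X.toCfg.ee_inj (de_lt b hbde) (de_lt c hc) (mul_left_cancel
        (mul_right_cancel (hee.trans (hec ▸ (mul_inv_eq_iff_eq_mul.2 hxc).symm))))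
    refine ⟨e, ?_, fun heb => ?_, hee⟩
    · have h11 : e ≠ 11 := fun h => hb11 (hinj (by decide) (mem_cab.1 hx).2 h)
      have h15 : e ≠ 15 := fun h => hb15 (hinj (by decide) (comm_fifteen hx) h)
      exact (by decide : ∀ e ∈ ([1, 2, 7, 11, 15] : List ℕ), e ≠ 11 → e ≠ 15 → e ∈ ([1, 2, 7] : List ℕ))
        e he h11 h15
    · refine hxnot (X.norm_fix_three (hcn hx) (a := 11) (b := 15) (by decide) (by decide) hbde
        (by decide) hb11.symm hb15.symm (mem_cab.1 hx).2 (comm_fifteen hx) ?_)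
      exact mul_inv_eq_iff_eq_mul.1 (by rw [hee, heb])
  obtain ⟨p, hp, hp1, hpe⟩ := himg 1 (by decide)
  obtain ⟨q, hq, hq2, hqe⟩ := himg 2 (by decide)
  obtain ⟨r, hr, hr7, hre⟩ := himg 7 (by decide)
  let T : ℕ → esub φ := fun a => if h : a < 16 then τ ⟨ee φ a, hEM (ee_mem h)⟩ else 1
  have hT : ∀ {a b : ℕ} (ha : a < 16) (hb : b < 16), x * ee φ a * x⁻¹ = ee φ b → T a = T b := by
    intro a b ha hb h
    simp only [T, dif_pos ha, dif_pos hb]
    rw [show (⟨ee φ b, hEM (ee_mem hb)⟩ : M) = ⟨x, hxM⟩ * ⟨ee φ a, hEM (ee_mem ha)⟩ * ⟨x, hxM⟩⁻¹ from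
      Subtype.ext h.symm, map_mul, map_mul, map_inv, mul_comm (τ ⟨x, hxM⟩), mul_inv_cancel_right]
  have hTmul : ∀ {a b : ℕ} (ha : a < 16) (hb : b < 16), T (a ^^^ b) = T a * T b := by
    intro a b ha hb
    simp only [T, dif_pos ha, dif_pos hb, dif_pos (xor_lt ha hb)]
    rw [← map_mul]
    exact congrArg τ (Subtype.ext (ee_mul φ ha hb).symm)
  have hl : ∀ {a : ℕ}, a ∈ ([1, 2, 7] : List ℕ) → a < 16 := fun h =>
    (by decide : ∀ a ∈ ([1, 2, 7] : List ℕ), a < 16) _ h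
  have t1 := hT (by norm_num) (hl hp) hpe
  have t2 := hT (by norm_num) (hl hq) hqe
  have t7 := hT (by norm_num) (hl hr) hre
  have hne : ∀ {a b c : ℕ}, a < 16 → b < 16 → x * ee φ a * x⁻¹ = ee φ c → x * ee φ b * x⁻¹ = ee φ c → a = b :=
    fun ha hb h h' => X.toCfg.ee_inj ha hb (mul_left_cancel (mul_right_cancel (h.trans h'.symm)))
  have hall : T 1 = T 2 ∧ T 2 = T 7 := by
    rcases derangement_three p q r hp hq hr hp1 hq2 hr7
      (fun h => absurd (hne (by norm_num) (by norm_num) hpe (h ▸ hqe)) (by norm_num))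
      (fun h => absurd (hne (by norm_num) (by norm_num) hpe (h ▸ hre)) (by norm_num))
      (fun h => absurd (hne (by norm_num) (by norm_num) hqe (h ▸ hre)) (by norm_num))
      with ⟨rfl, rfl, rfl⟩ | ⟨rfl, rfl, rfl⟩
    · exact ⟨t1, t2⟩
    · exact ⟨t2.symm, t7.symm⟩
  have hker : ∀ a, a ∈ ([0, 3, 5, 6] : List ℕ) → T a = 1 := by
    intro a ha
    have h0 : T 0 = 1 := by
      have := hTmul (a := 0) (b := 0) (by norm_num) (by norm_num)
      rwa [hsq] at this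
    simp only [List.mem_cons, List.not_mem_nil, or_false] at ha
    rcases ha with rfl | rfl | rfl | rfl
    · exact h0
    · rw [show (3 : ℕ) = 1 ^^^ 2 from rfl, hTmul (by norm_num) (by norm_num), hall.1, hsq]
    · rw [show (5 : ℕ) = 2 ^^^ 7 from rfl, hTmul (by norm_num) (by norm_num), hall.2, hsq]
    · rw [show (6 : ℕ) = 1 ^^^ 7 from rfl, hTmul (by norm_num) (by norm_num), hall.1, hall.2, hsq]
  have hw : ∀ w, w ∈ ([0, 4, 11, 15] : List ℕ) → ∀ hw16 : w < 16, T w = ⟨ee φ w, ee_mem hw16⟩ := by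
    intro w hw hw16
    have h11 : T 11 = ⟨ee φ 11, ee_mem (by norm_num)⟩ := hτ 11 (by decide) (by norm_num)
    have h15 : T 15 = ⟨ee φ 15, ee_mem (by norm_num)⟩ := hτ 15 (by decide) (by norm_num)
    simp only [List.mem_cons, List.not_mem_nil, or_false] at hw
    rcases hw with rfl | rfl | rfl | rfl
    · rw [hker 0 (by decide)]; exact Subtype.ext (ee_zero φ).symm
    · rw [show T 4 = T (11 ^^^ 15) from rfl, hTmul (by norm_num) (by norm_num), h11, h15]
      exact Subtype.ext (ee_mul φ (by norm_num) (by norm_num))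
    · exact h11
    · exact h15
  refine ⟨τ.ker.map M.subtype, map_subtype_le _, ?_, ?_, ?_,
    Nat.card τ.range, X.toCfg.elem16_esub.1 ▸ card_subgroup_dvd_card _, ?_⟩
  · rintro m hm _ ⟨k, hk, rfl⟩
    exact ⟨⟨m, hm⟩ * k * ⟨m, hm⟩⁻¹, (MonoidHom.normal_ker τ).conj_mem k hk _, rfl⟩
  · intro a ha
    constructor
    · rintro ⟨b, hb, hbe⟩
      have hTa : T a = 1 := by
        simp only [T, dif_pos ha]
        rw [show (⟨ee φ a, hEM (ee_mem ha)⟩ : M) = b from Subtype.ext hbe.symm]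
        exact hb
      obtain ⟨v, hv, w, hw', hvw⟩ := v_split ⟨a, ha⟩
      obtain ⟨hv16, hw16⟩ : v < 16 ∧ w < 16 :=
        ⟨(by decide : ∀ v ∈ ([0, 3, 5, 6] : List ℕ), v < 16) v hv,
          (by decide : ∀ w ∈ ([0, 4, 11, 15] : List ℕ), w < 16) w hw'⟩
      simp only at hvw
      rw [hvw, hTmul hv16 hw16, hker v hv, one_mul, hw w hw' hw16] at hTa
      have hw0 := X.toCfg.ee_inj hw16 (by norm_num) ((congrArg Subtype.val hTa).trans (ee_zero φ).symm)
      rw [hvw, hw0, Nat.xor_zero]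
      exact hv
    · intro h
      refine ⟨⟨ee φ a, hEM (ee_mem ha)⟩, ?_, rfl⟩
      have := hker a h
      simp only [T, dif_pos ha] at this
      exact this
  · intro g hg hg3
    refine ⟨⟨g, hM3 g hg hg3⟩, ?_, rfl⟩
    show τ _ = 1
    have h3 : τ ⟨g, hM3 g hg hg3⟩ * (τ ⟨g, hM3 g hg hg3⟩ * τ ⟨g, hM3 g hg hg3⟩) = 1 := by
      rw [← map_mul, ← map_mul, ← map_one τ]; exact congrArg τ (Subtype.ext hg3)
    rwa [hsq, mul_one] at h3
  · rw [card_map_of_injective (subtype_injective _), ← index_ker τ, card_mul_index]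

theorem M_eq_cab : M = cab φ := by
  classical
  haveI : Fact (Nat.Prime 2) := ⟨Nat.prime_two⟩
  haveI : Fact (Nat.Prime 3) := ⟨Nat.prime_three⟩
  obtain ⟨K1, hK1M, hnorm, hK1e, hK13, r, hr, hcardM⟩ := X.exists_kernel hM hEM hM32 hM3
  obtain ⟨hcab, hcn, x, hx, hx3, hx1, hsup⟩ := X.cab_facts
  have hxK : x ∈ K1 := hK13 x (mem_cU.2 (mem_cab.1 hx).1) hx3
  obtain ⟨W, hWdef⟩ : ∃ W : Subgroup K1, W = (esub φ).subgroupOf K1 := ⟨_, rfl⟩
  have hWmem : ∀ {w : K1}, w ∈ W ↔ ∃ a ∈ ([0, 3, 5, 6] : List ℕ), ee φ a = w := by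
    intro w
    rw [hWdef, mem_subgroupOf, mem_esub]
    constructor
    · rintro ⟨a, ha, hae⟩; exact ⟨a, (hK1e a ha).1 (hae ▸ w.2), hae⟩
    · rintro ⟨a, ha, hae⟩; exact ⟨a, (by decide : ∀ a ∈ ([0, 3, 5, 6] : List ℕ), a < 16) a ha, hae⟩
  have hv16 : ∀ {a : ℕ}, a ∈ ([0, 3, 5, 6] : List ℕ) → a < 16 := fun h =>
    (by decide : ∀ a ∈ ([0, 3, 5, 6] : List ℕ), a < 16) _ h
  have hW4 : Nat.card W = 4 := by
    let e : Fin 4 → ℕ := fun i => ([0, 3, 5, 6] : List ℕ).getD i 0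
    have he : ∀ i, e i ∈ ([0, 3, 5, 6] : List ℕ) := by decide
    have hei : ∀ i j, e i = e j → i = j := by decide
    have hes : ∀ a ∈ ([0, 3, 5, 6] : List ℕ), ∃ i, e i = a := by decide
    rw [← Nat.card_fin 4]
    refine (Nat.card_congr (Equiv.ofBijective
      (fun i => (⟨⟨ee φ (e i), (hK1e _ (hv16 (he i))).2 (he i)⟩, hWmem.2 ⟨_, he i, rfl⟩⟩ : W))
      ⟨fun i j h => hei i j (X.toCfg.ee_inj (hv16 (he i)) (hv16 (he j))
        (congrArg (fun z : W => ((z : K1) : G)) h)), ?_⟩)).symm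
    rintro ⟨⟨g, hg⟩, hgW⟩
    obtain ⟨a, ha, hae⟩ := hWmem.1 hgW
    obtain ⟨i, rfl⟩ := hes a ha
    exact ⟨i, Subtype.ext (Subtype.ext hae)⟩
  have hWsq : ∀ w ∈ W, w * w = 1 := fun w hw => by
    obtain ⟨a, ha, hae⟩ := hWmem.1 hw
    refine Subtype.ext ?_
    show (w : G) * w = 1
    rw [← hae]; exact ee_sq φ (hv16 ha)
  have hcent : CfsgLib.InvChar.HJKlein.Cent W := by
    refine ⟨hW4, hWsq, fun w hw hw1 c hc => ?_⟩
    obtain ⟨a, ha, hae⟩ := hWmem.1 hw
    have ha' : a ∈ ([3, 5, 6] : List ℕ) := by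
      rcases List.mem_cons.1 ha with rfl | h
      · exact absurd (Subtype.ext (hae.symm.trans (ee_zero φ))) hw1
      · exact h
    obtain ⟨hn, hp⟩ := X.cent_v ha' (hM (hK1M c.2))
      (by rw [hae]; exact congrArg Subtype.val hc)
    rw [hWdef]
    exact mem_subgroupOf.2 (X.two_elem_mem hM hEM hM32 hM3 (hK1M c.2) hn hp)
  obtain ⟨xB, hxB⟩ : ∃ xB : K1, (xB : G) = x := ⟨⟨x, hxK⟩, rfl⟩
  have hxBo : orderOf xB = 3 := by
    refine orderOf_eq_prime (Subtype.ext ?_) fun h => hx1 (by rw [← hxB, h]; rfl)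
    rw [Subgroup.coe_pow, hxB, pow_three, hx3]; rfl
  have hxW : xB ∉ W := fun h => by
    have := hWsq xB h
    have h2 : orderOf xB ∣ 2 := orderOf_dvd_of_pow_eq_one (by rw [pow_two, this])
    rw [hxBo] at h2; norm_num at h2
  have hxN : xB ∈ normalizer (W : Set K1) := by
    refine mem_normalizer_fintype fun w hw => ?_
    rw [SetLike.mem_coe, hWdef, mem_subgroupOf]
    rw [SetLike.mem_coe, hWdef, mem_subgroupOf] at hw
    show (xB : G) * w * (xB : G)⁻¹ ∈ esub φ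
    rw [hxB]
    exact (mem_normalizer_iff.1 (hcn hx) _).1 hw
  have hNge : 12 ≤ Nat.card (normalizer (W : Set K1)) := by
    have h1 := card_dvd_of_le (le_normalizer : W ≤ normalizer (W : Set K1))
    have h2 := card_dvd_of_le (zpowers_le.2 hxN)
    rw [hW4] at h1
    rw [Nat.card_zpowers, hxBo] at h2
    exact Nat.le_of_dvd Nat.card_pos (Nat.Coprime.mul_dvd_of_dvd_of_dvd (by norm_num : Nat.Coprime 4 3) h1 h2)
  have hbig : 4 < Nat.card K1 := lt_of_lt_of_le (by omega : 4 < Nat.card (normalizer (W : Set K1))) (card_le_card_group _)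
  rcases hcent.cases hbig with ⟨h12, -⟩ | h60
  · have h16 : 16 ∣ Nat.card M := X.toCfg.elem16_esub.1 ▸ card_dvd_of_le hEM
    have hM32' := hM32
    rw [hcardM, h12] at h16 hM32'
    have hr16 : r ≤ 16 := Nat.le_of_dvd (by norm_num) hr
    have hr4 : r ≤ 4 := by
      rcases (Nat.dvd_prime_pow Nat.prime_two).1 (show r ∣ 2 ^ 4 by norm_num; exact hr) with ⟨i, hi, rfl⟩
      interval_cases i <;> omega
    refine (eq_of_le_of_card_ge (X.cab_le hM hEM hM32 hM3) ?_).symm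
    rw [hcab, hcardM, h12]; omega
  exfalso
  -- order 60 is impossible
  obtain ⟨T, hT⟩ := hcent.sylow
  have hNle : Nat.card (normalizer (W : Set K1)) ≤ 12 := by
    haveI : Fintype (normalizer (W : Set K1)) := Fintype.ofFinite _
    haveI : Fintype W := Fintype.ofFinite _
    obtain ⟨w0, hw0⟩ : ∃ w0 : W, w0 ≠ 1 := by
      haveI : Nontrivial W := Finite.one_lt_card_iff_nontrivial.1 (by rw [hW4]; norm_num)
      exact exists_ne 1
    let f : normalizer (W : Set K1) → K1 := fun n => (n : K1) * w0 * (n : K1)⁻¹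
    have hfib : ∀ b ∈ (Finset.univ : Finset (normalizer (W : Set K1))).image f,
        (Finset.univ.filter fun n => f n = b).card ≤ 4 := by
      intro b hb
      obtain ⟨n0, -, rfl⟩ := Finset.mem_image.1 hb
      rw [← hW4, Nat.card_eq_fintype_card]
      refine Finset.card_le_card_of_injOn (fun n => if h : (n0 : K1)⁻¹ * n ∈ W then (⟨_, h⟩ : W) else 1)
        (fun n _ => Finset.mem_univ _) ?_
      intro n hn n' hn' he
      have hin : ∀ n : normalizer (W : Set K1), f n = f n0 → (n0 : K1)⁻¹ * n ∈ W := fun n h =>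
        hcent.2.2 _ w0.2 (fun e => hw0 (Subtype.ext e)) _ (by
          simp only [f] at h
          calc (n0 : K1)⁻¹ * n * w0 = (n0 : K1)⁻¹ * ((n : K1) * w0 * (n : K1)⁻¹) * n := by group
            _ = w0 * ((n0 : K1)⁻¹ * n) := by rw [h]; group)
      simp only [Finset.coe_filter, Finset.mem_univ, true_and, Set.mem_setOf_eq] at hn hn'
      simp only [dif_pos (hin n hn), dif_pos (hin n' hn')] at he
      exact Subtype.ext (mul_left_cancel (congrArg Subtype.val he))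
    have h1 := Finset.card_le_mul_card_image (Finset.univ : Finset (normalizer (W : Set K1))) 4 hfib
    have h2 : ((Finset.univ : Finset (normalizer (W : Set K1))).image f).card ≤ 3 := by
      have hsub : (Finset.univ : Finset (normalizer (W : Set K1))).image f ⊆
          (((Finset.univ : Finset W).erase 1).image Subtype.val) := by
        intro b hb
        obtain ⟨n, -, rfl⟩ := Finset.mem_image.1 hb
        refine Finset.mem_image.2 ⟨⟨_, (mem_normalizer_iff.1 n.2 _).1 w0.2⟩,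
          Finset.mem_erase.2 ⟨fun e => hw0 (Subtype.ext ?_), Finset.mem_univ _⟩, rfl⟩
        exact conj_eq_one_iff.1 (congrArg Subtype.val e)
      refine ((Finset.card_le_card hsub).trans Finset.card_image_le).trans ?_
      rw [Finset.card_erase_of_mem (Finset.mem_univ _), Finset.card_univ, ← Nat.card_eq_fintype_card, hW4]
    rw [Nat.card_eq_fintype_card, ← Finset.card_univ]
    omega
  have hTW : ((T : Sylow 2 K1) : Set K1) = (W : Set K1) := hT ▸ rfl
  have hsyl : Nat.card (Sylow 2 K1) = 5 := by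
    rw [T.card_eq_index_normalizer, hTW]
    have := card_mul_index (normalizer (W : Set K1))
    rw [h60, show Nat.card (normalizer (W : Set K1)) = 12 by omega] at this
    omega
  have hTfix : ∀ y ∈ normalizer (W : Set K1), y • T = T := fun y hy =>
    Sylow.smul_eq_iff_mem_normalizer.2 (by rw [hTW]; exact hy)
  have hQcard : ∀ Q : Sylow 2 K1, Nat.card (Q : Subgroup K1) = 2 ^ 2 := fun Q => by
    rw [Nat.card_congr (Sylow.equiv Q T).toEquiv, show Nat.card T = Nat.card (T : Subgroup K1) from rfl, hT, hW4]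
    norm_num
  have hQsq : ∀ Q : Sylow 2 K1, ∀ q ∈ (Q : Subgroup K1), q * q = 1 := by
    intro Q q hq
    obtain ⟨g, hg⟩ := MulAction.exists_smul_eq K1 Q T
    have : g * q * g⁻¹ ∈ W := by rw [← hT, ← hg]; exact ⟨q, hq, rfl⟩
    have h := hWsq _ this
    rw [show g * q * g⁻¹ * (g * q * g⁻¹) = g * (q * q) * g⁻¹ by group, conj_eq_one_iff] at h
    exact h
  have hQne : ∀ {Q : Sylow 2 K1}, Q ≠ T → ∀ {w : K1}, w ∈ W → w ≠ 1 → w ∉ (Q : Subgroup K1) := by
    intro Q hQ w hw hw1 hwQ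
    refine hQ (Sylow.ext (eq_of_le_of_card_ge (fun q hq => ?_) (by rw [hQcard, hQcard])))
    rw [hT]
    exact hcent.2.2 w hw hw1 q (comm_of_card_four (hQcard Q) hq hwQ)
  obtain ⟨F, hF⟩ : ∃ F : Set (Sylow 2 K1), F = MulAction.fixedPoints (zpowers xB) (Sylow 2 K1) := ⟨_, rfl⟩
  have hmemF : ∀ Q, Q ∈ F ↔ xB • Q = Q := by
    intro Q
    rw [hF, MulAction.mem_fixedPoints]
    refine ⟨fun h => h ⟨xB, mem_zpowers _⟩, fun h g => ?_⟩
    have : xB ∈ MulAction.stabilizer K1 Q := h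
    exact (zpowers_le.2 this g.2 : (g : K1) ∈ MulAction.stabilizer K1 Q)
  have hTF : T ∈ F := (hmemF T).2 (hTfix xB hxN)
  have hmod : Nat.card (Sylow 2 K1) ≡ Nat.card F [MOD 3] := by
    rw [hF]
    exact (IsPGroup.of_card (p := 3) (n := 1) (by rw [Nat.card_zpowers, hxBo, pow_one])).card_modEq_card_fixedPoints _
  have hFle : Nat.card F ≤ 5 := hsyl ▸ Nat.card_le_card_of_injective _ Subtype.val_injective
  rw [hsyl] at hmod
  unfold Nat.ModEq at hmod
  rcases (by omega : Nat.card F = 2 ∨ Nat.card F = 5) with h2 | h5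
  · -- the second fixed point is invariant under `11`
    obtain ⟨Q, hQ, hQuniq⟩ := (Nat.card_eq_two_iff' (⟨T, hTF⟩ : F)).1 h2
    have ha11 : ee φ 11 ∈ M := hEM (ee_mem (by norm_num))
    let α : MulAut K1 :=
      { toFun := fun b => ⟨ee φ 11 * b * (ee φ 11)⁻¹, hnorm _ ha11 _ b.2⟩
        invFun := fun b => ⟨ee φ 11 * b * (ee φ 11)⁻¹, hnorm _ ha11 _ b.2⟩
        left_inv := fun b => Subtype.ext (by
          show ee φ 11 * (ee φ 11 * b * (ee φ 11)⁻¹) * (ee φ 11)⁻¹ = b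
          rw [show ee φ 11 * (ee φ 11 * b * (ee φ 11)⁻¹) * (ee φ 11)⁻¹ =
            ee φ 11 * ee φ 11 * b * (ee φ 11 * ee φ 11)⁻¹ by group, ee_sq φ (by norm_num)]
          group)
        right_inv := fun b => Subtype.ext (by
          show ee φ 11 * (ee φ 11 * b * (ee φ 11)⁻¹) * (ee φ 11)⁻¹ = b
          rw [show ee φ 11 * (ee φ 11 * b * (ee φ 11)⁻¹) * (ee φ 11)⁻¹ =
            ee φ 11 * ee φ 11 * b * (ee φ 11 * ee φ 11)⁻¹ by group, ee_sq φ (by norm_num)]
          group)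
        map_mul' := fun a b => Subtype.ext (by
          show ee φ 11 * ((a : G) * b) * (ee φ 11)⁻¹ = ee φ 11 * a * (ee φ 11)⁻¹ * (ee φ 11 * b * (ee φ 11)⁻¹)
          group) }
    have hαval : ∀ b : K1, ((α b : K1) : G) = ee φ 11 * b * (ee φ 11)⁻¹ := fun _ => rfl
    have hαx : α xB = xB := Subtype.ext (by
      rw [hαval, hxB, ← (mem_cab.1 hx).2, mul_inv_cancel_right])
    have hαW : ∀ w ∈ W, α w = w := fun w hw => Subtype.ext (by
      rw [hαval, X.toCfg.elem16_esub.comm (ee_mem (by norm_num)) (mem_subgroupOf.1 (hWdef ▸ hw)),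
        mul_inv_cancel_right])
    have hαT : α • T = T := by
      refine Sylow.ext (eq_of_le_of_card_ge ?_ (by rw [hQcard, hQcard]))
      rintro _ ⟨q, hq, rfl⟩
      show α q ∈ (T : Subgroup K1)
      rw [hαW q (hT ▸ hq)]; exact hq
    have hαF : α • (Q : Sylow 2 K1) ∈ F := by
      rw [hmemF]
      refine Sylow.ext (eq_of_le_of_card_ge ?_ (by rw [hQcard, hQcard]))
      rintro _ ⟨_, ⟨q, hq, rfl⟩, rfl⟩
      refine ⟨xB * q * xB⁻¹, ?_, ?_⟩
      · have h := (hmemF Q).1 Q.2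
        rw [← h]
        exact ⟨q, hq, rfl⟩
      · show α (xB * q * xB⁻¹) = xB * α q * xB⁻¹
        rw [map_mul, map_mul, map_inv, hαx]
    have hαQ : α • (Q : Sylow 2 K1) = Q := by
      refine congrArg Subtype.val (hQuniq ⟨_, hαF⟩ fun e => hQ (Subtype.ext ?_))
      exact smul_left_cancel α ((congrArg Subtype.val e).trans hαT.symm)
    have hmap : ∀ q ∈ ((Q : Sylow 2 K1) : Subgroup K1), α q ∈ ((Q : Sylow 2 K1) : Subgroup K1) :=
      fun q hq => by rw [← hαQ]; exact ⟨q, hq, rfl⟩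
    have hne : ∃ q ∈ ((Q : Sylow 2 K1) : Subgroup K1), q ≠ 1 := by
      by_contra hc
      push Not at hc
      have := hQcard (Q : Sylow 2 K1)
      rw [(eq_bot_iff_forall _).2 hc, Subgroup.card_bot] at this
      norm_num at this
    obtain ⟨q, hq, hq1, hqa⟩ := exists_fixed_of_involutive _ α.toMonoidHom hne hmap
      (fun q _ => α.left_inv q) (hQsq _)
    refine hQne (fun e => hQ (Subtype.ext e)) ?_ hq1 hq
    have hqE : (q : G) ∈ cab φ := mem_cab.2 ⟨mem_cU.1 (hM (hK1M q.2)), by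
      exact (mul_inv_eq_iff_eq_mul.1 ((hαval q).symm.trans (congrArg Subtype.val hqa))).symm⟩
    rw [hWdef, mem_subgroupOf]
    refine X.two_elem_mem hM hEM hM32 hM3 (hK1M q.2) (hcn hqE) (k := 1) ?_
    rw [pow_one, pow_two]
    exact congrArg Subtype.val (hQsq _ q hq)
  · -- `x` cannot fix all five
    haveI : Fintype (Sylow 2 K1) := Fintype.ofFinite _
    have hall : ∀ Q : Sylow 2 K1, xB • Q = Q := fun Q => by
      have hFu : F = Set.univ := Set.eq_of_subset_of_ncard_le (Set.subset_univ _)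
        (by rw [Set.ncard_univ, hsyl, Set.ncard, ← h5]; exact le_of_eq rfl)
      exact (hmemF Q).1 (hFu ▸ Set.mem_univ Q)
    obtain ⟨Q, hQ⟩ : ∃ Q : Sylow 2 K1, Q ≠ T := by
      haveI : Nontrivial (Sylow 2 K1) := Finite.one_lt_card_iff_nontrivial.1 (by omega)
      exact exists_ne T
    obtain ⟨v, hv, hv1⟩ : ∃ v ∈ W, v ≠ 1 := by
      haveI : Nontrivial W := Finite.one_lt_card_iff_nontrivial.1 (by rw [hW4]; norm_num)
      obtain ⟨v, hv⟩ := exists_ne (1 : W)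
      exact ⟨v, v.2, fun e => hv (Subtype.ext e)⟩
    have hy : v * (xB * v⁻¹ * xB⁻¹) ∈ W :=
      mul_mem hv ((mem_normalizer_iff.1 hxN _).1 (inv_mem hv))
    have hy1 : v * (xB * v⁻¹ * xB⁻¹) ≠ 1 := fun e => hxW (hcent.2.2 v hv hv1 xB (by
      have h := inv_eq_of_mul_eq_one_right e
      calc xB * v = xB * (v * v) * v⁻¹ := by group
        _ = (xB * v⁻¹ * xB⁻¹)⁻¹ * xB := by group
        _ = v * xB := by rw [← h, inv_inv]))
    have hyQ : (v * (xB * v⁻¹ * xB⁻¹)) • Q = Q := by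
      rw [mul_smul, mul_smul, mul_smul,
        show xB⁻¹ • Q = Q from (smul_eq_iff_eq_inv_smul xB).1 (hall Q) |>.symm,
        hall (v⁻¹ • Q), smul_inv_smul]
    have hN := Sylow.smul_eq_iff_mem_normalizer.1 hyQ
    have hP : IsPGroup 2 (zpowers (v * (xB * v⁻¹ * xB⁻¹))) := IsPGroup.of_card (n := 1) (by
      rw [Nat.card_zpowers, pow_one]
      exact orderOf_eq_prime (by rw [pow_two]; exact hWsq _ hy) hy1)
    have hsup := (IsPGroup.to_sup_of_normal_left' Q.isPGroup' hP (zpowers_le.2 hN))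
    have : (Q : Subgroup K1) ⊔ zpowers (v * (xB * v⁻¹ * xB⁻¹)) = Q := Q.is_maximal' hsup le_sup_left
    exact hQne hQ hy hy1 (this ▸ mem_sup_right (mem_zpowers _))

end

/-- The centralizer of the second involution has order 96 and normalises `E`. -/
theorem cent_u : Nat.card (cU φ) = 96 ∧ cU φ ≤ normalizer (esub φ : Set G) := by
  obtain ⟨M, hM, hEM, hcard, hsup, hM3⟩ := X.exists_index_two
  have hM32 : ¬ 32 ∣ Nat.card M := fun h => X.not_two_pow (by
    rw [hcard, show (2 : ℕ) ^ 6 = 2 * 32 by norm_num]; exact Nat.mul_dvd_mul_left 2 h)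
  have he := X.M_eq_cab hM hEM hM32 hM3
  obtain ⟨h48, hn, -⟩ := X.cab_facts
  refine ⟨by rw [hcard, he, h48], ?_⟩
  rw [← hsup, he]
  exact sup_le hn X.toCfg.pU_le_norm

end Cfg2

end CfsgLib.Recog.U4Two
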