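import Cfsg.Agent.Lib.Recog.U4Two.Fusion
import Cfsg.Agent.Lib.Recog.U4Two.CentFacts

/-!
The 2-local structure of the centralizer of the second involution.
-/

set_option autoImplicit false
set_option linter.unusedSectionVars false
set_option linter.style.haveILetI false

namespace CfsgLib.Recog.U4Two

open Subgroup Cm

theorem de_lt : ∀ a ∈ ([1, 2, 7, 11, 15] : List ℕ), a < 16 := by decide

namespace Cfg

variable {G : Type*} [Group G] {t : G} {φ : Cm →* G} (X : Cfg t φ)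

/-- The centralizer of the second involution. -/
def cU (φ : Cm →* G) : Subgroup G := centralizer ({ee φ 4} : Set G)

/-- Its intersection with the centralizer of `t`. -/
def pU (φ : Cm →* G) : Subgroup G := (centralizer ({io 4} : Set Cm)).map φ

theorem mem_cU {g : G} : g ∈ cU φ ↔ g * ee φ 4 = ee φ 4 * g := mem_centralizer_singleton_iff

theorem ee_mem_cU {a : ℕ} (ha : a < 16) : ee φ a ∈ cU φ := mem_cU.2 (ee_comm φ ha (by norm_num))

theorem esub_le_cU : esub φ ≤ cU φ := by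
  rintro _ ⟨a, ha, rfl⟩; exact ee_mem_cU ha

theorem pU_le_cU : pU φ ≤ cU φ := by
  rintro _ ⟨c, hc, rfl⟩
  rw [SetLike.mem_coe, mem_centralizer_singleton_iff] at hc
  rw [mem_cU, ee, ← map_mul, ← map_mul, hc]

theorem esub_le_pU : esub φ ≤ pU φ := by
  rintro _ ⟨a, ha, rfl⟩
  refine ⟨io a, ?_, rfl⟩
  rw [SetLike.mem_coe, mem_centralizer_singleton_iff]
  exact ((io_mul ⟨a, ha⟩ ⟨4, by norm_num⟩).symm.trans (congrArg io (Nat.xor_comm a 4))).trans
    (io_mul ⟨4, by norm_num⟩ ⟨a, ha⟩)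

include X

theorem mem_pU {g : G} (h1 : g * t = t * g) (h2 : g ∈ cU φ) : g ∈ pU φ := by
  obtain ⟨c, rfl⟩ := (X.range g).1 h1
  refine ⟨c, mem_centralizer_singleton_iff.2 (X.inj ?_), rfl⟩
  rw [map_mul, map_mul]
  exact mem_cU.1 h2

theorem card_pU : Nat.card (pU φ) = 32 := by
  classical
  rw [pU, card_map_of_injective X.inj, ← card_cent_four, ← Nat.card_eq_finsetCard]
  exact Nat.card_congr (Equiv.subtypeEquivRight fun p => by
    rw [mem_centralizer_singleton_iff]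
    exact ⟨fun h => Finset.mem_filter.2 ⟨Finset.mem_univ _, h⟩, fun h => (Finset.mem_filter.1 h).2⟩)

variable [Finite G]

theorem pU_le_norm : pU φ ≤ normalizer (esub φ : Set G) := by
  rintro _ ⟨c, hc, rfl⟩
  rw [SetLike.mem_coe, mem_centralizer_singleton_iff] at hc
  refine X.normE_mem (conj_inE_norm (4 : Fin 16) (by decide) c ?_)
  rw [show ((4 : Fin 16) : ℕ) = 4 from rfl, hc, mul_inv_cancel_right]
  exact (inE_iff _).2 ⟨(4 : Fin 16), rfl⟩

/-- The code of an element of the centralizer of `t` normalising `E`. -/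
theorem inE_of_commutes {q : Cm} {a b : ℕ} (ha : a ∈ ([2, 7, 11, 15] : List ℕ))
    (hb : b ∈ ([2, 7, 11, 15] : List ℕ)) (hab : a ≠ b) (h1 : φ q * ee φ a = ee φ a * φ q)
    (h2 : φ q * ee φ b = ee φ b * φ q) : φ q ∈ esub φ :=
  X.map_mem_esub.2 (norm_two_wp a ha b hb hab q
    (X.inj (by rw [map_mul, map_mul]; exact h1)) (X.inj (by rw [map_mul, map_mul]; exact h2)))

end Cfg

namespace Cfg2

variable {G : Type*} [Group G] [Finite G] {t : G} {φ : Cm →* G} (X : Cfg2 t φ)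

include X

open Cfg

theorem conj_de {n : G} (hn : n ∈ normalizer (esub φ : Set G)) {d : ℕ}
    (hd : d ∈ ([1, 2, 7, 11, 15] : List ℕ)) :
    ∃ e ∈ ([1, 2, 7, 11, 15] : List ℕ), n * ee φ d * n⁻¹ = ee φ e := by
  obtain ⟨b, hb, hbe⟩ := mem_esub.1 ((mem_normalizer_iff.1 hn _).1 (ee_mem (φ := φ) (de_lt d hd)))
  refine ⟨b, (X.isConj_ee hb).1 ?_, hbe.symm⟩
  exact ((X.isConj_ee (de_lt d hd)).2 hd).trans (isConj_iff.2 ⟨n, hbe.symm⟩)

/-- An element of the normaliser fixing three conjugates of `t` in `E` lies in `E`. -/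
theorem norm_fix_three {n : G} (hn : n ∈ normalizer (esub φ : Set G)) {a b c : ℕ}
    (ha : a ∈ ([1, 2, 7, 11, 15] : List ℕ)) (hb : b ∈ ([1, 2, 7, 11, 15] : List ℕ))
    (hc : c ∈ ([1, 2, 7, 11, 15] : List ℕ)) (hab : a ≠ b) (hac : a ≠ c) (hbc : b ≠ c)
    (h1 : n * ee φ a = ee φ a * n) (h2 : n * ee φ b = ee φ b * n) (h3 : n * ee φ c = ee φ c * n) :
    n ∈ esub φ := by
  obtain ⟨m, hm, hmc⟩ := (X.orbit_iff (de_lt c hc)).2 hc
  obtain ⟨n', hn'⟩ : ∃ n', n' = m⁻¹ * n * m := ⟨_, rfl⟩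
  have key : ∀ {g : G}, n * g = g * n → n' * (m⁻¹ * g * m) = m⁻¹ * g * m * n' := fun {g} hg => by
    calc n' * (m⁻¹ * g * m) = m⁻¹ * (n * g) * m := by rw [hn']; group
      _ = m⁻¹ * (g * n) * m := by rw [hg]
      _ = m⁻¹ * g * m * n' := by rw [hn']; group
  have ht : m⁻¹ * ee φ c * m = t := by rw [← hmc]; group
  obtain ⟨q, hq⟩ := (X.range n').1 (by have := key h3; rwa [ht] at this)
  have himg : ∀ d ∈ ([1, 2, 7, 11, 15] : List ℕ), d ≠ c →
      ∃ e ∈ ([2, 7, 11, 15] : List ℕ), m⁻¹ * ee φ d * m = ee φ e := by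
    intro d hd hdc
    obtain ⟨e, he, hee⟩ := X.conj_de (inv_mem hm) hd
    rw [inv_inv] at hee
    refine ⟨e, ?_, hee⟩
    rcases List.mem_cons.1 he with rfl | he'
    · rw [X.toCfg.ee_one, ← ht] at hee
      exact absurd (X.toCfg.ee_inj (de_lt d hd) (de_lt c hc)
        (mul_left_cancel (mul_right_cancel hee))) hdc
    · exact he'
  obtain ⟨a', ha', hae⟩ := himg a ha hac
  obtain ⟨b', hb', hbe⟩ := himg b hb hbc
  have hne : a' ≠ b' := fun h => hab (X.toCfg.ee_inj (de_lt a ha) (de_lt b hb)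
    (mul_left_cancel (mul_right_cancel (hae.trans (h ▸ hbe.symm)))))
  have hmem : n' ∈ esub φ := by
    rw [← hq]
    refine X.toCfg.inE_of_commutes ha' hb' hne ?_ ?_
    · have := key h1; rwa [hae, ← hq] at this
    · have := key h2; rwa [hbe, ← hq] at this
  have := (mem_normalizer_iff.1 hm n').1 hmem
  rwa [hn', show m * (m⁻¹ * n * m) * m⁻¹ = n by group] at this

/-- The images of `11` and `15` under an element of `N(E)` fixing `4`. -/
theorem conj_ab {n : G} (hn : n ∈ normalizer (esub φ : Set G)) (hu : n ∈ cU φ) :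
    (n * ee φ 11 * n⁻¹ = ee φ 11 ∧ n * ee φ 15 * n⁻¹ = ee φ 15) ∨
      (n * ee φ 11 * n⁻¹ = ee φ 15 ∧ n * ee φ 15 * n⁻¹ = ee φ 11) := by
  obtain ⟨a, ha, hae⟩ := X.conj_de hn (d := 11) (by decide)
  obtain ⟨b, hb, hbe⟩ := X.conj_de hn (d := 15) (by decide)
  have h4 : ee φ (a ^^^ b) = ee φ (11 ^^^ 15) := by
    rw [← ee_mul φ (de_lt a ha) (de_lt b hb), ← hae, ← hbe,
      show n * ee φ 11 * n⁻¹ * (n * ee φ 15 * n⁻¹) = n * (ee φ 11 * ee φ 15) * n⁻¹ by group,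
      ee_mul φ (by norm_num) (by norm_num), show (11 : ℕ) ^^^ 15 = 4 from rfl, mem_cU.1 hu,
      mul_inv_cancel_right]
  have hne : a ≠ b := fun h => by
    have := mul_left_cancel (mul_right_cancel (hae.trans (h ▸ hbe.symm)))
    exact absurd (X.toCfg.ee_inj (by norm_num) (by norm_num) this) (by norm_num)
  rcases pair_unique a ha b hb 11 (by decide) 15 (by decide)
    (X.toCfg.ee_inj (xor_lt (de_lt a ha) (de_lt b hb)) (xor_lt (by norm_num) (by norm_num)) h4) hne with ⟨rfl, rfl⟩ | ⟨rfl, rfl⟩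
  · exact Or.inl ⟨hae, hbe⟩
  · exact Or.inr ⟨hae, hbe⟩

theorem norm_cent_pair {a : ℕ} (ha : a ∈ ([8, 9, 10, 12, 13, 14] : List ℕ)) {n : G}
    (hn : n ∈ normalizer (esub φ : Set G)) (hu : n ∈ cU φ) (hna : n * ee φ a = ee φ a * n) :
    n ∈ esub φ := by
  obtain ⟨x, hx, y, hy, rfl⟩ := pair_split a ha
  have hxde : x ∈ ([1, 2, 7, 11, 15] : List ℕ) :=
    (by decide : ∀ x ∈ ([11, 15] : List ℕ), x ∈ ([1, 2, 7, 11, 15] : List ℕ)) x hx
  have hyde : y ∈ ([1, 2, 7, 11, 15] : List ℕ) :=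
    (by decide : ∀ y ∈ ([1, 2, 7] : List ℕ), y ∈ ([1, 2, 7, 11, 15] : List ℕ)) y hy
  obtain ⟨hy1, hy2⟩ : y ≠ 11 ∧ y ≠ 15 :=
    (by decide : ∀ y ∈ ([1, 2, 7] : List ℕ), y ≠ 11 ∧ y ≠ 15) y hy
  obtain ⟨x', hx', hxe⟩ := X.conj_de hn hxde
  obtain ⟨y', hy', hye⟩ := X.conj_de hn hyde
  have hxy : x ≠ y := fun h => by
    rw [h] at hx
    simp only [List.mem_cons, List.not_mem_nil, or_false] at hx
    exact hx.elim hy1 hy2
  have h4 : ee φ (x' ^^^ y') = ee φ (x ^^^ y) := by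
    rw [← ee_mul φ (de_lt x' hx') (de_lt y' hy'), ← hxe, ← hye,
      show n * ee φ x * n⁻¹ * (n * ee φ y * n⁻¹) = n * (ee φ x * ee φ y) * n⁻¹ by group,
      ee_mul φ (de_lt x hxde) (de_lt y hyde), hna, mul_inv_cancel_right]
  have hne : x' ≠ y' := fun h => hxy (X.toCfg.ee_inj (de_lt x hxde) (de_lt y hyde)
    (mul_left_cancel (mul_right_cancel (hxe.trans (h ▸ hye.symm)))))
  -- `n` fixes `11`, `15` and `y`
  have key : n * ee φ x * n⁻¹ = ee φ x ∧ n * ee φ y * n⁻¹ = ee φ y := by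
    rcases pair_unique x' hx' y' hy' x hxde y hyde
      (X.toCfg.ee_inj (xor_lt (de_lt x' hx') (de_lt y' hy')) (xor_lt (de_lt x hxde) (de_lt y hyde)) h4)
      hne with ⟨h', h''⟩ | ⟨h', h''⟩
    · rw [h'] at hxe
      rw [h''] at hye
      exact ⟨hxe, hye⟩
    · exfalso
      rw [h'] at hxe
      -- `x` would go to `y`, but `{11, 15}` is invariant
      simp only [List.mem_cons, List.not_mem_nil, or_false] at hx
      have hin := fun {p : ℕ} (hp : p < 16) (h : n * ee φ x * n⁻¹ = ee φ p) =>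
        X.toCfg.ee_inj hp (de_lt _ hyde) (h.symm.trans hxe)
      rcases X.conj_ab hn hu with ⟨e1, e2⟩ | ⟨e1, e2⟩ <;> rcases hx with rfl | rfl
      all_goals first
        | exact hy1 (hin (by norm_num) e1).symm
        | exact hy2 (hin (by norm_num) e1).symm
        | exact hy1 (hin (by norm_num) e2).symm
        | exact hy2 (hin (by norm_num) e2).symm
  rcases X.conj_ab hn hu with ⟨e1, e2⟩ | ⟨e1, e2⟩
  · exact X.norm_fix_three hn (a := 11) (b := 15) (c := y) (by decide) (by decide) hyde (by decide)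
      (Ne.symm hy1) (Ne.symm hy2) (mul_inv_eq_iff_eq_mul.1 e1) (mul_inv_eq_iff_eq_mul.1 e2)
      (mul_inv_eq_iff_eq_mul.1 key.2)
  · exfalso
    simp only [List.mem_cons, List.not_mem_nil, or_false] at hx
    rcases hx with rfl | rfl
    · exact absurd (X.toCfg.ee_inj (by norm_num) (by norm_num) (e1.symm.trans key.1)) (by norm_num)
    · exact absurd (X.toCfg.ee_inj (by norm_num) (by norm_num) (e2.symm.trans key.1)) (by norm_num)

/-- A 2-subgroup of `C(u, x)` containing `E` is `E`. -/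
theorem two_group_eq {a : ℕ} (ha : a ∈ ([8, 9, 10, 12, 13, 14] : List ℕ)) {R : Subgroup G}
    (hR : IsPGroup 2 R) (hE : esub φ ≤ R) (hu : R ≤ cU φ)
    (hc : ∀ g ∈ R, g * ee φ a = ee φ a * g) : R = esub φ := by
  haveI : Fact (Nat.Prime 2) := ⟨Nat.prime_two⟩
  refine le_antisymm ?_ hE
  by_contra hne
  have hlt : (esub φ).subgroupOf R < ⊤ := lt_top_iff_ne_top.2 fun h => hne (subgroupOf_eq_top.1 h)
  haveI := hR.isNilpotent
  obtain ⟨x, hxN, hxE⟩ :=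
    SetLike.exists_of_lt (Group.normalizerCondition_of_isNilpotent ((esub φ).subgroupOf R) hlt)
  have hxn : (x : G) ∈ normalizer (esub φ : Set G) := by
    refine mem_normalizer_fintype fun g hg => ?_
    exact mem_subgroupOf.1 ((mem_normalizer_iff.1 hxN ⟨g, hE hg⟩).1 (mem_subgroupOf.2 hg))
  exact hxE (mem_subgroupOf.2 (X.norm_cent_pair ha hxn (hu x.2) (hc x x.2)))

/-- An involution of `C(u, t)` outside `E` has no conjugate in `E` inside `C(u)`. -/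
theorem outer_not_conj {y : G} (hy : y ∈ pU φ) (hy2 : y * y = 1) (hyE : y ∉ esub φ) {k : G}
    (hk : k ∈ cU φ) : k * y * k⁻¹ ∉ esub φ := by
  haveI : Fact (Nat.Prime 2) := ⟨Nat.prime_two⟩
  intro hxE
  obtain ⟨q, hq, rfl⟩ := hy
  rw [SetLike.mem_coe, mem_centralizer_singleton_iff] at hq
  have hq1 : q ≠ 1 := fun h => hyE (by rw [h, map_one]; exact one_mem _)
  have hqE : inE q = false := by
    rw [Bool.eq_false_iff]; exact fun h => hyE (X.toCfg.map_mem_esub.2 h)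
  have hq2 : q * q = 1 := X.inj (by rw [map_mul, map_one]; exact hy2)
  obtain ⟨hu1, hu2⟩ := outer_class q ((mem_invL q hq2).resolve_left hq1) hq hqE
  obtain ⟨a, ha16, hae⟩ := mem_esub.1 hxE
  have hno : ∀ {p : Cm}, p ∈ Cm.uL → ∀ {b : ℕ}, b < 16 → IsConj (φ p) (ee φ b) →
      b ∉ ([1, 2, 7, 11, 15] : List ℕ) := fun hp b hb hconj hin =>
    X.four_not_conj (((X.isConj_ee hb).2 hin).trans (hconj.symm.trans (X.isConj_phi_u hp).symm))
  have hn1 := hno hu1 ha16 (isConj_iff.2 ⟨k, hae.symm⟩)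
  have hn2 := hno hu2 (xor_lt ha16 (by norm_num : 4 < 16)) (isConj_iff.2 ⟨k, by
    rw [map_mul, ← ee_mul φ ha16 (by norm_num : 4 < 16), hae,
      show φ (io 4) = ee φ 4 from rfl, show k * (φ q * ee φ 4) * k⁻¹ = k * φ q * k⁻¹ * (k * ee φ 4 * k⁻¹) by group,
      show k * ee φ 4 * k⁻¹ = ee φ 4 by rw [mem_cU.1 hk, mul_inv_cancel_right]]⟩)
  have hn0 : a ≠ 0 := fun h => by
    rw [h, ee_zero, eq_comm, conj_eq_one_iff, ← map_one φ] at hae
    exact hq1 (X.inj hae)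
  have hn4 : a ≠ 4 := fun h => by
    rw [h, ← mul_right_inj k⁻¹, ← mul_left_inj k] at hae
    rw [show k⁻¹ * (k * φ q * k⁻¹) * k = φ q by group,
      show k⁻¹ * ee φ 4 * k = ee φ 4 by rw [mul_assoc, ← mem_cU.1 hk, inv_mul_cancel_left]] at hae
    exact hyE (hae ▸ ee_mem (by norm_num : 4 < 16))
  have ha : a ∈ ([8, 9, 10, 12, 13, 14] : List ℕ) :=
    (by decide : ∀ a : Fin 16, (a : ℕ) ∉ ([1, 2, 7, 11, 15] : List ℕ) →
      (a : ℕ) ^^^ 4 ∉ ([1, 2, 7, 11, 15] : List ℕ) → (a : ℕ) ≠ 0 → (a : ℕ) ≠ 4 →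
      (a : ℕ) ∈ ([8, 9, 10, 12, 13, 14] : List ℕ)) ⟨a, ha16⟩ hn1 hn2 hn0 hn4
  -- transport to `y`
  obtain ⟨E1, hE1⟩ : ∃ E1, E1 = (esub φ).map (MulAut.conj k⁻¹).toMonoidHom := ⟨_, rfl⟩
  have he1 : Elem16 E1 := hE1 ▸ X.toCfg.elem16_esub.conj k⁻¹
  have hkinv : k⁻¹ * ee φ 4 * k⁻¹⁻¹ = ee φ 4 := by
    rw [mem_cU.1 (inv_mem hk), mul_inv_cancel_right]
  have huE1 : ee φ 4 ∈ E1 := hE1 ▸ ⟨ee φ 4, ee_mem (by norm_num), by simpa using hkinv⟩
  have hyE1 : φ q ∈ E1 := hE1 ▸ ⟨k * φ q * k⁻¹, hxE, by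
    show k⁻¹ * (k * φ q * k⁻¹) * k⁻¹⁻¹ = φ q; group⟩
  obtain ⟨D, hD⟩ : ∃ D, D = cU φ ⊓ centralizer ({φ q} : Set G) := ⟨_, rfl⟩
  have hE1D : E1 ≤ D := fun g hg => hD ▸ ⟨mem_cU.2 (he1.comm hg huE1),
    mem_centralizer_singleton_iff.2 (he1.comm hg hyE1)⟩
  have hmax : ∀ R : Subgroup G, IsPGroup 2 R → E1 ≤ R → R ≤ D → R = E1 := by
    intro R hR h1 h2
    have h := X.two_group_eq ha (hR.map (MulAut.conj k).toMonoidHom) ?_ ?_ ?_
    · rw [hE1, ← h, map_map]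
      convert (map_id R).symm using 2
      ext g; simp [mul_assoc]
    · intro e he
      refine ⟨k⁻¹ * e * k, h1 (hE1 ▸ ⟨e, he, by simp⟩), ?_⟩
      show k * (k⁻¹ * e * k) * k⁻¹ = e; group
    · rintro _ ⟨g, hg, rfl⟩
      exact mul_mem (mul_mem hk ((hD ▸ h2 hg : g ∈ cU φ ⊓ _)).1) (inv_mem hk)
    · rintro _ ⟨g, hg, rfl⟩
      have := mem_centralizer_singleton_iff.1 ((hD ▸ h2 hg : g ∈ cU φ ⊓ _)).2
      show k * g * k⁻¹ * ee φ a = ee φ a * (k * g * k⁻¹)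
      rw [hae]
      calc k * g * k⁻¹ * (k * φ q * k⁻¹) = k * (g * φ q) * k⁻¹ := by group
        _ = k * (φ q * g) * k⁻¹ := by rw [this]
        _ = _ := by group
  have htD : t ∈ D := hD ▸ ⟨mem_cU.2 (by rw [← X.toCfg.ee_one]; exact ee_comm φ (by norm_num) (by norm_num)),
    mem_centralizer_singleton_iff.2 (X.toCfg.comm_t q).symm⟩
  obtain ⟨P, hP⟩ := (IsPGroup.of_card (p := 2) (n := 4) (by
    rw [Nat.card_congr (subgroupOfEquivOfLe hE1D).toEquiv, he1.1]; norm_num) :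
    IsPGroup 2 (E1.subgroupOf D)).exists_le_sylow
  have hP' : (P : Subgroup D).map D.subtype = E1 := hmax _ (P.isPGroup'.map _)
    (fun g hg => ⟨⟨g, hE1D hg⟩, hP (mem_subgroupOf.2 hg), rfl⟩) (map_subtype_le _)
  have htp : IsPGroup 2 (zpowers (⟨t, htD⟩ : D)) := by
    refine IsPGroup.of_card (n := 1) ?_
    rw [Nat.card_zpowers, ← Subgroup.orderOf_coe, CfsgLib.Invol.invol_of_mul_self X.toCfg.t_sq X.toCfg.t_ne_one, pow_one]
  obtain ⟨Q, hQ⟩ := htp.exists_le_sylow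
  obtain ⟨c, hc⟩ := MulAction.exists_smul_eq D P Q
  have hcD := (hD ▸ c.2 : (c : G) ∈ cU φ ⊓ centralizer ({φ q} : Set G))
  have hfix : ∀ {g : G}, (c : G) * g = g * c → (c : G) * g * (c : G)⁻¹ = g := fun h => by
    rw [h, mul_inv_cancel_right]
  obtain ⟨E2, hE2⟩ : ∃ E2, E2 = E1.map (MulAut.conj (c : G)).toMonoidHom := ⟨_, rfl⟩
  have he2 : Elem16 E2 := hE2 ▸ he1.conj _
  have htE2 : t ∈ E2 := by
    have h1 : (⟨t, htD⟩ : D) ∈ (Q : Subgroup D) := hQ (mem_zpowers _)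
    rw [← hc] at h1
    obtain ⟨p, hp, hpe⟩ := h1
    exact hE2 ▸ ⟨p, hP' ▸ ⟨p, hp, rfl⟩, congrArg Subtype.val hpe⟩
  have huE2 : ee φ 4 ∈ E2 := hE2 ▸ ⟨_, huE1, hfix (mem_cU.1 hcD.1)⟩
  have hyE2 : φ q ∈ E2 := hE2 ▸ ⟨_, hyE1, hfix (mem_centralizer_singleton_iff.1 hcD.2)⟩
  obtain ⟨d, hdu, hdt, hd⟩ := X.toCfg.exists_conj_pair he2 X.toCfg.elem16_esub huE2 htE2
    (ee_mem (by norm_num : 4 < 16)) (X.toCfg.ee_one ▸ ee_mem (φ := φ) (a := 1) (by norm_num))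
  have hdn := X.toCfg.pU_le_norm (X.toCfg.mem_pU hdt (mem_cU.2 hdu))
  have h2 : d * φ q * d⁻¹ ∈ esub φ := hd ▸ ⟨_, hyE2, rfl⟩
  exact hyE ((mem_normalizer_iff.1 hdn _).2 h2)

end Cfg2

end CfsgLib.Recog.U4Two
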