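import Mathlib.Data.Fintype.EquivFin
import Mathlib.Data.Fintype.Sigma
import Mathlib.Data.List.Basic

/-!
The group `(SL_2(3) ∘ SL_2(3)).2` of order 576, the centralizer of a central involution of `PSp_4(3)`,
as a multiplication on codes `(s * 24 + x) * 12 + y`.
-/

set_option autoImplicit false

namespace CfsgLib.Recog.U4Two

/-- Entries of the `24` matrices of `SL_2(3)`; the code of `-x` is `x + 12` mod `24`. -/
def mats : List (ℕ × ℕ × ℕ × ℕ) := [(1, 0, 0, 1), (0, 1, 2, 0), (0, 1, 2, 1), (0, 1, 2, 2), (1, 0, 1, 1), (1, 0, 2, 1), (1, 1, 0, 1), (1, 1, 1, 2), (1, 1, 2, 0), (1, 2, 0, 1), (1, 2, 1, 0), (1, 2, 2, 2), (2, 0, 0, 2), (0, 2, 1, 0), (0, 2, 1, 2), (0, 2, 1, 1), (2, 0, 2, 2), (2, 0, 1, 2), (2, 2, 0, 2), (2, 2, 2, 1), (2, 2, 1, 0), (2, 1, 0, 2), (2, 1, 2, 0), (2, 1, 1, 1)]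

/-- The multiplication table of `SL_2(3)`, five bits for each entry. -/
def tabN : ℕ := 360873693914604484226431674095298307168365526008197453642189775938777502487499225493441094801462354352537639117301214836419909401028090427756252532888457176829535268015580275209183004972918103367964832601983765733532738417399540251258005215707043613719022172914349213226934706274279353689978453206077753956639284754397876815485568994978144448581364531335583357739791607614793987666678326404866461373352785560866518150780513241092067161717438366759737870499863408161181728220376941567038372957736589119455848248978589240462495482995165505867573603299010184078957548661287340043814361118059867097640910524630665640512257445425823253206542977079957432655446436407843231283549165939508019668539020941521178900038544481335144983578181533367067150371874838627701549651568544262507392567421127131176387087428776251793129215266103786128928021906948754276731023905164011604000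

/-- Multiplication of codes in `SL_2(3)`. -/
def tm (i j : ℕ) : ℕ := (tabN >>> (5 * (24 * i + j))) % 32

/-- Inversion of codes in `SL_2(3)`. -/
def ti (i : ℕ) : ℕ := ([0, 13, 10, 20, 5, 4, 9, 19, 15, 6, 2, 23, 12, 1, 22, 8, 17, 16, 21, 7, 3, 18, 14, 11] : List ℕ).getD i 0

/-- An element of the group of order 576. -/
structure Cm where
  code : Fin 576
deriving DecidableEq

instance : Fintype Cm :=
  Fintype.ofEquiv (Fin 576) ⟨Cm.mk, Cm.code, fun _ => rfl, fun _ => rfl⟩

namespace Cm

/-- The swap part. -/
def sOf (p : Cm) : ℕ := p.code.val / 288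

/-- The first coordinate. -/
def xOf (p : Cm) : ℕ := p.code.val / 12 % 24

/-- The second coordinate. -/
def yOf (p : Cm) : ℕ := p.code.val % 12

/-- The element with given coordinates, normalised. -/
def ofSXY (s x y : ℕ) : Cm :=
  ⟨if y < 12 then Fin.ofNat 576 ((s * 24 + x) * 12 + y)
    else Fin.ofNat 576 ((s * 24 + (x + 12) % 24) * 12 + (y - 12))⟩

instance : One Cm := ⟨⟨0⟩⟩

instance : Mul Cm := ⟨fun p q =>
  if p.sOf = 0 then ofSXY q.sOf (tm p.xOf q.xOf) (tm p.yOf q.yOf)
  else ofSXY (1 - q.sOf) (tm p.xOf q.yOf) (tm p.yOf q.xOf)⟩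

instance : Inv Cm := ⟨fun p =>
  if p.sOf = 0 then ofSXY 0 (ti p.xOf) (ti p.yOf) else ofSXY 1 (ti p.yOf) (ti p.xOf)⟩

/-- The elements of the elementary abelian subgroup of order 16, in coordinates. -/
def io (n : ℕ) : Cm := ⟨Fin.ofNat 576 (([0, 144, 288, 432, 13, 157, 301, 445, 91, 235, 379, 523, 143, 287, 431, 575] : List ℕ).getD n 0)⟩

/-- Membership in the elementary abelian subgroup of order 16. -/
def inE (p : Cm) : Bool := ([0, 144, 288, 432, 13, 157, 301, 445, 91, 235, 379, 523, 143, 287, 431, 575] : List ℕ).contains p.code.val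

/-- The central involution. -/
def zc : Cm := io 1

/-- The class of the swap. -/
def inWp (p : Cm) : Bool := p.sOf == 1 && tm p.xOf p.yOf == 0

/-- The class of the swap times the central involution. -/
def inWm (p : Cm) : Bool := p.sOf == 1 && tm p.xOf p.yOf == 12

/-- The involutions without swap, other than the central one. -/
def inQ (p : Cm) : Bool := p.sOf == 0 && p * p == 1 && !(p == 1) && !(p == zc)

/-- The model of the first class of involutions. -/
def inD (p : Cm) : Bool := p == zc || inWp p

/-- The model of the second class of involutions. -/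
def inU (p : Cm) : Bool := inQ p || inWm p

/-- A Sylow 2-subgroup. -/
def inS (p : Cm) : Bool :=
  ([0, 1, 7, 11, 12, 13, 19, 23] : List ℕ).contains p.xOf && ([0, 1, 7, 11, 12, 13, 19, 23] : List ℕ).contains p.yOf

end Cm

/-- Conjugation actions on the elementary abelian subgroup: images of the four basis vectors. -/
def a4L : List (ℕ × ℕ × ℕ × ℕ) := [(1, 2, 4, 8), (1, 2, 8, 12), (1, 2, 12, 4), (1, 7, 4, 9), (1, 7, 9, 13), (1, 7, 13, 4), (1, 11, 5, 8), (1, 11, 8, 13), (1, 11, 13, 5), (1, 15, 5, 9), (1, 15, 9, 12), (1, 15, 12, 5)]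

end CfsgLib.Recog.U4Two
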