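import Cfsg.Agent.Lib.Recog.U4Two.Group
import Mathlib.Tactic.NormNum

/-!
Finite facts on the group of order 576.
-/

set_option autoImplicit false
set_option maxRecDepth 100000

namespace CfsgLib.Recog.U4Two

namespace Cm

/-- The element with a given code. -/
def ofCode (n : ℕ) : Cm := ⟨Fin.ofNat 576 n⟩

/-- The involutions. -/
def invL : List Cm := ([13, 19, 23, 85, 91, 95, 133, 139, 143, 144, 157, 163, 167, 229, 235, 239, 277, 283, 287, 288, 301, 322, 332, 341, 352, 369, 379, 387, 402, 410, 431, 432, 445, 466, 476, 485, 496, 513, 523, 531, 546, 554, 575] : List ℕ).map ofCode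

/-- The involutions of the Sylow subgroup. -/
def invS : List Cm := ([13, 19, 23, 85, 91, 95, 133, 139, 143, 144, 157, 163, 167, 229, 235, 239, 277, 283, 287, 288, 301, 379, 431, 432, 445, 523, 575] : List ℕ).map ofCode

/-- The first class, without the central involution. -/
def wpL : List Cm := ([288, 322, 341, 352, 369, 402, 410, 445, 476, 523, 531, 575] : List ℕ).map ofCode

/-- The first class. -/
def dL : List Cm := zc :: wpL

/-- The second class. -/
def uL : List Cm := ([13, 19, 23, 85, 91, 95, 133, 139, 143, 157, 163, 167, 229, 235, 239, 277, 283, 287, 301, 332, 379, 387, 431, 432, 466, 485, 496, 513, 546, 554] : List ℕ).map ofCode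

/-- The line through `z` and a member of the first class. -/
def lineOf (d : Cm) : Fin 3 :=
  if d * ofCode 288 = ofCode 288 * d then 0
  else if d * ofCode 322 = ofCode 322 * d then 1 else 2

/-- A fixed element of order three centralizing `io 3`. -/
def x3 : Cm := ofCode 26

/-- Normalising the elementary abelian subgroup of order 16. -/
def normE (c : Cm) : Bool := [1, 2, 4, 8].all fun a => inE (c * io a * c⁻¹)

/-- A power of `p` is `t`. -/
def hits (p t : Cm) : ℕ → Cm → Bool
  | 0, _ => false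
  | n + 1, acc => acc == t || hits p t n (acc * p)

/-- Whether `t` is one of the first twelve powers of `p`. -/
def inPow (p t : Cm) : Bool := hits p t 12 1

end Cm

open Cm

/-- The linear map of `(ZMod 2)^4` with given images of the basis, in coordinates. -/
def app (g : ℕ × ℕ × ℕ × ℕ) (a : ℕ) : ℕ :=
  (if a % 2 = 1 then g.1 else 0) ^^^ (if a / 2 % 2 = 1 then g.2.1 else 0) ^^^
    (if a / 4 % 2 = 1 then g.2.2.1 else 0) ^^^ (if a / 8 % 2 = 1 then g.2.2.2 else 0)

/-- The preimage of a vector. -/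
def pre (g : ℕ × ℕ × ℕ × ℕ) (a : ℕ) : ℕ := ((List.range 16).find? fun x => app g x == a).getD 0

/-- A map fixing the first vector without being the action of an element of the stabilizer. -/
def bad (h : ℕ → ℕ) : Bool := h 1 == 1 && !(a4L.contains (h 1, h 2, h 4, h 8))

/-- The three word tests. -/
def wordTest (g : ℕ × ℕ × ℕ × ℕ) : Bool :=
  (a4L.any fun a => bad fun v => app g (app a (pre g v))) ||
    (a4L.any fun a => bad fun v => pre g (app a (app g v))) ||
    (a4L.any fun a => a4L.any fun b => a4L.any fun c =>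
      bad fun v => app g (app a (app g (app b (app g (app c (app g v)))))))

theorem word_fact : ∀ i j k : Fin 16, (∀ x : Fin 16, app (4, i, j, k) x = 0 → x = 0) →
    wordTest (4, i, j, k) = true := by decide +kernel

theorem io_mul : ∀ a b : Fin 16, io ((a : ℕ) ^^^ b) = io a * io b := by decide +kernel

theorem io_inj : ∀ a b : Fin 16, io a = io b → a = b := by decide +kernel

theorem inE_iff : ∀ p : Cm, inE p = true ↔ ∃ a : Fin 16, io a = p := by decide +kernel

theorem io_comb : ∀ a : Fin 16, io (a : ℕ) =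
    (if (a : ℕ) % 2 = 1 then io 1 else 1) * (if (a : ℕ) / 2 % 2 = 1 then io 2 else 1) *
      (if (a : ℕ) / 4 % 2 = 1 then io 4 else 1) * (if (a : ℕ) / 8 % 2 = 1 then io 8 else 1) := by
  decide +kernel

theorem center_fact : ∀ p : Cm, (∀ q ∈ ([288, 12, 6, 72] : List ℕ).map ofCode, p * q = q * p) →
    p = 1 ∨ p = zc := by decide +kernel

theorem zc_central : ∀ p : Cm, p * zc = zc * p := by decide +kernel

theorem inS_mul : ∀ p : Cm, inS p = true → ∀ q : Cm, inS q = true → inS (p * q) = true := by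
  decide +kernel

theorem card_inS : (Finset.univ.filter fun p : Cm => inS p = true).card = 64 := by decide +kernel

theorem center_inS : ∀ p : Cm, inS p = true → (∀ q : Cm, inS q = true → p * q = q * p) →
    p = 1 ∨ p = zc := by decide +kernel

theorem inE_inS : ∀ p : Cm, inE p = true → inS p = true := by decide +kernel

theorem inE_conj_inS : ∀ p : Cm, inS p = true → normE p = true := by decide +kernel

theorem cent_E : ∀ p : Cm, (∀ a ∈ [1, 2, 4, 8], p * io a = io a * p) → inE p = true := by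
  decide +kernel

theorem mem_invL : ∀ p : Cm, p * p = 1 → p = 1 ∨ p ∈ invL := by decide +kernel

theorem invL_sq : ∀ p ∈ invL, p * p = 1 ∧ p ≠ 1 := by decide +kernel

theorem mem_invS : ∀ p : Cm, inS p = true → p * p = 1 → p = 1 ∨ p ∈ invS := by decide +kernel

theorem sylow_abelian_fact : ∀ x ∈ invS, ∀ y ∈ invS, x ≠ zc → x * y = y * x →
    y ∉ [zc, x, x * zc] →
      (∀ v ∈ invS, v * x = x * v → v * y = y * v → inE v = true) ∨
        (invS.filter fun v => v * x == x * v && v * y == y * v).length ≤ 7 := by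
  decide +kernel

theorem classes : ∀ p : Cm, p ∈ invL ↔ p ∈ dL ∨ p ∈ uL := by decide +kernel

theorem dL_not_uL : ∀ p ∈ dL, p ∉ uL := by decide +kernel

theorem conj_wpL : ∀ p ∈ wpL, ∀ c : Cm, c * p * c⁻¹ ∈ wpL := by decide +kernel

theorem conj_uL : ∀ p ∈ uL, ∀ c : Cm, c * p * c⁻¹ ∈ uL := by decide +kernel

theorem exists_conj_inE : ∀ p ∈ invL, ∃ c : Cm, inE (c * p * c⁻¹) = true := by decide +kernel

theorem conj_inE_norm : ∀ a : Fin 16, 2 ≤ (a : ℕ) → ∀ c : Cm, inE (c * io a * c⁻¹) = true →
    normE c = true := by decide +kernel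

theorem norm_transitive : ∀ S ∈ [[2, 7, 11, 15], [3, 6, 10, 14], [4, 5, 8, 9, 12, 13]],
    ∀ a ∈ S, ∀ b ∈ S, ∃ c : Cm, normE c = true ∧ c * io a * c⁻¹ = io b := by decide +kernel

theorem io_classes : ∀ a : Fin 16, (io a ∈ wpL ↔ (a : ℕ) ∈ [2, 7, 11, 15]) ∧
    (io a ∈ uL ↔ (a : ℕ) ∈ [3, 4, 5, 6, 8, 9, 10, 12, 13, 14]) := by decide +kernel

theorem norm_mem_a4L : ∀ c : Cm, normE c = true → ∃ t ∈ a4L,
    c * io 1 * c⁻¹ = io t.1 ∧ c * io 2 * c⁻¹ = io t.2.1 ∧ c * io 4 * c⁻¹ = io t.2.2.1 ∧
      c * io 8 * c⁻¹ = io t.2.2.2 := by decide +kernel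

theorem a4L_lt : ∀ t ∈ a4L, t.1 < 16 ∧ t.2.1 < 16 ∧ t.2.2.1 < 16 ∧ t.2.2.2 < 16 := by decide +kernel

theorem a4L_mem_norm : ∀ t ∈ a4L, ∃ c : Cm, normE c = true ∧
    c * io 1 * c⁻¹ = io t.1 ∧ c * io 2 * c⁻¹ = io t.2.1 ∧ c * io 4 * c⁻¹ = io t.2.2.1 ∧
      c * io 8 * c⁻¹ = io t.2.2.2 := by decide +kernel

theorem card_normE : (Finset.univ.filter fun p : Cm => normE p = true).card = 192 := by decide +kernel

theorem card_cent_four : (Finset.univ.filter fun p : Cm => p * io 4 = io 4 * p).card = 32 := by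
  decide +kernel

theorem card_cent_three : (Finset.univ.filter fun p : Cm => p * io 3 = io 3 * p).card = 48 := by
  decide +kernel

theorem exists_outer : ∃ y : Cm, y * y = 1 ∧ y * io 4 = io 4 * y ∧ inE y = false := by decide +kernel

theorem outer_swaps : ∀ y : Cm, y * io 4 = io 4 * y → inE y = false →
    y * io 2 * y⁻¹ = io 7 ∧ y * io 11 * y⁻¹ = io 15 := by decide +kernel

theorem wp_products : ∀ x ∈ wpL, ∀ y ∈ wpL, x ≠ y →
    (x * y = y * x ∧ x * y ∈ uL) ∨ (x * y ≠ y * x ∧ x * y * (x * y) * (x * y) = 1) := by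
  decide +kernel

theorem zc_mul_wp : ∀ x ∈ wpL, zc * x ∈ uL := by decide +kernel

theorem wp_neighbours : ∀ d ∈ wpL, (dL.filter fun x => x * d == d * x).length = 5 := by decide +kernel

theorem dL_nodup : dL.Nodup := by decide +kernel

theorem uL_nodup : uL.Nodup := by decide +kernel

theorem line_fact : ∀ d ∈ wpL, ∀ e ∈ wpL, lineOf d = lineOf e → d * e = e * d := by decide +kernel

theorem count_at : ((dL.product uL).filter fun q => inPow (q.1 * q.2) zc).length = 108 := by
  decide +kernel

theorem count_au_in : ∀ a ∈ [4, 5, 8, 9, 12, 13],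
    ((dL.product uL).filter fun q => inE q.1 && inE q.2 && inPow (q.1 * q.2) (io a)).length = 3 := by
  decide +kernel

theorem count_au_out : ∀ a ∈ [4, 5, 8, 9, 12, 13],
    ((dL.product uL).filter fun q => inE q.1 && !(inE q.2) && q.2 * io a == io a * q.2 &&
      inPow (q.1 * q.2) (io a)).length = 8 := by
  decide +kernel

theorem pow_twelve : ∀ p : Cm, ∃ k : Fin 12, hits p 1 (k + 1) p = true := by decide +kernel

theorem x3_unique : ∀ x : Cm, x * x * x = 1 → x ≠ 1 → x * io 3 = io 3 * x →
    inE (x * x3⁻¹) = true ∨ inE (x * x3) = true := by decide +kernel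

theorem generation : ∀ c : Cm, ∃ i ∈ (1 :: invL), c * i ∈ (1 :: invL) ∨ c * x3 * i ∈ (1 :: invL) ∨
    c * (x3 * x3) * i ∈ (1 :: invL) := by decide +kernel

end CfsgLib.Recog.U4Two
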