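import Cfsg.Agent.Lib.Recog.U4Two.Setup
import Cfsg.Agent.Lib.Invol.BrauerSuzuki
import Mathlib.Data.List.Perm.Basic

/-!
Fusion of involutions in a group with an involution centralizer of the shape `(SL_2(3) ∘ SL_2(3)).2`:
there are two classes, the class of the central involution meeting `E` in five elements.
-/

set_option autoImplicit false
set_option linter.unusedSectionVars false
set_option linter.style.haveILetI false

namespace CfsgLib.Recog.U4Two

open Subgroup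

namespace Cm

theorem sOf_mul (p q : Cm) : (p * q).sOf = if p.sOf = 0 then q.sOf else 1 - q.sOf := by
  show (if p.sOf = 0 then ofSXY q.sOf (tm p.xOf q.xOf) (tm p.yOf q.yOf)
    else ofSXY (1 - q.sOf) (tm p.xOf q.yOf) (tm p.yOf q.xOf)).sOf = _
  have key : ∀ {s x y : ℕ}, s < 2 → x < 24 → y < 24 → (ofSXY s x y).sOf = s := by
    intro s x y hs hx hy
    unfold ofSXY
    by_cases h : y < 12
    · rw [if_pos h]
      have e : ((Fin.ofNat 576 ((s * 24 + x) * 12 + y) : Fin 576) : ℕ) = (s * 24 + x) * 12 + y :=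
        Nat.mod_eq_of_lt (by omega)
      simp only [sOf, e]
      omega
    · rw [if_neg h]
      have e : ((Fin.ofNat 576 ((s * 24 + (x + 12) % 24) * 12 + (y - 12)) : Fin 576) : ℕ) =
          (s * 24 + (x + 12) % 24) * 12 + (y - 12) := Nat.mod_eq_of_lt (by omega)
      simp only [sOf, e]
      omega
  have hx := p.xOf_lt
  have hy : p.yOf < 24 := p.yOf_lt.trans (by omega)
  have hx' := q.xOf_lt
  have hy' : q.yOf < 24 := q.yOf_lt.trans (by omega)
  have hs := q.sOf_lt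
  split_ifs with h
  · exact key hs (tm_lt hx hx') (tm_lt hy hy')
  · exact key (by omega) (tm_lt hx hy') (tm_lt hy hx')

theorem sOf_eq_zero_of_odd (p : Cm) (h : Odd (orderOf p)) : p.sOf = 0 := by
  by_contra hne
  have hp : p.sOf = 1 := by have := p.sOf_lt; omega
  have key : ∀ n, (p ^ n).sOf = n % 2 := fun n => by
    induction n with
    | zero => rw [pow_zero]; exact (by decide +kernel : (1 : Cm).sOf = 0)
    | succ n ih => rw [pow_succ, sOf_mul, ih, hp]; split_ifs <;> omega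
  have h1 := key (orderOf p)
  rw [pow_orderOf_eq_one, show (1 : Cm).sOf = 0 from by decide +kernel] at h1
  obtain ⟨k, hk⟩ := h
  omega

/-- Multiplication of the outer elements by the central involution. -/
def theta (p : Cm) : Cm := if p.sOf = 0 then p else zc * p

theorem zc_sq : zc * zc = 1 := by decide +kernel

theorem sOf_zc : zc.sOf = 0 := by decide +kernel

theorem theta_mul (p q : Cm) : theta (p * q) = theta p * theta q := by
  have hs := q.sOf_lt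
  have hc : ∀ r : Cm, r * zc = zc * r := zc_central
  unfold theta
  rw [sOf_mul]
  by_cases hp : p.sOf = 0
  · rw [if_pos hp, if_pos hp]
    by_cases hq : q.sOf = 0
    · rw [if_pos hq, if_pos hq]
    · rw [if_neg hq, if_neg hq, ← mul_assoc, ← mul_assoc, hc]
  · rw [if_neg hp, if_neg hp]
    by_cases hq : q.sOf = 0
    · rw [if_neg (by omega), if_pos hq, mul_assoc]
    · rw [if_pos (by omega), if_neg hq]
      calc p * q = p * (zc * zc) * q := by rw [zc_sq, mul_one]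
        _ = p * zc * (zc * q) := by simp only [mul_assoc]
        _ = zc * p * (zc * q) := by rw [hc p]

/-- The automorphism exchanging the two classes of outer involutions. -/
def thetaHom : Cm →* Cm := MonoidHom.mk' theta theta_mul

theorem theta_theta (p : Cm) : theta (theta p) = p := by
  unfold theta
  by_cases hp : p.sOf = 0
  · rw [if_pos hp, if_pos hp]
  · rw [if_neg hp, sOf_mul, if_pos sOf_zc, if_neg hp, ← mul_assoc, zc_sq, one_mul]

theorem theta_io : ∀ a : Fin 16,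
    theta (io a) = io (if (a : ℕ) / 2 % 2 = 1 then (a : ℕ) ^^^ 1 else a) := by decide +kernel

end Cm

open Cm

theorem line_lt : ∀ a ∈ ([2, 7, 11, 15] : List ℕ), a < 16 := by decide

theorem q_xor : ∀ a ∈ ([2, 7, 11, 15] : List ℕ), ∀ b ∈ ([2, 7, 11, 15] : List ℕ), a ≠ b →
    a ^^^ b ∈ ([4, 5, 8, 9, 12, 13] : List ℕ) := by decide

theorem wm_xor : ∀ a ∈ ([2, 7, 11, 15] : List ℕ), (1 : ℕ) ^^^ a ∈ ([3, 6, 10, 14] : List ℕ) := by decide

namespace Cfg

variable {G : Type*} [Group G] {t : G} {φ : Cm →* G} (X : Cfg t φ)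

/-- `n` acts on the coordinates of `E` by `g`. -/
def Acts (φ : Cm →* G) (n : G) (g : ℕ → ℕ) : Prop :=
  ∀ a < 16, g a < 16 ∧ n * ee φ a * n⁻¹ = ee φ (g a)

theorem Acts.mul {n m : G} {f g : ℕ → ℕ} (hn : Acts φ n f) (hm : Acts φ m g) :
    Acts φ (n * m) fun a => f (g a) := fun a ha => by
  obtain ⟨h1, h2⟩ := hm a ha
  obtain ⟨h3, h4⟩ := hn _ h1
  refine ⟨h3, ?_⟩
  rw [← h4, ← h2]; group

theorem acts_of_basis {n : G} {g : ℕ × ℕ × ℕ × ℕ}
    (hg : g.1 < 16 ∧ g.2.1 < 16 ∧ g.2.2.1 < 16 ∧ g.2.2.2 < 16)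
    (h1 : n * ee φ 1 * n⁻¹ = ee φ g.1) (h2 : n * ee φ 2 * n⁻¹ = ee φ g.2.1)
    (h4 : n * ee φ 4 * n⁻¹ = ee φ g.2.2.1) (h8 : n * ee φ 8 * n⁻¹ = ee φ g.2.2.2) :
    Acts φ n (app g) := by
  intro a ha
  have hsel : ∀ (c : Prop) [Decidable c] {x y : ℕ}, x < 16 → y < 16 → n * ee φ x * n⁻¹ = ee φ y →
      (if c then y else 0) < 16 ∧ ee φ (if c then y else 0) = n * (if c then ee φ x else 1) * n⁻¹ := by
    intro c _ x y _ hy h
    split_ifs
    · exact ⟨hy, h.symm⟩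
    · exact ⟨by norm_num, by rw [ee_zero]; group⟩
  obtain ⟨l1, e1⟩ := hsel (a % 2 = 1) (by norm_num) hg.1 h1
  obtain ⟨l2, e2⟩ := hsel (a / 2 % 2 = 1) (by norm_num) hg.2.1 h2
  obtain ⟨l4, e4⟩ := hsel (a / 4 % 2 = 1) (by norm_num) hg.2.2.1 h4
  obtain ⟨l8, e8⟩ := hsel (a / 8 % 2 = 1) (by norm_num) hg.2.2.2 h8
  have hc : ee φ a = (if a % 2 = 1 then ee φ 1 else 1) * (if a / 2 % 2 = 1 then ee φ 2 else 1) *
      (if a / 4 % 2 = 1 then ee φ 4 else 1) * (if a / 8 % 2 = 1 then ee φ 8 else 1) := by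
    rw [ee, io_comb ⟨a, ha⟩]
    simp only [map_mul, apply_ite φ, map_one, ee]
  unfold app
  refine ⟨xor_lt (xor_lt (xor_lt l1 l2) l4) l8, ?_⟩
  rw [← ee_mul φ (xor_lt (xor_lt l1 l2) l4) l8, ← ee_mul φ (xor_lt l1 l2) l4, ← ee_mul φ l1 l2,
    e1, e2, e4, e8, hc]
  group

theorem acts_exists {n : G} (hn : n ∈ normalizer (esub φ : Set G)) :
    ∃ g : ℕ × ℕ × ℕ × ℕ, (g.1 < 16 ∧ g.2.1 < 16 ∧ g.2.2.1 < 16 ∧ g.2.2.2 < 16) ∧
      Acts φ n (app g) := by
  have h : ∀ a, a < 16 → ∃ b, b < 16 ∧ ee φ b = n * ee φ a * n⁻¹ := fun a ha =>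
    mem_esub.1 ((mem_normalizer_iff.1 hn _).1 (ee_mem ha))
  obtain ⟨g1, l1, e1⟩ := h 1 (by norm_num)
  obtain ⟨g2, l2, e2⟩ := h 2 (by norm_num)
  obtain ⟨g4, l4, e4⟩ := h 4 (by norm_num)
  obtain ⟨g8, l8, e8⟩ := h 8 (by norm_num)
  exact ⟨(g1, g2, g4, g8), ⟨l1, l2, l4, l8⟩,
    acts_of_basis ⟨l1, l2, l4, l8⟩ e1.symm e2.symm e4.symm e8.symm⟩

include X

theorem acts_pre {n : G} {g : ℕ × ℕ × ℕ × ℕ} (hn : n ∈ normalizer (esub φ : Set G))
    (hg : Acts φ n (app g)) : Acts φ n⁻¹ (pre g) := by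
  intro v hv
  obtain ⟨x, hx, hxe⟩ := mem_esub.1 ((mem_normalizer_iff.1 (inv_mem hn) _).1 (ee_mem (φ := φ) hv))
  have hxv : app g x = v := by
    obtain ⟨l, e⟩ := hg x hx
    refine X.ee_inj l hv ?_
    rw [← e, hxe]; group
  have hs : ∃ y, (List.range 16).find? (fun x => app g x == v) = some y := by
    rw [← Option.isSome_iff_exists, List.find?_isSome]
    exact ⟨x, List.mem_range.2 hx, by simpa using hxv⟩
  obtain ⟨y, hy⟩ := hs
  have hy1 : y < 16 := List.mem_range.1 (List.mem_of_find?_eq_some hy)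
  have hy2 : app g y = v := by simpa using List.find?_some hy
  have hpre : pre g v = y := by unfold pre; rw [hy]; rfl
  obtain ⟨l, e⟩ := hg y hy1
  refine ⟨hpre ▸ hy1, ?_⟩
  rw [hpre, ← hy2, ← e]
  group

theorem acts_a4L {q : ℕ × ℕ × ℕ × ℕ} (hq : q ∈ a4L) :
    ∃ c, Cm.normE c = true ∧ Acts φ (φ c) (app q) := by
  obtain ⟨c, hc, h1, h2, h4, h8⟩ := a4L_mem_norm q hq
  refine ⟨c, hc, acts_of_basis (a4L_lt q hq) ?_ ?_ ?_ ?_⟩ <;>
    simp only [ee, ← map_inv, ← map_mul, h1, h2, h4, h8]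

theorem acts_not_bad {n : G} {h : ℕ → ℕ} (hn : Acts φ n h) : bad h = false := by
  by_contra hb
  rw [Bool.not_eq_false, bad, Bool.and_eq_true, beq_iff_eq, Bool.not_eq_true',
    ← Bool.not_eq_true, List.contains_iff_mem] at hb
  obtain ⟨hb1, hb2⟩ := hb
  have e1 := (hn 1 (by norm_num)).2
  rw [hb1, X.ee_one, mul_inv_eq_iff_eq_mul] at e1
  obtain ⟨c, rfl⟩ := (X.range n).1 e1
  have him : ∀ a, a < 16 → c * io a * c⁻¹ = io (h a) := fun a ha => X.inj (by
    rw [map_mul, map_mul, map_inv]; exact (hn a ha).2)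
  have hc : Cm.normE c = true := by
    simp only [Cm.normE, List.all_cons, List.all_nil, Bool.and_true, Bool.and_eq_true]
    refine ⟨?_, ?_, ?_, ?_⟩ <;> rw [him _ (by norm_num)] <;>
      exact (inE_iff _).2 ⟨⟨_, (hn _ (by norm_num)).1⟩, rfl⟩
  obtain ⟨q, hq, q1, q2, q4, q8⟩ := norm_mem_a4L c hc
  have hl := a4L_lt q hq
  have r : ∀ {a b : ℕ}, a < 16 → b < 16 → c * io a * c⁻¹ = io b → h a = b := fun ha hb e =>
    congrArg Fin.val (io_inj ⟨_, (hn _ ha).1⟩ ⟨_, hb⟩ ((him _ ha).symm.trans e))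
  refine hb2 ?_
  rwa [r (by norm_num) hl.1 q1, r (by norm_num) hl.2.1 q2, r (by norm_num) hl.2.2.1 q4,
    r (by norm_num) hl.2.2.2 q8]

theorem normE_mem {c : Cm} (hc : Cm.normE c = true) [Finite G] : φ c ∈ normalizer (esub φ : Set G) := by
  obtain ⟨q, hq, q1, q2, q4, q8⟩ := norm_mem_a4L c hc
  have hA : Acts φ (φ c) (app q) := by
    refine acts_of_basis (a4L_lt q hq) ?_ ?_ ?_ ?_ <;>
      simp only [ee, ← map_inv, ← map_mul, q1, q2, q4, q8]
  refine mem_normalizer_fintype fun g hg => ?_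
  obtain ⟨a, ha, rfl⟩ := hg
  exact ⟨_, (hA a ha).1, (hA a ha).2.symm⟩

omit X in
/-- The orbit of `t` under `N(E)`, in coordinates. -/
def InOrbit (φ : Cm →* G) (t : G) (a : ℕ) : Prop :=
  ∃ n ∈ normalizer (esub φ : Set G), n * t * n⁻¹ = ee φ a

variable [Finite G]

theorem orbit_class {S : List ℕ} (hS : S ∈ [[2, 7, 11, 15], [3, 6, 10, 14], [4, 5, 8, 9, 12, 13]])
    {a b : ℕ} (ha : a ∈ S) (hb : b ∈ S) (h : InOrbit φ t a) : InOrbit φ t b := by
  obtain ⟨n, hn, he⟩ := h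
  obtain ⟨c, hc, hce⟩ := norm_transitive S hS a ha b hb
  refine ⟨φ c * n, mul_mem (X.normE_mem hc) hn, ?_⟩
  rw [ee, ← hce, map_mul, map_mul, map_inv, ← ee, ← he]
  group

theorem not_orbit_q {a : ℕ} (ha : a ∈ [4, 5, 8, 9, 12, 13]) : ¬ InOrbit φ t a := by
  intro h
  obtain ⟨n, hn, he⟩ := X.orbit_class (S := [4, 5, 8, 9, 12, 13]) (by simp) ha
    (show 4 ∈ [4, 5, 8, 9, 12, 13] by simp) h
  obtain ⟨⟨g1, g2, g4, g8⟩, ⟨l1, l2, l4, l8⟩, hA⟩ := acts_exists hn
  have e1 := (hA 1 (by norm_num)).2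
  rw [X.ee_one, he] at e1
  have hg1 : g1 = 4 := by
    have := X.ee_inj (by norm_num) (hA 1 (by norm_num)).1 e1
    simpa [app] using this.symm
  subst hg1
  have hker : ∀ x : Fin 16, app (4, (⟨g2, l2⟩ : Fin 16), (⟨g4, l4⟩ : Fin 16), (⟨g8, l8⟩ : Fin 16)) x = 0 →
      x = 0 := fun x hx => by
    have h1 := (hA x x.2).2
    simp only at hx
    rw [hx, ee_zero, conj_eq_one_iff] at h1
    exact Fin.ext (X.ee_inj x.2 (by norm_num) (h1.trans (ee_zero φ).symm))
  have hw := word_fact ⟨g2, l2⟩ ⟨g4, l4⟩ ⟨g8, l8⟩ hker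
  have hP := X.acts_pre hn hA
  simp only [wordTest, Bool.or_eq_true, List.any_eq_true] at hw
  rcases hw with (⟨a, ha, hb⟩ | ⟨a, ha, hb⟩) | ⟨a, ha, b, hb', c, hc, hb⟩
  · obtain ⟨ca, -, hAa⟩ := X.acts_a4L ha
    exact absurd hb (by rw [X.acts_not_bad (hA.mul (hAa.mul hP))]; simp)
  · obtain ⟨ca, -, hAa⟩ := X.acts_a4L ha
    exact absurd hb (by rw [X.acts_not_bad (hP.mul (hAa.mul hA))]; simp)
  · obtain ⟨ca, -, hAa⟩ := X.acts_a4L ha
    obtain ⟨cb, -, hAb⟩ := X.acts_a4L hb'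
    obtain ⟨cc, -, hAc⟩ := X.acts_a4L hc
    exact absurd hb (by rw [X.acts_not_bad (hA.mul (hAa.mul (hA.mul (hAb.mul (hA.mul (hAc.mul hA))))))]; simp)

theorem orbit_one : InOrbit φ t 1 := ⟨1, one_mem _, by rw [X.ee_one]; group⟩

theorem orbit_of_conj {a : ℕ} (ha : a < 16) (h : IsConj t (ee φ a)) : InOrbit φ t a := by
  obtain ⟨g, hg⟩ := isConj_iff.1 h
  obtain ⟨n, hn, hne⟩ := X.fusion_esub (X.ee_one ▸ ee_mem (φ := φ) (a := 1) (by norm_num))
    (show g * t * g⁻¹ ∈ esub φ from hg ▸ ee_mem ha)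
  exact ⟨n, hn, hne.trans hg⟩

theorem exists_conj_io {p : Cm} (hp : p * p = 1) (h1 : p ≠ 1) :
    ∃ (c : Cm) (a : ℕ), a < 16 ∧ a ≠ 0 ∧ c * p * c⁻¹ = io a := by
  obtain ⟨c, hc⟩ := exists_conj_inE p ((mem_invL p hp).resolve_left h1)
  obtain ⟨a, ha⟩ := (inE_iff _).1 hc
  refine ⟨c, a, a.2, fun h => h1 ?_, ha.symm⟩
  rw [h, io_zero, eq_comm, conj_eq_one_iff] at ha
  exact ha

/-- `t` is conjugate to an involution of its centralizer other than itself. -/
theorem orbit_two_or_three : InOrbit φ t 2 ∨ InOrbit φ t 3 := by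
  by_contra hno
  push Not at hno
  have hO : ∀ a, a < 16 → InOrbit φ t a → a = 1 := by
    intro a ha h
    by_contra h1
    have hcase : a = 0 ∨ a ∈ [2, 7, 11, 15] ∨ a ∈ [3, 6, 10, 14] ∨ a ∈ [4, 5, 8, 9, 12, 13] := by
      revert h1; interval_cases a <;> decide
    rcases hcase with rfl | ha' | ha' | ha'
    · obtain ⟨n, -, he⟩ := h
      rw [ee_zero, conj_eq_one_iff] at he
      exact X.t_ne_one he
    · exact hno.1 (X.orbit_class (S := [2, 7, 11, 15]) (by simp) ha' (show 2 ∈ [2, 7, 11, 15] by simp) h)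
    · exact hno.2 (X.orbit_class (S := [3, 6, 10, 14]) (by simp) ha' (show 3 ∈ [3, 6, 10, 14] by simp) h)
    · exact X.not_orbit_q ha' h
  have hiso : Cfsg.IsIsolatedInvolution t := by
    refine ⟨CfsgLib.Invol.invol_of_mul_self X.t_sq X.t_ne_one, fun g hg => ?_⟩
    obtain ⟨p, hp⟩ := (X.range _).1 hg.symm.eq
    have hp2 : p * p = 1 := X.inj (by
      rw [map_mul, map_one, hp, show g * t * g⁻¹ * (g * t * g⁻¹) = g * (t * t) * g⁻¹ by group, X.t_sq]
      group)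
    have hp1 : p ≠ 1 := fun h => X.t_ne_one (by
      rwa [h, map_one, eq_comm, conj_eq_one_iff] at hp)
    obtain ⟨c, a, ha, -, hca⟩ := X.exists_conj_io hp2 hp1
    have h2 : InOrbit φ t a := X.orbit_of_conj ha (isConj_iff.2 ⟨φ c * g, by
      rw [ee, ← hca, map_mul, map_mul, map_inv, hp]; group⟩)
    rw [hO a ha h2] at hca
    rw [← hp, ← X.hz]
    congr 1
    calc p = c⁻¹ * (c * p * c⁻¹) * c := by group
      _ = c⁻¹ * zc * c := by rw [hca]; rfl
      _ = c⁻¹ * (zc * c) := mul_assoc _ _ _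
      _ = zc := by rw [← zc_central, inv_mul_cancel_left]
  obtain ⟨O, hOdef⟩ : ∃ O, O = Cfsg.oddCore G := ⟨_, rfl⟩
  haveI hOn : O.Normal := hOdef ▸ CfsgLib.Solvable.pPrimeCore_normal 2 G
  have hOodd : Odd (Nat.card O) := hOdef ▸ CfsgLib.Invol.odd_card_oddCore G
  have hdecomp : ∀ g, ∃ o ∈ O, ∃ c, g = o * φ c := by
    intro g
    obtain ⟨d, hd, hdg⟩ := CfsgLib.Invol.isolated_exists_conj' hiso g
    have hm : t * (g * t * g⁻¹) ∈ O := by
      have h1 := CfsgLib.Invol.zstar G hiso g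
      rw [← hOdef] at h1
      have ht : t⁻¹ = t := inv_eq_of_mul_eq_one_right X.t_sq
      rw [ht] at h1
      rw [show t * (g * t * g⁻¹) = t * g * t * g⁻¹ by group]
      exact h1
    obtain ⟨k, rfl⟩ := hd
    obtain ⟨c, hc⟩ := (X.range (((t * (g * t * g⁻¹)) ^ k)⁻¹ * g)).1 (by
      have := congrArg (fun x => ((t * (g * t * g⁻¹)) ^ k)⁻¹ * x * g) hdg
      simp only [mul_assoc, inv_mul_cancel, mul_one, inv_mul_cancel_left] at this ⊢
      exact this.symm)
    exact ⟨_, zpow_mem hm k, c, by rw [hc, mul_inv_cancel_left]⟩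
  obtain ⟨H, hH⟩ : ∃ H, H = O ⊔ ((({ carrier := {c | c.sOf = 0}
                                     one_mem' := (by decide +kernel : (1 : Cm).sOf = 0)
                                     mul_mem' := fun {a b} (ha : a.sOf = 0) (hb : b.sOf = 0) => by
                                       show (a * b).sOf = 0
                                       rw [sOf_mul, if_pos ha, hb]
                                     inv_mem' := fun {a} (ha : a.sOf = 0) => by
                                       show a⁻¹.sOf = 0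
                                       have h1 := sOf_mul a⁻¹ a
                                       rw [inv_mul_cancel, ha, show (1 : Cm).sOf = 0 by decide +kernel] at h1
                                       split_ifs at h1 with h <;> omega } : Subgroup Cm)).map φ) :=
    ⟨_, rfl⟩
  have hmem : ∀ o ∈ O, ∀ c, (o * φ c ∈ H ↔ c.sOf = 0) := by
    intro o ho c
    constructor
    · intro h
      rw [hH, mem_sup_of_normal_left] at h
      obtain ⟨o', ho', _, ⟨c', hc', rfl⟩, he⟩ := h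
      have h1 : φ (c * c'⁻¹) ∈ O := by
        have : φ (c * c'⁻¹) = o⁻¹ * o' := by
          rw [map_mul, map_inv, mul_inv_eq_iff_eq_mul, mul_assoc, he, inv_mul_cancel_left]
        rw [this]; exact mul_mem (inv_mem ho) ho'
      have h2 : Odd (orderOf (c * c'⁻¹)) := by
        rw [← orderOf_injective φ X.inj]
        exact hOodd.of_dvd_nat (orderOf_mk (H := O) _ h1 ▸ orderOf_dvd_natCard _)
      have h3 := sOf_mul (c * c'⁻¹) c'
      rwa [inv_mul_cancel_right, sOf_eq_zero_of_odd _ h2, if_pos rfl, show c'.sOf = 0 from hc'] at h3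
    · intro h
      exact hH ▸ mul_mem (mem_sup_left ho) (mem_sup_right ⟨c, h, rfl⟩)
  refine X.noIdx H (index_eq_two_iff.2 ⟨φ (io 2), fun g => ?_⟩)
  obtain ⟨o, ho, c, rfl⟩ := hdecomp g
  rw [mul_assoc, ← map_mul, hmem o ho, hmem o ho, sOf_mul, show (io 2).sOf = 1 by decide +kernel]
  have := c.sOf_lt
  by_cases h : c.sOf = 0
  · exact Or.inr ⟨h, by rw [if_pos h]; omega⟩
  · exact Or.inl ⟨by rw [if_neg h], h⟩

theorem not_orbit_two_three : ¬ (InOrbit φ t 2 ∧ InOrbit φ t 3) := by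
  rintro ⟨⟨n, hn, hne⟩, h3⟩
  have hO : ∀ a, a < 16 → a ∈ ([1, 2, 3, 6, 7, 10, 11, 14, 15] : List ℕ) → InOrbit φ t a := by
    intro a _ h
    simp only [List.mem_cons, List.not_mem_nil, or_false] at h
    rcases h with rfl | rfl | rfl | rfl | rfl | rfl | rfl | rfl | rfl
    · exact X.orbit_one
    · exact ⟨n, hn, hne⟩
    · exact h3
    · exact X.orbit_class (S := [3, 6, 10, 14]) (by simp) (show 3 ∈ [3, 6, 10, 14] by simp) (show 6 ∈ [3, 6, 10, 14] by simp) h3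
    · exact X.orbit_class (S := [2, 7, 11, 15]) (by simp) (show 2 ∈ [2, 7, 11, 15] by simp) (show 7 ∈ [2, 7, 11, 15] by simp) ⟨n, hn, hne⟩
    · exact X.orbit_class (S := [3, 6, 10, 14]) (by simp) (show 3 ∈ [3, 6, 10, 14] by simp) (show 10 ∈ [3, 6, 10, 14] by simp) h3
    · exact X.orbit_class (S := [2, 7, 11, 15]) (by simp) (show 2 ∈ [2, 7, 11, 15] by simp) (show 11 ∈ [2, 7, 11, 15] by simp) ⟨n, hn, hne⟩
    · exact X.orbit_class (S := [3, 6, 10, 14]) (by simp) (show 3 ∈ [3, 6, 10, 14] by simp) (show 14 ∈ [3, 6, 10, 14] by simp) h3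
    · exact X.orbit_class (S := [2, 7, 11, 15]) (by simp) (show 2 ∈ [2, 7, 11, 15] by simp) (show 15 ∈ [2, 7, 11, 15] by simp) ⟨n, hn, hne⟩
  have hQ : ∀ q ∈ ([4, 5] : List ℕ), ∃ b, b < 16 ∧ n * ee φ q * n⁻¹ = ee φ b ∧ b / 2 % 2 = 0 := by
    intro q hq
    have hq16 : q < 16 := (by decide : ∀ q ∈ ([4, 5] : List ℕ), q < 16) q hq
    obtain ⟨b, hb, hbe⟩ := mem_esub.1 ((mem_normalizer_iff.1 hn _).1 (ee_mem (φ := φ) hq16))
    refine ⟨b, hb, hbe.symm, ?_⟩
    by_contra hb2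
    have hin : b ∈ ([1, 2, 3, 6, 7, 10, 11, 14, 15] : List ℕ) := by
      revert hb2; interval_cases b <;> decide
    obtain ⟨m, hm, hme⟩ := hO b hb hin
    refine X.not_orbit_q (a := q) ((by decide : ∀ q ∈ ([4, 5] : List ℕ), q ∈ [4, 5, 8, 9, 12, 13]) q hq)
      ⟨n⁻¹ * m, mul_mem (inv_mem hn) hm, ?_⟩
    calc n⁻¹ * m * t * (n⁻¹ * m)⁻¹ = n⁻¹ * (m * t * m⁻¹) * n := by group
      _ = ee φ q := by rw [hme, hbe]; group
  obtain ⟨b, hb, hbe, hb2⟩ := hQ 4 (by simp)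
  obtain ⟨b', hb', hbe', hb2'⟩ := hQ 5 (by simp)
  have h1 : n * ee φ (4 ^^^ 5) * n⁻¹ = ee φ (b ^^^ b') := by
    rw [← ee_mul φ hb hb', ← hbe, ← hbe', ← ee_mul φ (by norm_num : (4:ℕ) < 16) (by norm_num)]
    group
  rw [show (4 : ℕ) ^^^ 5 = 1 from rfl, X.ee_one, hne] at h1
  have h2 := X.ee_inj (by norm_num) (xor_lt hb hb') h1
  revert h2 hb2 hb2'
  interval_cases b <;> interval_cases b' <;> decide

omit [Finite G] in
theorem comp_theta : Cfg t (φ.comp thetaHom) where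
  inj := X.inj.comp (Function.LeftInverse.injective theta_theta)
  range g := by
    rw [X.range]
    exact ⟨fun ⟨c, hc⟩ => ⟨theta c, by rw [MonoidHom.comp_apply]; exact (congrArg φ (theta_theta c)).trans hc⟩,
      fun ⟨c, hc⟩ => ⟨theta c, hc⟩⟩
  hz := by
    rw [MonoidHom.comp_apply]
    exact (congrArg φ (by decide +kernel : thetaHom zc = zc)).trans X.hz
  noIdx := X.noIdx

end Cfg

/-- A configuration normalised so that `t` is conjugate to `ee 2`. -/
structure Cfg2 {G : Type*} [Group G] (t : G) (φ : Cm →* G) : Prop extends Cfg t φ where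
  orb : Cfg.InOrbit φ t 2

theorem Cfg.exists_cfg2 {G : Type*} [Group G] [Finite G] {t : G} {φ : Cm →* G} (X : Cfg t φ) :
    ∃ ψ : Cm →* G, Cfg2 t ψ := by
  rcases X.orbit_two_or_three with h | h
  · exact ⟨φ, ⟨X, h⟩⟩
  · refine ⟨φ.comp thetaHom, ⟨X.comp_theta, ?_⟩⟩
    obtain ⟨n, hn, hne⟩ := h
    have hperm : ∀ a : Fin 16, (if (a : ℕ) / 2 % 2 = 1 then (a : ℕ) ^^^ 1 else a) < 16 := by decide
    have he : esub (φ.comp thetaHom) = esub φ := by
      refine eq_of_le_of_card_ge ?_ (by rw [X.elem16_esub.1, X.comp_theta.elem16_esub.1])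
      rintro _ ⟨a, ha, rfl⟩
      exact ⟨_, hperm ⟨a, ha⟩, (congrArg φ (theta_io ⟨a, ha⟩)).symm⟩
    refine ⟨n, he.symm ▸ hn, hne.trans ?_⟩
    exact congrArg φ (by decide +kernel : io 3 = thetaHom (io 2))

namespace Cfg2

variable {G : Type*} [Group G] [Finite G] {t : G} {φ : Cm →* G} (X : Cfg2 t φ)

include X

theorem orbit_iff {a : ℕ} (ha : a < 16) :
    Cfg.InOrbit φ t a ↔ a ∈ ([1, 2, 7, 11, 15] : List ℕ) := by
  constructor
  · intro h
    by_contra hn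
    have hcase : a = 0 ∨ a ∈ [3, 6, 10, 14] ∨ a ∈ [4, 5, 8, 9, 12, 13] := by
      revert hn; interval_cases a <;> decide
    rcases hcase with rfl | ha' | ha'
    · obtain ⟨n, -, he⟩ := h
      rw [Cfg.ee_zero, conj_eq_one_iff] at he
      exact X.toCfg.t_ne_one he
    · exact X.toCfg.not_orbit_two_three ⟨X.orb, X.toCfg.orbit_class (S := [3, 6, 10, 14]) (by simp) ha'
        (show 3 ∈ [3, 6, 10, 14] by simp) h⟩
    · exact X.toCfg.not_orbit_q ha' h
  · intro h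
    rcases List.mem_cons.1 h with rfl | h
    · exact X.toCfg.orbit_one
    · exact X.toCfg.orbit_class (S := [2, 7, 11, 15]) (by simp) (show 2 ∈ [2, 7, 11, 15] by simp) h X.orb

theorem isConj_ee {a : ℕ} (ha : a < 16) :
    IsConj t (ee φ a) ↔ a ∈ ([1, 2, 7, 11, 15] : List ℕ) := by
  rw [← X.orbit_iff ha]
  exact ⟨X.toCfg.orbit_of_conj ha, fun ⟨n, _, h⟩ => isConj_iff.2 ⟨n, h⟩⟩

theorem isConj_four {a : ℕ} (ha : a ∈ ([3, 4, 5, 6, 8, 9, 10, 12, 13, 14] : List ℕ)) :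
    IsConj (ee φ 4) (ee φ a) := by
  have step : ∀ S ∈ [[2, 7, 11, 15], [3, 6, 10, 14], [4, 5, 8, 9, 12, 13]],
      ∀ x ∈ S, ∀ y ∈ S, IsConj (ee φ x) (ee φ y) := by
    intro S hS x hx y hy
    obtain ⟨c, -, hc⟩ := norm_transitive S hS x hx y hy
    exact isConj_iff.2 ⟨φ c, by rw [ee, ee, ← hc, map_mul, map_mul, map_inv]⟩
  obtain ⟨m, hm, hme⟩ := X.orb
  obtain ⟨n, hn', hne⟩ : ∃ n ∈ normalizer (Cfg.esub φ : Set G), n * ee φ 2 * n⁻¹ = t :=
    ⟨m⁻¹, inv_mem hm, by rw [← hme]; group⟩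
  -- `n` maps the `W⁻` element `6 = 1 + 7` to a `Q` element
  have himg : ∀ x ∈ ([1, 7] : List ℕ), ∃ b ∈ ([2, 7, 11, 15] : List ℕ), n * ee φ x * n⁻¹ = ee φ b := by
    intro x hx
    have hx16 : x < 16 := (by decide : ∀ x ∈ ([1, 7] : List ℕ), x < 16) x hx
    obtain ⟨b, hb, hbe⟩ := Cfg.mem_esub.1 ((mem_normalizer_iff.1 hn' _).1 (Cfg.ee_mem (φ := φ) hx16))
    refine ⟨b, ?_, hbe.symm⟩
    obtain ⟨k, hk, hke⟩ := (X.orbit_iff hx16).2 ((by decide : ∀ x ∈ ([1, 7] : List ℕ),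
      x ∈ ([1, 2, 7, 11, 15] : List ℕ)) x hx)
    have hbo := (X.orbit_iff hb).1 ⟨n * k, mul_mem hn' hk, by rw [hbe, ← hke]; group⟩
    rcases List.mem_cons.1 hbo with rfl | h
    · exfalso
      rw [X.toCfg.ee_one, ← hne] at hbe
      have h2 := mul_left_cancel (mul_right_cancel hbe)
      exact (by decide : ∀ x ∈ ([1, 7] : List ℕ), x ≠ 2) x hx (X.toCfg.ee_inj hx16 (by norm_num) h2.symm)
    · exact h
  obtain ⟨b, hb, hbe⟩ := himg 1 (by simp)
  obtain ⟨b', hb', hbe'⟩ := himg 7 (by simp)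
  have hbne : b ≠ b' := by
    rintro rfl
    have h2 := mul_left_cancel (mul_right_cancel (hbe.trans hbe'.symm))
    exact absurd (X.toCfg.ee_inj (by norm_num) (by norm_num) h2) (by norm_num)
  have h6 : IsConj (ee φ 6) (ee φ 4) := by
    refine (isConj_iff.2 ⟨n, ?_⟩ : IsConj (ee φ 6) (ee φ (b ^^^ b'))).trans
      (step _ (by simp) _ (q_xor b hb b' hb' hbne) 4 (by simp))
    rw [← Cfg.ee_mul φ (line_lt b hb) (line_lt b' hb'), ← hbe, ← hbe',
      show (6 : ℕ) = 1 ^^^ 7 from rfl, ← Cfg.ee_mul φ (by norm_num : (1:ℕ) < 16) (by norm_num)]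
    group
  rcases ((by decide : ∀ a ∈ ([3, 4, 5, 6, 8, 9, 10, 12, 13, 14] : List ℕ),
    a ∈ [3, 6, 10, 14] ∨ a ∈ [4, 5, 8, 9, 12, 13]) a ha) with h | h
  · exact h6.symm.trans (step _ (by simp) 6 (by simp) a h)
  · exact step _ (by simp) 4 (by simp) a h

/-- The first class. -/
theorem isConj_phi {p : Cm} : IsConj t (φ p) ↔ p ∈ Cm.dL := by
  constructor
  · intro h
    obtain ⟨g, hg⟩ := isConj_iff.1 h
    have hp2 : p * p = 1 := X.inj (by
      rw [map_mul, map_one, ← hg,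
        show g * t * g⁻¹ * (g * t * g⁻¹) = g * (t * t) * g⁻¹ by group, X.toCfg.t_sq]
      group)
    have hp1 : p ≠ 1 := fun h => X.toCfg.t_ne_one (by rwa [h, map_one, conj_eq_one_iff] at hg)
    obtain ⟨c, a, ha, -, hca⟩ := X.toCfg.exists_conj_io hp2 hp1
    have hl := (X.isConj_ee ha).1 (h.trans (isConj_iff.2 ⟨φ c, by rw [ee, ← hca, map_mul, map_mul, map_inv]⟩))
    have hp : p = c⁻¹ * io a * c := by rw [← hca]; group
    rcases List.mem_cons.1 hl with rfl | hl'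
    · refine List.mem_cons.2 (Or.inl ?_)
      rw [hp, show io 1 = zc from rfl, mul_assoc, ← zc_central, inv_mul_cancel_left]
    · refine List.mem_cons_of_mem _ ?_
      have h1 := conj_wpL _ (((io_classes ⟨a, ha⟩).1).2 hl') c⁻¹
      rwa [inv_inv, ← hp] at h1
  · intro h
    rcases List.mem_cons.1 h with rfl | h
    · rw [X.hz]
    obtain ⟨hp2, hp1⟩ := invL_sq p ((classes p).2 (Or.inl (List.mem_cons_of_mem _ h)))
    obtain ⟨c, a, ha, -, hca⟩ := X.toCfg.exists_conj_io hp2 hp1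
    have hl : io a ∈ Cm.wpL := hca ▸ conj_wpL p h c
    refine ((X.isConj_ee ha).2 (List.mem_cons_of_mem _ (((io_classes ⟨a, ha⟩).1).1 hl))).trans ?_
    refine isConj_iff.2 ⟨(φ c)⁻¹, ?_⟩
    rw [ee, ← hca, map_mul, map_mul, map_inv]; group

/-- The second class. -/
theorem isConj_phi_u {p : Cm} (h : p ∈ Cm.uL) : IsConj (ee φ 4) (φ p) := by
  obtain ⟨hp2, hp1⟩ := invL_sq p ((classes p).2 (Or.inr h))
  obtain ⟨c, a, ha, -, hca⟩ := X.toCfg.exists_conj_io hp2 hp1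
  have hl : io a ∈ Cm.uL := hca ▸ conj_uL p h c
  refine (X.isConj_four (((io_classes ⟨a, ha⟩).2).1 hl)).trans ?_
  refine isConj_iff.2 ⟨(φ c)⁻¹, ?_⟩
  rw [ee, ← hca, map_mul, map_mul, map_inv]; group

theorem two_classes {x : G} (hx : x * x = 1) (h1 : x ≠ 1) : IsConj t x ∨ IsConj (ee φ 4) x := by
  haveI : Fact (Nat.Prime 2) := ⟨Nat.prime_two⟩
  obtain ⟨S, hS⟩ := X.toCfg.exists_sylow
  obtain ⟨g, hg⟩ := CfsgLib.Invol.exists_conj_invol_mem_sylow S (CfsgLib.Invol.invol_of_mul_self hx h1)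
  have hg' : g * x * g⁻¹ ∈ (S : Subgroup G) := hg
  rw [hS] at hg'
  obtain ⟨p, -, hp⟩ := hg'
  have hback : IsConj (φ p) x := isConj_iff.2 ⟨g⁻¹, by rw [hp]; group⟩
  have hp2 : p * p = 1 := X.inj (by
    rw [map_mul, map_one, hp, show g * x * g⁻¹ * (g * x * g⁻¹) = g * (x * x) * g⁻¹ by group, hx]
    group)
  have hp1 : p ≠ 1 := fun h => h1 (by rwa [h, map_one, eq_comm, conj_eq_one_iff] at hp)
  rcases (classes p).1 ((mem_invL p hp2).resolve_left hp1) with h | h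
  · exact Or.inl ((X.isConj_phi.2 h).trans hback)
  · exact Or.inr ((X.isConj_phi_u h).trans hback)

theorem four_not_conj : ¬ IsConj t (ee φ 4) := fun h =>
  absurd ((X.isConj_ee (by norm_num)).1 h) (by decide)

end Cfg2

end CfsgLib.Recog.U4Two
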