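import Cfsg.Agent.Lib.Recog.U4Two.Data
import Cfsg.Agent.Lib.Invol.SpFourFusion
import Mathlib.Algebra.Field.ZMod
import Mathlib.Algebra.Group.MinimalAxioms

/-!
The multiplication on the codes is the one of the centralizer of `(1,-1)` in `PSp_4(3)`.
-/

set_option autoImplicit false
set_option linter.unusedSectionVars false

namespace CfsgLib.Recog.U4Two

open Matrix CfsgLib.Invol.SpFour
open scoped MatrixGroups

instance : Fact (Nat.Prime 3) := ⟨Nat.prime_three⟩

/-- The matrix with a given code. -/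
def matZ (i : ℕ) : Matrix (Fin 2) (Fin 2) (ZMod 3) :=
  let q := mats.getD i (1, 0, 0, 1)
  !![(q.1 : ZMod 3), (q.2.1 : ZMod 3); (q.2.2.1 : ZMod 3), (q.2.2.2 : ZMod 3)]

/-- The element of `SL_2(3)` with a given code. -/
def decZ (i : ℕ) : SL(2, ZMod 3) := if h : (matZ i).det = 1 then ⟨matZ i, h⟩ else 1

theorem decZ_mul : ∀ i : Fin 24, ∀ j : Fin 24, tm i j < 24 ∧ decZ (tm i j) = decZ i * decZ j := by
  decide +kernel

theorem decZ_inv : ∀ i : Fin 24, ti i < 24 ∧ decZ (ti i) * decZ i = 1 := by decide +kernel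

theorem decZ_neg : ∀ i : Fin 24, decZ ((i + 12) % 24) = -decZ i := by decide +kernel

theorem decZ_inj : ∀ i : Fin 24, ∀ j : Fin 24, decZ i = decZ j → i = j := by decide +kernel

theorem decZ_zero : decZ 0 = 1 := by decide +kernel

theorem decZ_surj_entries : ∀ a b c d : ZMod 3, a * d - b * c = 1 →
    ∃ i : Fin 24, (decZ i : Matrix (Fin 2) (Fin 2) (ZMod 3)) 0 0 = a ∧
      (decZ i : Matrix (Fin 2) (Fin 2) (ZMod 3)) 0 1 = b ∧
      (decZ i : Matrix (Fin 2) (Fin 2) (ZMod 3)) 1 0 = c ∧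
      (decZ i : Matrix (Fin 2) (Fin 2) (ZMod 3)) 1 1 = d := by decide +kernel

theorem decZ_surj (g : SL(2, ZMod 3)) : ∃ i : Fin 24, decZ i = g := by
  obtain ⟨i, h1, h2, h3, h4⟩ := decZ_surj_entries (g.1 0 0) (g.1 0 1) (g.1 1 0) (g.1 1 1)
    (by rw [← Matrix.det_fin_two]; exact g.2)
  refine ⟨i, Subtype.ext (Matrix.ext fun a b => ?_)⟩
  fin_cases a <;> fin_cases b <;> assumption

section Psi

variable {F : Type*} [Field F] (f : ZMod 3 →+* F)

local notation "Sp4" => Matrix.symplecticGroup (Fin 2) F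
local notation "Gp" => Cfsg.PSp 2 F

/-- The element of `SL_2(F)` with a given code. -/
def decF (i : ℕ) : SL(2, F) := Matrix.SpecialLinearGroup.map f (decZ i)

theorem decF_mul {i j : ℕ} (hi : i < 24) (hj : j < 24) : decF f (tm i j) = decF f i * decF f j := by
  rw [decF, decF, decF, (decZ_mul ⟨i, hi⟩ ⟨j, hj⟩).2, map_mul]

theorem tm_lt {i j : ℕ} (hi : i < 24) (hj : j < 24) : tm i j < 24 := (decZ_mul ⟨i, hi⟩ ⟨j, hj⟩).1

theorem decF_neg {i : ℕ} (hi : i < 24) : decF f ((i + 12) % 24) = -decF f i := by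
  rw [decF, decF, decZ_neg ⟨i, hi⟩]
  refine Subtype.ext ?_
  ext a b
  show ((-decZ i : SL(2, ZMod 3)) : Matrix (Fin 2) (Fin 2) (ZMod 3)).map f a b = -((decZ i).1.map f a b)
  simp

theorem decF_inj {i j : ℕ} (hi : i < 24) (hj : j < 24) (h : decF f i = decF f j) : i = j := by
  have h1 : decZ i = decZ j := by
    refine Subtype.ext (Matrix.map_injective (f := f) f.injective ?_)
    exact congrArg Subtype.val h
  exact congrArg Fin.val (decZ_inj ⟨i, hi⟩ ⟨j, hj⟩ h1)

/-- A power of the swap. -/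
def wpow (s : ℕ) : Sp4 := if s = 0 then 1 else wS F

/-- The element of `PSp_4` with given coordinates. -/
def psiSXY (s x y : ℕ) : Gp := prj (d2 (decF f x) (decF f y) * wpow s)

/-- The map to `PSp_4`. -/
def psi (p : Cm) : Gp := psiSXY f p.sOf p.xOf p.yOf

namespace Cm

theorem sOf_lt (p : Cm) : p.sOf < 2 := by
  have := p.code.isLt; unfold sOf; omega

theorem xOf_lt (p : Cm) : p.xOf < 24 := Nat.mod_lt _ (by omega)

theorem yOf_lt (p : Cm) : p.yOf < 12 := Nat.mod_lt _ (by omega)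

theorem ext_coords {p q : Cm} (h1 : p.sOf = q.sOf) (h2 : p.xOf = q.xOf) (h3 : p.yOf = q.yOf) : p = q := by
  obtain ⟨a⟩ := p
  obtain ⟨b⟩ := q
  have ha := a.isLt
  have hb := b.isLt
  simp only [sOf, xOf, yOf] at h1 h2 h3
  refine congrArg Cm.mk (Fin.ext ?_)
  omega

end Cm

theorem psi_ofSXY {s x y : ℕ} (hs : s < 2) (hx : x < 24) (hy : y < 24) :
    psi f (Cm.ofSXY s x y) = psiSXY f s x y := by
  unfold psi Cm.ofSXY
  by_cases h : y < 12
  · rw [if_pos h]
    have e : ((Fin.ofNat 576 ((s * 24 + x) * 12 + y) : Fin 576) : ℕ) = (s * 24 + x) * 12 + y :=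
      Nat.mod_eq_of_lt (by omega)
    simp only [Cm.sOf, Cm.xOf, Cm.yOf, e]
    congr 1 <;> omega
  · rw [if_neg h]
    have e : ((Fin.ofNat 576 ((s * 24 + (x + 12) % 24) * 12 + (y - 12)) : Fin 576) : ℕ) =
        (s * 24 + (x + 12) % 24) * 12 + (y - 12) := Nat.mod_eq_of_lt (by omega)
    simp only [Cm.sOf, Cm.xOf, Cm.yOf, e]
    rw [show ((s * 24 + (x + 12) % 24) * 12 + (y - 12)) / 288 = s by omega,
      show ((s * 24 + (x + 12) % 24) * 12 + (y - 12)) / 12 % 24 = (x + 12) % 24 by omega,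
      show ((s * 24 + (x + 12) % 24) * 12 + (y - 12)) % 12 = y - 12 by omega]
    unfold psiSXY
    rw [show decF f (y - 12) = -decF f y by
      rw [← decF_neg f hy, show (y + 12) % 24 = y - 12 by omega], decF_neg f hx, ← neg_d2, mul_assoc,
      prj_neg]

theorem psiSXY_mul {s x y s' x' y' : ℕ} (hs : s < 2) (hx : x < 24) (hy : y < 24) (hs' : s' < 2)
    (hx' : x' < 24) (hy' : y' < 24) :
    psiSXY f s x y * psiSXY f s' x' y' =
      if s = 0 then psiSXY f s' (tm x x') (tm y y') else psiSXY f (1 - s') (tm x y') (tm y x') := by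
  unfold psiSXY
  rw [← map_mul]
  rcases (show s = 0 ∨ s = 1 by omega) with rfl | rfl
  · rw [if_pos rfl, decF_mul f hx hx', decF_mul f hy hy', ← d2_mul]
    simp [wpow, mul_assoc]
  · rw [if_neg (by omega), decF_mul f hx hy', decF_mul f hy hx', ← d2_mul]
    congr 1
    have e : wS F * d2 (decF f x') (decF f y') = d2 (decF f y') (decF f x') * wS F := wS_d2 _ _
    rcases (show s' = 0 ∨ s' = 1 by omega) with rfl | rfl
    · simp [wpow, mul_assoc, e]
    · simp only [wpow, one_ne_zero, if_false, Nat.sub_self, if_true, mul_one]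
      rw [mul_assoc, ← mul_assoc (wS F), e, mul_assoc (d2 _ _), wS_sq, mul_one]

theorem psi_mul (p q : Cm) : psi f (p * q) = psi f p * psi f q := by
  have hs := p.sOf_lt
  have hx := p.xOf_lt
  have hy : p.yOf < 24 := p.yOf_lt.trans (by omega)
  have hs' := q.sOf_lt
  have hx' := q.xOf_lt
  have hy' : q.yOf < 24 := q.yOf_lt.trans (by omega)
  show psi f (if p.sOf = 0 then _ else _) = psiSXY f p.sOf p.xOf p.yOf * psiSXY f q.sOf q.xOf q.yOf
  rw [psiSXY_mul f hs hx hy hs' hx' hy']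
  split_ifs with h
  · exact psi_ofSXY f hs' (tm_lt hx hx') (tm_lt hy hy')
  · exact psi_ofSXY f (by omega) (tm_lt hx hy') (tm_lt hy hx')

theorem psi_one : psi f (1 : Cm) = 1 := by
  show prj (d2 (decF f 0) (decF f 0) * wpow 0) = 1
  simp [decF, decZ_zero, wpow, d2_one]

theorem psi_injective : Function.Injective (psi f) := by
  intro p q h
  unfold psi psiSXY at h
  have hs := p.sOf_lt
  have hs' := q.sOf_lt
  have hy : p.yOf < 24 := p.yOf_lt.trans (by omega)
  have hy' : q.yOf < 24 := q.yOf_lt.trans (by omega)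
  have key : p.sOf = q.sOf ∧
      d2 (decF f p.xOf) (decF f p.yOf) = d2 (decF f q.xOf) (decF f q.yOf) := by
    rcases prj_eq_iff.1 h with e | e
    all_goals first | rw [← mul_assoc, neg_d2] at e | skip
    all_goals
      rcases (show p.sOf = 0 ∨ p.sOf = 1 by omega) with hp | hp <;>
        rcases (show q.sOf = 0 ∨ q.sOf = 1 by omega) with hq | hq <;>
        simp only [wpow, hp, hq, if_true, one_ne_zero, if_false, mul_one, mul_left_inj] at e ⊢
    all_goals first
      | exact absurd e (d2_ne_d2_w _ _ _ _)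
      | exact absurd e.symm (d2_ne_d2_w _ _ _ _)
      | exact ⟨trivial, e⟩
      | skip
    all_goals
      exfalso
      obtain ⟨-, e2⟩ := d2_inj e
      rw [← decF_neg f hy'] at e2
      have := decF_inj f hy (Nat.mod_lt _ (by omega)) e2
      have h1 := p.yOf_lt
      have h2 := q.yOf_lt
      omega
  obtain ⟨e1, e2⟩ := d2_inj key.2
  exact Cm.ext_coords key.1 (decF_inj f p.xOf_lt q.xOf_lt e1) (decF_inj f hy hy' e2)

theorem psi_inv (p : Cm) : psi f p⁻¹ * psi f p = 1 := by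
  have hs := p.sOf_lt
  have hx := p.xOf_lt
  have hy : p.yOf < 24 := p.yOf_lt.trans (by omega)
  obtain ⟨hix, hx1⟩ := decZ_inv ⟨p.xOf, hx⟩
  obtain ⟨hiy, hy1⟩ := decZ_inv ⟨p.yOf, hy⟩
  show psi f (if p.sOf = 0 then _ else _) * _ = 1
  have he : ∀ {i : ℕ} (hi : i < 24) (hti : ti i < 24), decZ (ti i) * decZ i = 1 → decF f (tm (ti i) i) = 1 :=
    fun hi hti h => by rw [decF, (decZ_mul ⟨_, hti⟩ ⟨_, hi⟩).2, h, map_one]
  rcases (show p.sOf = 0 ∨ p.sOf = 1 by omega) with h | h
  · rw [if_pos h, psi_ofSXY f (by omega) hix hiy, psi, psiSXY_mul f (by omega) hix hiy hs hx hy,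
      if_pos rfl, h]
    simp [psiSXY, wpow, he hx hix hx1, he hy hiy hy1, d2_one]
  · rw [if_neg (by omega), psi_ofSXY f (by omega) hiy hix, psi,
      psiSXY_mul f (by omega) hiy hix hs hx hy, if_neg (by omega), h]
    simp [psiSXY, wpow, he hx hix hx1, he hy hiy hy1, d2_one]

end Psi

instance : Group Cm :=
  Group.ofLeftAxioms
    (fun a b c => psi_injective (RingHom.id (ZMod 3)) (by simp only [psi_mul, mul_assoc]))
    (fun a => psi_injective (RingHom.id (ZMod 3)) (by rw [psi_mul, psi_one, one_mul]))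
    (fun a => psi_injective (RingHom.id (ZMod 3)) (by rw [psi_mul, psi_inv, psi_one]))

/-- The map to `PSp_4` as a homomorphism. -/
def psiHom {F : Type*} [Field F] (f : ZMod 3 →+* F) : Cm →* Cfsg.PSp 2 F :=
  MonoidHom.mk' (psi f) (psi_mul f)

end CfsgLib.Recog.U4Two
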