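import Cfsg.Agent.Lib.Recog.U4Two.Simple
import Cfsg.Agent.Lib.Golay.FischerPolarMain
import Cfsg.Agent.Lib.Char.Burnside
import Cfsg.Agent.Lib.Classical.SUCenter
import Cfsg.Agent.Lib.Classical.HermOrder

/-!
A group without subgroup of index 2 having an involution with centralizer `(SL_2(3) ∘ SL_2(3)).2`
is `PSU_4(2)`.
-/

set_option autoImplicit false
set_option linter.unusedSectionVars false
set_option linter.style.haveILetI false

namespace CfsgLib.Recog.U4Two

open Subgroup

theorem card_psu_five {F : Type*} [Field F] [Fintype F] (hF : Fintype.card F = 4) :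
    Nat.card (Cfsg.PSU 5 F 2) = 13685760 := by
  have hF' : Fintype.card F = 2 ^ 2 := by rw [hF]; norm_num
  have h := CfsgLib.Classical.card_psu_mul hF' (n := 5) (by norm_num)
  rw [CfsgLib.Classical.card_gu hF' 5, show Nat.gcd 5 (2 + 1) = 1 by decide] at h
  simp only [Finset.prod_range_succ, Finset.prod_range_zero] at h
  norm_num [Nat.even_iff] at h
  omega

variable {G : Type*} [Group G] [Finite G] {t : G} {φ : Cm →* G}

theorem Cfg2.psu (X : Cfg2 t φ) :
    ∃ (F : Type) (_ : Field F) (_ : Fintype F), Fintype.card F = 4 ∧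
      Nonempty (G ≃* Cfsg.PSU 4 F 2) := by
  classical
  haveI := X.isSimple
  have hnc : ¬ ∀ a b : G, a * b = b * a := by
    intro h
    have h1 : centralizer ({t} : Set G) = ⊤ := eq_top_iff.2 fun g _ => mem_centralizer_singleton_iff.2 (h g t)
    have h2 := X.card_centralizer_t
    rw [h1, Subgroup.card_top, X.card_group] at h2
    omega
  have hcomm : commutator G = ⊤ :=
    ((inferInstance : IsSimpleGroup G).eq_bot_or_eq_top_of_normal _ inferInstance).resolve_left fun h =>
      hnc fun a b => (commutatorElement_eq_one_iff_mul_comm.1 (mem_bot.1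
        (h ▸ Subgroup.commutator_mem_commutator (mem_top a) (mem_top b))))
  have hperf : ⁅commutator G, commutator G⁆ = commutator G := by
    rw [hcomm, ← commutator_def, hcomm]
  have hsol : ∀ N : Subgroup G, N.Normal → Group.IsSolvable ↥N → N = ⊥ := by
    intro N hN hs
    refine ((inferInstance : IsSimpleGroup G).eq_bot_or_eq_top_of_normal N hN).resolve_right fun h => ?_
    subst h
    haveI := hs
    haveI : Group.IsSolvable G := Group.isSolvable_of_surjective (f := (Subgroup.topEquiv (G := G)).toMonoidHom)
      (Subgroup.topEquiv (G := G)).surjective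
    have := Group.IsSolvable.commutator_lt_top_of_nontrivial G
    rw [hcomm] at this
    exact lt_irrefl _ this
  obtain ⟨D, hD⟩ : ∃ D, D = conjugatesOf t := ⟨_, rfl⟩
  have hclass : Cfsg.IsThreeTranspositionClass D := by
    refine ⟨hD ▸ X.isThree, ⟨t, hD ▸ mem_conjugatesOf_self, hD⟩, ?_⟩
    haveI hn : (closure D).Normal := by
      constructor
      intro n hn g
      have : (closure D).map (MulAut.conj g).toMonoidHom ≤ closure D := by
        rw [MonoidHom.map_closure, closure_le]
        rintro _ ⟨d, hd, rfl⟩
        refine subset_closure ?_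
        rw [hD] at hd ⊢
        exact IsConj.trans hd (isConj_iff.2 ⟨g, rfl⟩)
      exact this ⟨n, hn, rfl⟩
    refine ((inferInstance : IsSimpleGroup G).eq_bot_or_eq_top_of_normal _ hn).resolve_left fun h => ?_
    exact X.toCfg.t_ne_one (mem_bot.1 (h ▸ subset_closure (hD ▸ mem_conjugatesOf_self)))
  have hxs : Group.IsSolvable ↥(closure (CfsgLib.FischerOdd.Perp D t)) := by
    have hle : closure (CfsgLib.FischerOdd.Perp D t) ≤ centralizer ({t} : Set G) :=
      (closure_le _).2 fun y hy => mem_centralizer_singleton_iff.2 hy.2.2.symm.eq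
    haveI : Group.IsSolvable ↥(centralizer ({t} : Set G)) :=
      CfsgLib.Char.burnside_pq 2 3 Nat.prime_two Nat.prime_three 6 2 _
        (by rw [X.card_centralizer_t]; norm_num)
    exact Group.isSolvable_of_isSolvable_injective (inclusion_injective hle)
  rcases CfsgLib.FischerPolar.solvable_case hsol hperf hclass (hD ▸ mem_conjugatesOf_self) hxs with
    ⟨⟨e⟩⟩ | ⟨⟨e⟩⟩ | ⟨F, hf, hfi, hF, h | ⟨⟨e⟩⟩⟩
  · have h := Nat.card_congr e.toEquiv
    rw [X.card_group, Nat.card_perm, Nat.card_fin] at h
    norm_num [Nat.factorial] at h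
  · have h := Nat.card_congr e.toEquiv
    rw [X.card_group, Nat.card_perm, Nat.card_fin] at h
    norm_num [Nat.factorial] at h
  · exact ⟨F, hf, hfi, hF, h⟩
  · have h := Nat.card_congr e.toEquiv
    rw [X.card_group, card_psu_five hF] at h
    norm_num at h

end CfsgLib.Recog.U4Two
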