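import Cfsg.Agent.Lib.Recog.U4Two.CentSix
import Cfsg.Agent.S1875

/-!
The group has order 25920, by Thompson's order formula.
-/

set_option autoImplicit false
set_option linter.unusedSectionVars false
set_option linter.style.haveILetI false

namespace CfsgLib.Recog.U4Two

open Subgroup Cm

theorem hits_iff (p t : Cm) : ∀ (n : ℕ) (acc : Cm),
    Cm.hits p t n acc = true ↔ ∃ j < n, acc * p ^ j = t
  | 0, acc => by simp [Cm.hits]
  | n + 1, acc => by
    rw [Cm.hits, Bool.or_eq_true, beq_iff_eq, hits_iff p t n]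
    constructor
    · rintro (rfl | ⟨j, hj, rfl⟩)
      · exact ⟨0, by omega, by rw [pow_zero, mul_one]⟩
      · exact ⟨j + 1, by omega, by rw [pow_succ', mul_assoc]⟩
    · rintro ⟨j, hj, rfl⟩
      cases j with
      | zero => left; rw [pow_zero, mul_one]
      | succ j => right; exact ⟨j, by omega, by rw [pow_succ', mul_assoc]⟩

theorem inPow_iff (p t : Cm) : Cm.inPow p t = true ↔ t ∈ zpowers p := by
  rw [Cm.inPow, hits_iff]
  simp only [one_mul]
  constructor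
  · rintro ⟨j, -, rfl⟩; exact pow_mem (mem_zpowers p) j
  · intro h
    obtain ⟨k, hk⟩ := pow_twelve p
    obtain ⟨j, hj, hje⟩ := (hits_iff p 1 _ p).1 hk
    have hpj : p ^ (j + 1) = 1 := by rw [pow_succ', hje]
    obtain ⟨n, rfl⟩ := mem_powers_iff_mem_zpowers.2 h
    refine ⟨n % (j + 1), lt_of_lt_of_le (Nat.mod_lt _ (by omega)) (by omega), ?_⟩
    show p ^ (n % (j + 1)) = p ^ n
    conv_rhs => rw [← Nat.mod_add_div n (j + 1), pow_add, pow_mul, hpj, one_pow, mul_one]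

theorem map_mem_zpowers {H H' : Type*} [Group H] [Group H'] {φ : H →* H'} (hφ : Function.Injective φ)
    {w p : H} : φ w ∈ zpowers (φ p) ↔ w ∈ zpowers p := by
  constructor
  · intro h
    obtain ⟨k, hk⟩ := mem_zpowers_iff.1 h
    exact mem_zpowers_iff.2 ⟨k, hφ (by rw [map_zpow]; exact hk)⟩
  · intro h
    obtain ⟨k, hk⟩ := mem_zpowers_iff.1 h
    exact mem_zpowers_iff.2 ⟨k, by rw [← map_zpow, hk]⟩

theorem conj_mem_zpowers {H : Type*} [Group H] {w x y : H} (g : H) :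
    g * w * g⁻¹ ∈ zpowers ((g * x * g⁻¹) * (g * y * g⁻¹)) ↔ w ∈ zpowers (x * y) := by
  have := map_mem_zpowers (φ := (MulAut.conj g).toMonoidHom) (MulAut.conj g).injective (w := w) (p := x * y)
  rwa [map_mul] at this

/-- An involution generated by the product of two involutions commutes with both. -/
theorem commute_of_mem_zpowers {H : Type*} [Group H] {x y w : H} (hx : x * x = 1) (hy : y * y = 1)
    (hw : w * w = 1) (h : w ∈ zpowers (x * y)) : x * w = w * x ∧ y * w = w * y := by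
  obtain ⟨k, rfl⟩ := mem_zpowers_iff.1 h
  have h1 : x * (x * y) * x⁻¹ = (x * y)⁻¹ := by
    rw [_root_.mul_inv_rev, inv_eq_of_mul_eq_one_right hy, ← mul_assoc x x y, hx, one_mul]
  have h2 : x * (x * y) ^ k * x⁻¹ = (x * y) ^ k := by
    calc x * (x * y) ^ k * x⁻¹ = (MulAut.conj x) ((x * y) ^ k) := rfl
      _ = (x * (x * y) * x⁻¹) ^ k := by rw [map_zpow]; rfl
      _ = _ := by rw [h1, inv_zpow, inv_eq_of_mul_eq_one_right hw]
  have hc : x * (x * y) ^ k = (x * y) ^ k * x := mul_inv_eq_iff_eq_mul.1 h2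
  refine ⟨hc, ?_⟩
  have h3 : x * y * (x * y) ^ k = (x * y) ^ k * (x * y) := (Commute.self_zpow (x * y) k).eq
  calc y * (x * y) ^ k = x⁻¹ * (x * y * (x * y) ^ k) := by rw [mul_assoc x, inv_mul_cancel_left]
    _ = x⁻¹ * ((x * y) ^ k * x * y) := by rw [h3, ← mul_assoc ((x * y) ^ k)]
    _ = x⁻¹ * (x * (x * y) ^ k * y) := by rw [hc]
    _ = (x * y) ^ k * y := by rw [mul_assoc x, inv_mul_cancel_left]

theorem fin16_q : ∀ a : Fin 16, (a : ℕ) ≠ 0 → (a : ℕ) ∉ ([1, 2, 7, 11, 15] : List ℕ) →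
    1 ^^^ (a : ℕ) ∉ ([1, 2, 7, 11, 15] : List ℕ) → (a : ℕ) ∈ ([4, 5, 8, 9, 12, 13] : List ℕ) := by decide

namespace Cfg2

variable {G : Type*} [Group G] [Finite G] {t : G} {φ : Cm →* G} (X : Cfg2 t φ)

include X

open Cfg

theorem sq_of_conj {v x : G} (hv : v * v = 1) (h : IsConj v x) : x * x = 1 := by
  obtain ⟨g, rfl⟩ := isConj_iff.1 h
  rw [show g * v * g⁻¹ * (g * v * g⁻¹) = g * (v * v) * g⁻¹ by group, hv]
  group

theorem u_sq : ee φ 4 * ee φ 4 = 1 := ee_sq φ (by norm_num)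

theorem u_ne_one : ee φ 4 ≠ 1 := fun h =>
  absurd (X.toCfg.ee_inj (by norm_num) (by norm_num) (h.trans (ee_zero φ).symm)) (by norm_num)

theorem isConj_u_phi {q : Cm} : IsConj (ee φ 4) (φ q) ↔ q ∈ Cm.uL := by
  refine ⟨fun h => ?_, X.isConj_phi_u⟩
  have hq2 : q * q = 1 := X.inj (by rw [map_mul, map_one]; exact X.sq_of_conj X.u_sq h)
  have hq1 : q ≠ 1 := fun e => X.u_ne_one (by
    obtain ⟨g, hg⟩ := isConj_iff.1 h
    rwa [e, map_one, conj_eq_one_iff] at hg)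
  rcases (classes q).1 ((mem_invL q hq2).resolve_left hq1) with hd | hu
  · exact absurd ((X.isConj_phi.2 hd).trans h.symm) X.four_not_conj
  · exact hu

/-- The conjugates of `t` in the centralizer of `u` lie in `E`. -/
theorem conj_t_cU {x : G} (hx : IsConj t x) (hxu : x ∈ cU φ) : x ∈ esub φ := by
  haveI : Fact (Nat.Prime 2) := ⟨Nat.prime_two⟩
  obtain ⟨g, rfl⟩ := isConj_iff.1 hx
  obtain ⟨p, hp⟩ := (X.range (g⁻¹ * ee φ 4 * g)).1 (by
    have h := mem_cU.1 hxu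
    calc g⁻¹ * ee φ 4 * g * t = g⁻¹ * (ee φ 4 * (g * t * g⁻¹)) * g := by group
      _ = g⁻¹ * (g * t * g⁻¹ * ee φ 4) * g := by rw [h]
      _ = _ := by group)
  have hp2 : p * p = 1 := X.inj (by
    rw [map_mul, map_one, hp,
      show g⁻¹ * ee φ 4 * g * (g⁻¹ * ee φ 4 * g) = g⁻¹ * (ee φ 4 * ee φ 4) * g by group, X.u_sq]
    group)
  have hp1 : p ≠ 1 := fun h => X.u_ne_one (by
    rw [h, map_one] at hp
    calc ee φ 4 = g * (g⁻¹ * ee φ 4 * g) * g⁻¹ := by group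
      _ = 1 := by rw [← hp]; group)
  obtain ⟨c, a, ha, -, hca⟩ := X.toCfg.exists_conj_io hp2 hp1
  obtain ⟨A, hA⟩ : ∃ A, A = (esub φ).map (MulAut.conj (g * φ c⁻¹)).toMonoidHom := ⟨_, rfl⟩
  have hAe : Elem16 A := hA ▸ X.toCfg.elem16_esub.conj _
  have hxA : g * t * g⁻¹ ∈ A := hA ▸ ⟨t, X.toCfg.ee_one ▸ ee_mem (φ := φ) (a := 1) (by norm_num), by
    show g * φ c⁻¹ * t * (g * φ c⁻¹)⁻¹ = _
    rw [mul_assoc g (φ c⁻¹) t, X.toCfg.comm_t]; group⟩
  have huA : ee φ 4 ∈ A := hA ▸ ⟨ee φ a, ee_mem ha, by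
    show g * φ c⁻¹ * ee φ a * (g * φ c⁻¹)⁻¹ = _
    rw [ee, ← hca, map_mul, map_mul, hp, map_inv]; group⟩
  have hAK : A ≤ normalizer (esub φ : Set G) := fun z hz =>
    X.cent_u.2 (mem_cU.2 (hAe.comm hz huA))
  have h2 : ∀ {B : Subgroup G}, Elem16 B → IsPGroup 2 B := fun hB =>
    IsPGroup.of_card (n := 4) (by rw [hB.1]; norm_num)
  have := X.toCfg.elem16_unique
    (IsPGroup.to_sup_of_normal_left' (h2 X.toCfg.elem16_esub) (h2 hAe) hAK)
    X.toCfg.elem16_esub hAe le_sup_left le_sup_right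
  rw [this]; exact hxA

theorem conj_127 {y : G} (hy : y ∈ cU φ) (hn : y ∈ normalizer (esub φ : Set G)) {e : ℕ}
    (he : e ∈ ([1, 2, 7] : List ℕ)) : ∃ e' ∈ ([1, 2, 7] : List ℕ), y * ee φ e * y⁻¹ = ee φ e' := by
  obtain ⟨hde, h11, h15⟩ := (by decide : ∀ b ∈ ([1, 2, 7] : List ℕ),
    b ∈ ([1, 2, 7, 11, 15] : List ℕ) ∧ b ≠ 11 ∧ b ≠ 15) e he
  obtain ⟨e', he', hee⟩ := X.conj_de hn hde
  have hinj : ∀ {c : ℕ}, c ∈ ([1, 2, 7, 11, 15] : List ℕ) → y * ee φ c * y⁻¹ = ee φ e' → e = c :=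
    fun hc h => X.toCfg.ee_inj (de_lt e hde) (de_lt _ hc)
      (mul_left_cancel (mul_right_cancel (hee.trans h.symm)))
  refine ⟨e', (by decide : ∀ e ∈ ([1, 2, 7, 11, 15] : List ℕ), e ≠ 11 → e ≠ 15 →
    e ∈ ([1, 2, 7] : List ℕ)) e' he' (fun h => ?_) (fun h => ?_), hee⟩ <;> subst h
  · rcases X.conj_ab hn hy with ⟨e1, -⟩ | ⟨-, e2⟩
    · exact h11 (hinj (by decide) e1)
    · exact h15 (hinj (by decide) e2)
  · rcases X.conj_ab hn hy with ⟨-, e2⟩ | ⟨e1, -⟩
    · exact h15 (hinj (by decide) e2)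
    · exact h11 (hinj (by decide) e1)

/-- An involution of `C(u)` outside `E` fixes exactly one of `1, 2, 7`. -/
theorem exists_unique_fixed {y : G} (hy : y ∈ cU φ) (hy2 : y * y = 1) (hyE : y ∉ esub φ) :
    ∃! e, e ∈ ([1, 2, 7] : List ℕ) ∧ y * ee φ e = ee φ e * y := by
  have hn := X.cent_u.2 hy
  obtain ⟨a, ha, hae⟩ := X.conj_127 hy hn (e := 1) (by decide)
  obtain ⟨b, hb, hbe⟩ := X.conj_127 hy hn (e := 2) (by decide)
  obtain ⟨c, hc, hce⟩ := X.conj_127 hy hn (e := 7) (by decide)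
  have hl : ∀ {a : ℕ}, a ∈ ([1, 2, 7] : List ℕ) → a < 16 := fun h =>
    (by decide : ∀ a ∈ ([1, 2, 7] : List ℕ), a < 16) _ h
  have hback : ∀ {i j : ℕ}, y * ee φ i * y⁻¹ = ee φ j → y * ee φ j * y⁻¹ = ee φ i := fun {i j} h => by
    rw [← h, show y * (y * ee φ i * y⁻¹) * y⁻¹ = y * y * ee φ i * (y * y)⁻¹ by group, hy2]
    group
  have hne : ∀ {i j k : ℕ}, i < 16 → j < 16 → y * ee φ i * y⁻¹ = ee φ k → y * ee φ j * y⁻¹ = ee φ k → i = j :=
    fun hi hj h h' => X.toCfg.ee_inj hi hj (mul_left_cancel (mul_right_cancel (h.trans h'.symm)))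
  have hval : ∀ {i j k : ℕ}, j < 16 → k < 16 → y * ee φ i * y⁻¹ = ee φ j → y * ee φ i * y⁻¹ = ee φ k → j = k :=
    fun hj hk h h' => X.toCfg.ee_inj hj hk (h.symm.trans h')
  have hab : a ≠ b := fun h => absurd (hne (by norm_num) (by norm_num) hae (h ▸ hbe)) (by norm_num)
  have hac : a ≠ c := fun h => absurd (hne (by norm_num) (by norm_num) hae (h ▸ hce)) (by norm_num)
  have hbc : b ≠ c := fun h => absurd (hne (by norm_num) (by norm_num) hbe (h ▸ hce)) (by norm_num)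
  have hall : ¬ (a = 1 ∧ b = 2 ∧ c = 7) := fun ⟨h1, h2, h7⟩ => hyE (X.norm_fix_three hn
    (a := 1) (b := 2) (c := 7) (by decide) (by decide) (by decide) (by norm_num) (by norm_num)
    (by norm_num) (mul_inv_eq_iff_eq_mul.1 (h1 ▸ hae)) (mul_inv_eq_iff_eq_mul.1 (h2 ▸ hbe))
    (mul_inv_eq_iff_eq_mul.1 (h7 ▸ hce)))
  have h12 : a = 2 → b = 1 := fun h => hval (hl hb) (by norm_num) hbe (h ▸ hback hae)
  have h17 : a = 7 → c = 1 := fun h => hval (hl hc) (by norm_num) hce (h ▸ hback hae)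
  have h27 : b = 7 → c = 2 := fun h => hval (hl hc) (by norm_num) hce (h ▸ hback hbe)
  have fix : ∀ {i j : ℕ}, j < 16 → y * ee φ i * y⁻¹ = ee φ j → i < 16 →
      y * ee φ i = ee φ i * y → j = i := fun hj h hi h' =>
    hval hj hi h (mul_inv_eq_iff_eq_mul.2 h')
  simp only [List.mem_cons, List.not_mem_nil, or_false] at ha hb hc
  rcases (show (a = 1 ∧ b ≠ 2 ∧ c ≠ 7) ∨ (a ≠ 1 ∧ b = 2 ∧ c ≠ 7) ∨ (a ≠ 1 ∧ b ≠ 2 ∧ c = 7) by omega)
    with ⟨h, h', h''⟩ | ⟨h, h', h''⟩ | ⟨h, h', h''⟩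
  · refine ⟨1, ⟨by decide, mul_inv_eq_iff_eq_mul.1 (h ▸ hae)⟩, fun e he => ?_⟩
    obtain ⟨he, hf⟩ := he
    simp only [List.mem_cons, List.not_mem_nil, or_false] at he
    rcases he with rfl | rfl | rfl
    · rfl
    · exact absurd (fix (by omega) hbe (by norm_num) hf) h'
    · exact absurd (fix (by omega) hce (by norm_num) hf) h''
  · refine ⟨2, ⟨by decide, mul_inv_eq_iff_eq_mul.1 (h' ▸ hbe)⟩, fun e he => ?_⟩
    obtain ⟨he, hf⟩ := he
    simp only [List.mem_cons, List.not_mem_nil, or_false] at he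
    rcases he with rfl | rfl | rfl
    · exact absurd (fix (by omega) hae (by norm_num) hf) h
    · rfl
    · exact absurd (fix (by omega) hce (by norm_num) hf) h''
  · refine ⟨7, ⟨by decide, mul_inv_eq_iff_eq_mul.1 (h'' ▸ hce)⟩, fun e he => ?_⟩
    obtain ⟨he, hf⟩ := he
    simp only [List.mem_cons, List.not_mem_nil, or_false] at he
    rcases he with rfl | rfl | rfl
    · exact absurd (fix (by omega) hae (by norm_num) hf) h
    · exact absurd (fix (by omega) hbe (by norm_num) hf) h'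
    · rfl

section Count

attribute [local instance] _root_.Classical.propDecidable

variable [Fintype G]

/-- The pairs of the formula for `w`. -/
theorem count_t : Nat.card {q : G × G // IsConj t q.1 ∧ IsConj (ee φ 4) q.2 ∧ t ∈ zpowers (q.1 * q.2)} = 108 := by
  classical
  obtain ⟨L, hL⟩ : ∃ L, L = ((Cm.dL.product Cm.uL).filter fun q => Cm.inPow (q.1 * q.2) Cm.zc).toFinset := ⟨_, rfl⟩
  have hLc : L.card = 108 := by
    rw [hL]; exact (List.toFinset_card_of_nodup ((dL_nodup.product uL_nodup).filter _)).trans count_at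
  have hinj : Function.Injective fun q : Cm × Cm => (φ q.1, φ q.2) := fun a b h =>
    Prod.ext (X.inj (congrArg Prod.fst h)) (X.inj (congrArg Prod.snd h))
  rw [← hLc, ← Finset.card_image_of_injective L hinj, Nat.card_eq_fintype_card, Fintype.card_subtype]
  congr 1
  ext ⟨x, y⟩
  simp only [Finset.mem_filter, Finset.mem_univ, true_and, Finset.mem_image, hL, List.mem_toFinset,
    List.mem_filter, List.product, List.mem_flatMap, List.mem_map, Prod.mk.injEq]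
  constructor
  · rintro ⟨hx, hy, hz⟩
    obtain ⟨h1, h2⟩ := commute_of_mem_zpowers (X.sq_of_conj X.toCfg.t_sq hx)
      (X.sq_of_conj X.u_sq hy) X.toCfg.t_sq hz
    obtain ⟨p, rfl⟩ := (X.range x).1 h1
    obtain ⟨q, rfl⟩ := (X.range y).1 h2
    refine ⟨(p, q), ⟨⟨p, X.isConj_phi.1 hx, q, X.isConj_u_phi.1 hy, rfl⟩, ?_⟩, rfl, rfl⟩
    rw [inPow_iff, ← map_mem_zpowers X.inj, map_mul, X.hz]
    exact hz
  · rintro ⟨⟨p, q⟩, ⟨⟨p', hp, q', hq, he⟩, hz⟩, rfl, rfl⟩
    obtain ⟨rfl, rfl⟩ := Prod.mk.injEq .. ▸ he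
    refine ⟨X.isConj_phi.2 hp, X.isConj_u_phi.2 hq, ?_⟩
    rw [← X.hz, ← map_mul, map_mem_zpowers X.inj, ← inPow_iff]
    exact hz

/-- The pairs for `u`. -/
noncomputable def pairsU (φ : Cm →* G) (t : G) : Finset (G × G) :=
  Finset.univ.filter fun q => IsConj t q.1 ∧ IsConj (ee φ 4) q.2 ∧ ee φ 4 ∈ zpowers (q.1 * q.2)

theorem mem_pairsU {q : G × G} : q ∈ pairsU φ t ↔
    IsConj t q.1 ∧ IsConj (ee φ 4) q.2 ∧ ee φ 4 ∈ zpowers (q.1 * q.2) := by
  simp [pairsU]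

theorem pairs_facts {q : G × G} (h : q ∈ pairsU φ t) :
    q.1 ∈ esub φ ∧ q.2 ∈ cU φ ∧ q.2 * q.2 = 1 := by
  obtain ⟨h1, h2, h3⟩ := X.mem_pairsU.1 h
  have hy2 := X.sq_of_conj X.u_sq h2
  obtain ⟨e1, e2⟩ := commute_of_mem_zpowers (X.sq_of_conj X.toCfg.t_sq h1) hy2 X.u_sq h3
  exact ⟨X.conj_t_cU h1 (mem_cU.2 e1), mem_cU.2 e2, hy2⟩

/-- The count inside `E`. -/
theorem count_in : ((pairsU φ t).filter fun q => q.2 ∈ esub φ).card = 3 := by
  classical
  obtain ⟨L, hL⟩ : ∃ L, L = ((Cm.dL.product Cm.uL).filter fun q =>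
    Cm.inE q.1 && Cm.inE q.2 && Cm.inPow (q.1 * q.2) (Cm.io 4)).toFinset := ⟨_, rfl⟩
  have hLc : L.card = 3 := by
    rw [hL]; exact (List.toFinset_card_of_nodup ((dL_nodup.product uL_nodup).filter _)).trans (count_au_in 4 (by decide))
  have hinj : Function.Injective fun q : Cm × Cm => (φ q.1, φ q.2) := fun a b h =>
    Prod.ext (X.inj (congrArg Prod.fst h)) (X.inj (congrArg Prod.snd h))
  rw [← hLc, ← Finset.card_image_of_injective L hinj]
  congr 1
  ext ⟨x, y⟩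
  simp only [Finset.mem_filter, Finset.mem_image, hL, List.mem_toFinset, Bool.and_eq_true,
    List.mem_filter, List.product, List.mem_flatMap, List.mem_map, Prod.mk.injEq]
  constructor
  · rintro ⟨h, hyE⟩
    have hxE : x ∈ esub φ := (X.pairs_facts h).1
    obtain ⟨h1, h2, h3⟩ := X.mem_pairsU.1 h
    obtain ⟨a, ha, rfl⟩ := mem_esub.1 hxE
    obtain ⟨b, hb, rfl⟩ := mem_esub.1 hyE
    have hin : ∀ {c : ℕ}, c < 16 → Cm.inE (io c) = true := fun hc => (inE_iff _).2 ⟨⟨_, hc⟩, rfl⟩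
    refine ⟨(io a, io b), ⟨⟨io a, X.isConj_phi.1 h1, io b, X.isConj_u_phi.1 h2, rfl⟩,
      ⟨hin ha, hin hb⟩, ?_⟩, rfl, rfl⟩
    rw [inPow_iff, ← map_mem_zpowers X.inj, map_mul]
    exact h3
  · rintro ⟨⟨p, q⟩, ⟨⟨p', hp, q', hq, he⟩, ⟨h1, h2⟩, hz⟩, rfl, rfl⟩
    obtain ⟨rfl, rfl⟩ := Prod.mk.injEq .. ▸ he
    refine ⟨X.mem_pairsU.2 ⟨X.isConj_phi.2 hp, X.isConj_u_phi.2 hq, ?_⟩, X.toCfg.map_mem_esub.2 h2⟩
    rw [ee, ← map_mul, map_mem_zpowers X.inj, ← inPow_iff]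
    exact hz

/-- The count outside `E`, for each point fixed. -/
theorem count_out {e : ℕ} (he : e ∈ ([1, 2, 7] : List ℕ)) :
    ((pairsU φ t).filter fun q => q.2 ∉ esub φ ∧ q.2 * ee φ e = ee φ e * q.2).card = 8 := by
  classical
  obtain ⟨hde, he16⟩ : e ∈ ([1, 2, 7, 11, 15] : List ℕ) ∧ e < 16 :=
    (by decide : ∀ e ∈ ([1, 2, 7] : List ℕ), e ∈ ([1, 2, 7, 11, 15] : List ℕ) ∧ e < 16) e he
  obtain ⟨g, hg, hge⟩ := (X.orbit_iff he16).2 hde
  obtain ⟨a, ha, hae⟩ := mem_esub.1 ((mem_normalizer_iff.1 (inv_mem hg) _).1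
    (ee_mem (φ := φ) (a := 4) (by norm_num)))
  rw [inv_inv] at hae
  have hau : ee φ 4 = g * ee φ a * g⁻¹ := by rw [hae]; group
  have haQ : a ∈ ([4, 5, 8, 9, 12, 13] : List ℕ) := by
    refine fin16_q ⟨a, ha⟩ (fun h => ?_) (fun h => ?_) (fun h => ?_)
    · simp only at h
      rw [h, ee_zero, mul_one, mul_inv_cancel] at hau
      exact X.u_ne_one hau
    · exact X.four_not_conj (((X.isConj_ee ha).2 h).trans (isConj_iff.2 ⟨g, hau.symm⟩))
    · have h' := (X.isConj_ee (xor_lt (by norm_num : 1 < 16) ha)).2 h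
      have h4 : IsConj t (ee φ (e ^^^ 4)) := h'.trans (isConj_iff.2 ⟨g, by
        rw [← ee_mul φ (by norm_num : 1 < 16) ha, X.toCfg.ee_one, ← ee_mul φ he16 (by norm_num : 4 < 16),
          hau, ← hge]
        group⟩)
      exact (by decide : ∀ e ∈ ([1, 2, 7] : List ℕ), e ^^^ 4 ∉ ([1, 2, 7, 11, 15] : List ℕ)) e he
        ((X.isConj_ee (xor_lt he16 (by norm_num : 4 < 16))).1 h4)
  obtain ⟨L, hL⟩ : ∃ L, L = ((Cm.dL.product Cm.uL).filter fun q =>
    Cm.inE q.1 && !(Cm.inE q.2) && q.2 * Cm.io a == Cm.io a * q.2 &&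
      Cm.inPow (q.1 * q.2) (Cm.io a)).toFinset := ⟨_, rfl⟩
  have hLc : L.card = 8 := by
    rw [hL]; exact (List.toFinset_card_of_nodup ((dL_nodup.product uL_nodup).filter _)).trans (count_au_out a haQ)
  have hinj : Function.Injective fun q : Cm × Cm => (g * φ q.1 * g⁻¹, g * φ q.2 * g⁻¹) := fun a b h =>
    Prod.ext (X.inj (mul_left_cancel (mul_right_cancel (congrArg Prod.fst h))))
      (X.inj (mul_left_cancel (mul_right_cancel (congrArg Prod.snd h))))
  rw [← hLc, ← Finset.card_image_of_injective L hinj]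
  congr 1
  ext ⟨x, y⟩
  simp only [Finset.mem_filter, Finset.mem_image, hL, List.mem_toFinset, Bool.and_eq_true,
    List.mem_filter, List.product, List.mem_flatMap, List.mem_map, Prod.mk.injEq, Bool.not_eq_true',
    beq_iff_eq]
  constructor
  · rintro ⟨h, hyE, hye⟩
    obtain ⟨hxE, hyu, -⟩ := X.pairs_facts h
    simp only at hxE hyu
    obtain ⟨h1, h2, h3⟩ := X.mem_pairsU.1 h
    simp only at h1 h2 h3
    obtain ⟨b, hb, hbe⟩ := mem_esub.1 ((mem_normalizer_iff.1 (inv_mem hg) _).1 hxE)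
    rw [inv_inv] at hbe
    obtain ⟨q, hq⟩ := (X.range (g⁻¹ * y * g)).1 (by
      rw [← hge] at hye
      calc g⁻¹ * y * g * t = g⁻¹ * (y * (g * t * g⁻¹)) * g := by group
        _ = g⁻¹ * (g * t * g⁻¹ * y) * g := by rw [hye]
        _ = _ := by group)
    have hxg : x = g * φ (io b) * g⁻¹ := by rw [← ee, hbe]; group
    have hyg : y = g * φ q * g⁻¹ := by rw [hq]; group
    refine ⟨(io b, q), ⟨⟨io b, X.isConj_phi.1 (h1.trans (isConj_iff.2 ⟨g⁻¹, by rw [hxg]; group⟩)),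
      q, X.isConj_u_phi.1 (h2.trans (isConj_iff.2 ⟨g⁻¹, by rw [hyg]; group⟩)), rfl⟩,
      ⟨⟨⟨(inE_iff _).2 ⟨⟨b, hb⟩, rfl⟩, ?_⟩, ?_⟩, ?_⟩⟩, hxg.symm, hyg.symm⟩
    · rw [Bool.eq_false_iff]
      intro hqE
      refine hyE (hyg ▸ ?_)
      exact (mem_normalizer_iff.1 hg _).1 (X.toCfg.map_mem_esub.2 hqE)
    · refine X.inj (mul_left_cancel (a := g) (mul_right_cancel (b := g⁻¹) ?_))
      rw [map_mul, map_mul, show φ (io a) = ee φ a from rfl]
      calc g * (φ q * ee φ a) * g⁻¹ = g * φ q * g⁻¹ * (g * ee φ a * g⁻¹) := by group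
        _ = g * ee φ a * g⁻¹ * (g * φ q * g⁻¹) := by rw [← hau, ← hyg]; exact mem_cU.1 hyu
        _ = _ := by group
    · rw [inPow_iff, ← map_mem_zpowers X.inj, map_mul, ← conj_mem_zpowers g, ← hxg, ← hyg,
        show φ (io a) = ee φ a from rfl, ← hau]
      exact h3
  · rintro ⟨⟨p, q⟩, ⟨⟨p', hp, q', hq, he'⟩, ⟨⟨h1, h2⟩, h3⟩, hz⟩, rfl, rfl⟩
    obtain ⟨rfl, rfl⟩ := Prod.mk.injEq .. ▸ he'
    refine ⟨X.mem_pairsU.2 ⟨(X.isConj_phi.2 hp).trans (isConj_iff.2 ⟨g, rfl⟩),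
      (X.isConj_u_phi.2 hq).trans (isConj_iff.2 ⟨g, rfl⟩), ?_⟩, fun hy => ?_, ?_⟩
    · rw [hau, conj_mem_zpowers, ee, ← map_mul, map_mem_zpowers X.inj, ← inPow_iff]
      exact hz
    · have := X.toCfg.map_mem_esub.1 ((mem_normalizer_iff.1 hg (φ q')).2 hy)
      rw [h2] at this; exact Bool.false_ne_true this
    · rw [← hge]
      calc g * φ q' * g⁻¹ * (g * t * g⁻¹) = g * (φ q' * t) * g⁻¹ := by group
        _ = g * (t * φ q') * g⁻¹ := by rw [X.toCfg.comm_t]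
        _ = _ := by group

theorem count_u : Nat.card {q : G × G // IsConj t q.1 ∧ IsConj (ee φ 4) q.2 ∧
    ee φ 4 ∈ zpowers (q.1 * q.2)} = 27 := by
  classical
  rw [Nat.card_eq_fintype_card, Fintype.card_subtype]
  show (pairsU φ t).card = 27
  have hsplit := Finset.card_filter_add_card_filter_not (s := pairsU φ t) (fun q : G × G => q.2 ∈ esub φ)
  rw [X.count_in] at hsplit
  have hout : ((pairsU φ t).filter fun q => ¬ q.2 ∈ esub φ) = ({1, 2, 7} : Finset ℕ).biUnion fun e =>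
      (pairsU φ t).filter fun q => q.2 ∉ esub φ ∧ q.2 * ee φ e = ee φ e * q.2 := by
    ext q
    simp only [Finset.mem_filter, Finset.mem_biUnion]
    constructor
    · rintro ⟨h, hE⟩
      obtain ⟨e, ⟨he, hfix⟩, -⟩ := X.exists_unique_fixed (X.pairs_facts h).2.1 (X.pairs_facts h).2.2 hE
      exact ⟨e, by simpa using he, h, hE, hfix⟩
    · rintro ⟨e, -, h, hE, -⟩
      exact ⟨h, hE⟩
  rw [hout, Finset.card_biUnion, Finset.sum_insert (by decide), Finset.sum_insert (by decide),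
    Finset.sum_singleton, X.count_out (by decide), X.count_out (by decide), X.count_out (by decide)] at hsplit
  · omega
  · intro e he e' he' hne
    rw [Function.onFun, Finset.disjoint_left]
    intro q h h'
    simp only [Finset.mem_filter] at h h'
    obtain ⟨e0, -, huniq⟩ := X.exists_unique_fixed (X.pairs_facts h.1).2.1 (X.pairs_facts h.1).2.2 h.2.1
    simp only [Finset.coe_insert, Finset.coe_singleton, Set.mem_insert_iff, Set.mem_singleton_iff] at he he'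
    exact hne ((huniq e ⟨by simpa using he, h.2.2⟩).trans (huniq e' ⟨by simpa using he', h'.2.2⟩).symm)

end Count

/-- The order of the group. -/
theorem card_group : Nat.card G = 25920 := by
  classical
  haveI : Fintype G := Fintype.ofFinite G
  have ht2 := CfsgLib.Invol.invol_of_mul_self X.toCfg.t_sq X.toCfg.t_ne_one
  have hu2 := CfsgLib.Invol.invol_of_mul_self X.u_sq X.u_ne_one
  have hne : t ≠ ee φ 4 := fun h => X.four_not_conj (h ▸ IsConj.refl t)
  have h := Cfsg.Agent.S1875.result t (ee φ 4) ht2 hu2 X.four_not_conj {t, ee φ 4}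
    (fun w hw => by
      simp only [Finset.mem_insert, Finset.mem_singleton] at hw
      rcases hw with rfl | rfl
      · exact ht2
      · exact hu2)
    (fun w hw => by
      rcases X.two_classes (CfsgLib.Invol.invol_mul_self hw) (CfsgLib.Invol.invol_ne_one hw) with h | h
      · refine ⟨t, by simp, h.symm, fun w' hw' h' => ?_⟩
        simp only [Finset.mem_insert, Finset.mem_singleton] at hw'
        rcases hw' with rfl | rfl
        · rfl
        · exact absurd (h.trans h') X.four_not_conj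
      · refine ⟨ee φ 4, by simp, h.symm, fun w' hw' h' => ?_⟩
        simp only [Finset.mem_insert, Finset.mem_singleton] at hw'
        rcases hw' with rfl | rfl
        · exact absurd (h.trans h').symm X.four_not_conj
        · rfl)
  have hCt : Nat.card (centralizer ({t} : Set G)) = 576 := by
    rw [← X.toCfg.card_range]
    refine Nat.card_congr (Equiv.subtypeEquivRight fun g => ?_)
    rw [mem_centralizer_singleton_iff, X.range g]
    exact Iff.rfl
  have hCu : Nat.card (centralizer ({ee φ 4} : Set G)) = 96 := X.cent_u.1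
  rw [Finset.sum_pair hne, X.count_t, X.count_u, hCt, hCu] at h
  norm_num at h
  rw [Nat.card_eq_fintype_card]
  exact_mod_cast h

end Cfg2

end CfsgLib.Recog.U4Two
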