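import Cfsg.Agent.Lib.Recog.U4Two.Facts
import Mathlib.GroupTheory.Sylow
import Mathlib.GroupTheory.SpecificGroups.Cyclic
import Mathlib.GroupTheory.PGroup

/-!
A group with an involution centralizer of the shape `(SL_2(3) ∘ SL_2(3)).2`: the Sylow 2-subgroup,
its elementary abelian subgroup of order 16 and weak closure.
-/

set_option autoImplicit false
set_option linter.unusedSectionVars false
set_option linter.style.haveILetI false

namespace CfsgLib.Recog.U4Two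

open Subgroup

variable {G : Type*} [Group G]

/-- The centralizer of the involution `t` is the model. -/
structure Cfg (t : G) (φ : Cm →* G) : Prop where
  inj : Function.Injective φ
  range : ∀ g : G, g * t = t * g ↔ ∃ c, φ c = g
  hz : φ Cm.zc = t
  noIdx : ∀ H : Subgroup G, H.index ≠ 2

/-- Elementary abelian of order 16. -/
def Elem16 (A : Subgroup G) : Prop := Nat.card A = 16 ∧ ∀ a ∈ A, a * a = 1

theorem Elem16.comm {A : Subgroup G} (h : Elem16 A) {a b : G} (ha : a ∈ A) (hb : b ∈ A) :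
    a * b = b * a := by
  have h1 := h.2 _ (mul_mem ha hb)
  have h2 : a⁻¹ = a := inv_eq_of_mul_eq_one_right (h.2 a ha)
  have h3 : b⁻¹ = b := inv_eq_of_mul_eq_one_right (h.2 b hb)
  rw [← inv_eq_of_mul_eq_one_right h1, _root_.mul_inv_rev, h2, h3]

theorem Elem16.conj {A : Subgroup G} (h : Elem16 A) (g : G) :
    Elem16 (A.map (MulAut.conj g).toMonoidHom) := by
  refine ⟨(card_map_of_injective (MulAut.conj g).injective).trans h.1, ?_⟩
  rintro _ ⟨a, ha, rfl⟩
  rw [← map_mul, h.2 a ha, map_one]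

/-- The images of the codes of the elementary abelian group. -/
def ee (φ : Cm →* G) (a : ℕ) : G := φ (Cm.io a)

namespace Cfg

variable {t : G} {φ : Cm →* G} (X : Cfg t φ)

theorem io_zero : Cm.io 0 = 1 := by decide +kernel

theorem ee_zero (φ : Cm →* G) : ee φ 0 = 1 := by rw [ee, io_zero, map_one]

theorem xor_lt {a b : ℕ} (ha : a < 16) (hb : b < 16) : a ^^^ b < 16 := Nat.xor_lt_two_pow (n := 4) ha hb

theorem ee_mul (φ : Cm →* G) {a b : ℕ} (ha : a < 16) (hb : b < 16) :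
    ee φ a * ee φ b = ee φ (a ^^^ b) := by
  rw [ee, ee, ee, ← map_mul, io_mul ⟨a, ha⟩ ⟨b, hb⟩]

theorem ee_sq (φ : Cm →* G) {a : ℕ} (ha : a < 16) : ee φ a * ee φ a = 1 := by
  rw [ee_mul φ ha ha, Nat.xor_self, ee_zero]

theorem ee_comm (φ : Cm →* G) {a b : ℕ} (ha : a < 16) (hb : b < 16) :
    ee φ a * ee φ b = ee φ b * ee φ a := by rw [ee_mul φ ha hb, ee_mul φ hb ha, Nat.xor_comm]

/-- The elementary abelian subgroup of order 16. -/
def esub (φ : Cm →* G) : Subgroup G where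
  carrier := {g | ∃ a, a < 16 ∧ ee φ a = g}
  one_mem' := ⟨0, by norm_num, ee_zero φ⟩
  mul_mem' := by
    rintro _ _ ⟨a, ha, rfl⟩ ⟨b, hb, rfl⟩
    exact ⟨_, xor_lt ha hb, (ee_mul φ ha hb).symm⟩
  inv_mem' := by
    rintro _ ⟨a, ha, rfl⟩
    exact ⟨a, ha, (inv_eq_of_mul_eq_one_right (ee_sq φ ha)).symm⟩

theorem mem_esub {g : G} : g ∈ esub φ ↔ ∃ a, a < 16 ∧ ee φ a = g := Iff.rfl

theorem ee_mem {a : ℕ} (ha : a < 16) : ee φ a ∈ esub φ := ⟨a, ha, rfl⟩

include X

theorem ee_inj {a b : ℕ} (ha : a < 16) (hb : b < 16) (h : ee φ a = ee φ b) : a = b :=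
  congrArg Fin.val (io_inj ⟨a, ha⟩ ⟨b, hb⟩ (X.inj h))

theorem ee_one : ee φ 1 = t := X.hz

theorem elem16_esub : Elem16 (esub φ) := by
  refine ⟨?_, ?_⟩
  · have : Nat.card (esub φ) = Nat.card (Fin 16) := by
      refine (Nat.card_congr (Equiv.ofBijective (fun a : Fin 16 => (⟨ee φ a, ee_mem a.2⟩ : esub φ))
        ⟨fun a b h => Fin.ext (X.ee_inj a.2 b.2 (congrArg Subtype.val h)), ?_⟩)).symm
      rintro ⟨_, a, ha, rfl⟩
      exact ⟨⟨a, ha⟩, rfl⟩
    rw [this, Nat.card_fin]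
  · rintro _ ⟨a, ha, rfl⟩
    exact ee_sq φ ha

theorem map_mem_esub {c : Cm} : φ c ∈ esub φ ↔ Cm.inE c = true := by
  rw [inE_iff, mem_esub]
  constructor
  · rintro ⟨a, ha, h⟩; exact ⟨⟨a, ha⟩, X.inj h⟩
  · rintro ⟨a, rfl⟩; exact ⟨a, a.2, rfl⟩

theorem comm_t (c : Cm) : φ c * t = t * φ c := (X.range _).2 ⟨c, rfl⟩

theorem t_sq : t * t = 1 := by
  rw [← X.hz, ← map_mul, ← map_one φ]
  exact congrArg φ (by decide +kernel)

theorem t_ne_one : t ≠ 1 := by
  rw [← X.hz, ← map_one φ]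
  exact fun h => absurd (X.inj h) (by decide +kernel)

/-- The Sylow 2-subgroup as a subgroup. -/
def ssub (_ : Cfg t φ) : Subgroup G where
  carrier := {g | ∃ c, Cm.inS c = true ∧ φ c = g}
  one_mem' := ⟨1, by decide +kernel, map_one φ⟩
  mul_mem' := by
    rintro _ _ ⟨a, ha, rfl⟩ ⟨b, hb, rfl⟩
    exact ⟨a * b, inS_mul a ha b hb, map_mul φ a b⟩
  inv_mem' := by
    rintro _ ⟨a, ha, rfl⟩
    obtain ⟨k, -, hk⟩ : ∃ k : ℕ, 0 < k ∧ a ^ k = 1 := (isOfFinOrder_of_finite a).exists_pow_eq_one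
    refine ⟨a⁻¹, ?_, map_inv φ a⟩
    let M : Submonoid Cm :=
      { carrier := {c | Cm.inS c = true}
        one_mem' := (by decide +kernel : Cm.inS 1 = true)
        mul_mem' := fun {c d} hc hd => inS_mul c hc d hd }
    have h1 : a⁻¹ ∈ Submonoid.powers a :=
      mem_powers_iff_mem_zpowers.2 (Subgroup.inv_mem _ (Subgroup.mem_zpowers a))
    exact (Submonoid.powers_le (P := M)).2 ha h1

theorem card_ssub : Nat.card (ssub X) = 64 := by
  rw [← card_inS, ← Nat.card_eq_finsetCard]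
  refine (Nat.card_congr (Equiv.ofBijective
    (fun c : (Finset.univ.filter fun p : Cm => Cm.inS p = true) =>
      (⟨φ c.1, c.1, (Finset.mem_filter.1 c.2).2, rfl⟩ : ssub X))
    ⟨fun a b h => Subtype.ext (X.inj (congrArg Subtype.val h)), ?_⟩)).symm
  rintro ⟨_, c, hc, rfl⟩
  exact ⟨⟨c, Finset.mem_filter.2 ⟨Finset.mem_univ _, hc⟩⟩, rfl⟩

theorem esub_le_ssub : esub φ ≤ ssub X := by
  rintro _ ⟨a, ha, rfl⟩
  exact ⟨Cm.io a, inE_inS _ ((inE_iff _).2 ⟨⟨a, ha⟩, rfl⟩), rfl⟩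

theorem t_mem_ssub : t ∈ ssub X := X.esub_le_ssub ⟨1, by norm_num, X.ee_one⟩

theorem card_range : Nat.card φ.range = 576 := by
  rw [← Nat.card_congr (MonoidHom.ofInjective X.inj).toEquiv, Nat.card_eq_fintype_card,
    Fintype.card_congr (⟨Cm.code, Cm.mk, fun _ => rfl, fun _ => rfl⟩ : Cm ≃ Fin 576), Fintype.card_fin]

variable [Finite G]

theorem exists_sylow : ∃ P : Sylow 2 G, (P : Subgroup G) = ssub X := by
  haveI : Fact (Nat.Prime 2) := ⟨Nat.prime_two⟩
  have hp : IsPGroup 2 (ssub X) := IsPGroup.of_card (n := 6) (by rw [X.card_ssub]; norm_num)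
  obtain ⟨P, hP⟩ := hp.exists_le_sylow
  refine ⟨P, le_antisymm ?_ hP⟩
  by_contra hne
  have hlt : ssub X < (P : Subgroup G) := lt_of_le_not_ge hP hne
  have hlt' : (ssub X).subgroupOf P < ⊤ := lt_top_iff_ne_top.2 fun h =>
    hne (subgroupOf_eq_top.1 h)
  haveI := P.isPGroup'.isNilpotent
  have hN := Group.normalizerCondition_of_isNilpotent ((ssub X).subgroupOf P) hlt'
  obtain ⟨x, hxN, hxS⟩ := SetLike.exists_of_lt hN
  have hxn : (x : G) ∈ normalizer ((ssub X : Subgroup G) : Set G) := by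
    refine mem_normalizer_iff.2 fun g => ⟨fun hg => ?_, fun hg => ?_⟩
    · exact mem_subgroupOf.1 ((mem_normalizer_iff.1 hxN ⟨g, hP hg⟩).1 (mem_subgroupOf.2 hg))
    · have hgP : g ∈ (P : Subgroup G) := by
        have := mul_mem (mul_mem (inv_mem x.2) (hP hg)) x.2
        rwa [show (x : G)⁻¹ * (x * g * (x : G)⁻¹) * x = g by group] at this
      exact mem_subgroupOf.1 ((mem_normalizer_iff.1 hxN ⟨g, hgP⟩).2 (mem_subgroupOf.2 hg))
  -- `x` fixes `t`, the involution in the centre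
  obtain ⟨c, hc, hcx⟩ := (mem_normalizer_iff.1 hxn t).1 X.t_mem_ssub
  have hcz : c = 1 ∨ c = Cm.zc := center_inS c hc fun q hq => X.inj (by
    rw [map_mul, map_mul, hcx]
    obtain ⟨q', hq', hq'x⟩ := (mem_normalizer_iff''.1 hxn (φ q)).1 ⟨q, hq, rfl⟩
    have h1 := X.comm_t q'
    rw [hq'x] at h1
    calc (x : G) * t * (x : G)⁻¹ * φ q = x * (t * ((x : G)⁻¹ * φ q * x)) * (x : G)⁻¹ := by group
      _ = x * ((x : G)⁻¹ * φ q * x * t) * (x : G)⁻¹ := by rw [h1]
      _ = φ q * (x * t * (x : G)⁻¹) := by group)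
  rcases hcz with rfl | rfl
  · rw [map_one, eq_comm, conj_eq_one_iff] at hcx
    exact X.t_ne_one hcx
  rw [X.hz, eq_comm, mul_inv_eq_iff_eq_mul] at hcx
  -- so `P` meets the centralizer in more than 64 elements
  have hxR : (x : G) ∈ φ.range := (X.range _).1 hcx
  have hlt2 : ssub X < (P : Subgroup G) ⊓ φ.range := by
    refine lt_of_le_of_ne (le_inf hP fun g ⟨c, _, h⟩ => ⟨c, h⟩) fun e => hxS ?_
    rw [mem_subgroupOf, e]
    exact ⟨x.2, hxR⟩
  have h1 : Nat.card ↥((P : Subgroup G) ⊓ φ.range) ∣ 576 :=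
    X.card_range ▸ card_dvd_of_le inf_le_right
  obtain ⟨k, hk⟩ := ((P.isPGroup'.to_le inf_le_left).exists_card_eq :
    ∃ k, Nat.card ↥((P : Subgroup G) ⊓ φ.range) = 2 ^ k)
  have h2 : 64 < 2 ^ k := by
    rw [← hk, ← X.card_ssub]
    exact Set.ncard_lt_ncard (SetLike.coe_ssubset_coe.2 hlt2) (Set.toFinite _)
  rw [hk] at h1
  have h3 : 7 ≤ k := by
    by_contra h
    have := Nat.pow_le_pow_right (n := 2) (by norm_num) (show k ≤ 6 by omega)
    omega
  have h4 : 128 ∣ 576 := (pow_dvd_pow 2 h3).trans h1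
  norm_num at h4

theorem elem16_eq_of_le_ssub {A : Subgroup G} (hA : Elem16 A) (hle : A ≤ ssub X) : A = esub φ := by
  classical
  by_contra hne
  obtain ⟨B, hB⟩ : ∃ B : Finset Cm, B = Finset.univ.filter fun c => φ c ∈ A := ⟨_, rfl⟩
  have hmemB : ∀ c, c ∈ B ↔ φ c ∈ A := fun c => hB ▸ by simp
  have hcard : B.card = 16 := by
    rw [← hA.1, ← Nat.card_eq_finsetCard]
    refine Nat.card_congr (Equiv.ofBijective (fun c : B => (⟨φ c.1, (hmemB _).1 c.2⟩ : A))
      ⟨fun a b h => Subtype.ext (X.inj (congrArg Subtype.val h)), ?_⟩)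
    rintro ⟨g, hg⟩
    obtain ⟨c, -, rfl⟩ := hle hg
    exact ⟨⟨c, (hmemB c).2 hg⟩, rfl⟩
  have hS : ∀ c ∈ B, c = 1 ∨ c ∈ Cm.invS := fun c hc => by
    obtain ⟨c', hc', he⟩ := hle ((hmemB c).1 hc)
    obtain rfl := X.inj he
    refine mem_invS _ hc' (X.inj ?_)
    rw [map_mul, map_one]
    exact hA.2 _ ((hmemB _).1 hc)
  have hcomm : ∀ c ∈ B, ∀ d ∈ B, c * d = d * c := fun c hc d hd => X.inj (by
    rw [map_mul, map_mul]
    exact hA.comm ((hmemB c).1 hc) ((hmemB d).1 hd))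
  obtain ⟨x, hx, hx2⟩ := Finset.exists_mem_notMem_of_card_lt_card
    (show ({1, Cm.zc} : Finset Cm).card < B.card by
      rw [hcard]; exact lt_of_le_of_lt Finset.card_le_two (by norm_num))
  obtain ⟨y, hy, hy2⟩ := Finset.exists_mem_notMem_of_card_lt_card
    (show ({1, Cm.zc, x, x * Cm.zc} : Finset Cm).card < B.card by
      rw [hcard]; exact lt_of_le_of_lt Finset.card_le_four (by norm_num))
  simp only [Finset.mem_insert, Finset.mem_singleton, not_or] at hx2 hy2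
  rcases sylow_abelian_fact x ((hS x hx).resolve_left hx2.1) y ((hS y hy).resolve_left hy2.1) hx2.2
    (hcomm x hx y hy) (by simp [hy2.2.1, hy2.2.2.1, hy2.2.2.2]) with h | h
  · refine hne (eq_of_le_of_card_ge (fun g hg => ?_) (by rw [hA.1, X.elem16_esub.1]))
    obtain ⟨c, -, rfl⟩ := hle hg
    refine X.map_mem_esub.2 ?_
    rcases hS c ((hmemB c).2 hg) with rfl | hc
    · decide +kernel
    · exact h c hc (hcomm c ((hmemB c).2 hg) x hx) (hcomm c ((hmemB c).2 hg) y hy)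
  · have hsub : B ⊆ insert 1 (Cm.invS.filter fun v => v * x == x * v && v * y == y * v).toFinset := by
      intro c hc
      rw [Finset.mem_insert, List.mem_toFinset, List.mem_filter]
      rcases hS c hc with rfl | hc'
      · exact Or.inl rfl
      · exact Or.inr ⟨hc', by simp [hcomm c hc x hx, hcomm c hc y hy]⟩
    have h1 := Finset.card_le_card hsub
    have h2 := Finset.card_insert_le (1 : Cm) (Cm.invS.filter fun v => v * x == x * v && v * y == y * v).toFinset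
    have h3 := List.toFinset_card_le (Cm.invS.filter fun v => v * x == x * v && v * y == y * v)
    omega

/-- A 2-subgroup contains at most one elementary abelian subgroup of order 16. -/
theorem elem16_unique {P : Subgroup G} (hP : IsPGroup 2 P) {A B : Subgroup G} (hA : Elem16 A)
    (hB : Elem16 B) (hAP : A ≤ P) (hBP : B ≤ P) : A = B := by
  haveI : Fact (Nat.Prime 2) := ⟨Nat.prime_two⟩
  obtain ⟨Q, hQ⟩ := hP.exists_le_sylow
  obtain ⟨S, hS⟩ := X.exists_sylow
  obtain ⟨g, hg⟩ := MulAction.exists_smul_eq G Q S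
  have key : ∀ {D : Subgroup G}, Elem16 D → D ≤ P → D.map (MulAut.conj g).toMonoidHom = esub φ := by
    intro D hD hDP
    refine X.elem16_eq_of_le_ssub (hD.conj g) ?_
    rw [← hS, ← hg]
    exact map_mono (hDP.trans hQ)
  exact map_injective (MulAut.conj g).injective ((key hA hAP).trans (key hB hBP).symm)

/-- Elementary subgroups of order 16 containing two given elements are conjugate fixing both. -/
theorem exists_conj_pair {A B : Subgroup G} (hA : Elem16 A) (hB : Elem16 B) {u v : G}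
    (huA : u ∈ A) (hvA : v ∈ A) (huB : u ∈ B) (hvB : v ∈ B) :
    ∃ c : G, c * u = u * c ∧ c * v = v * c ∧ A.map (MulAut.conj c).toMonoidHom = B := by
  haveI : Fact (Nat.Prime 2) := ⟨Nat.prime_two⟩
  obtain ⟨D, hD⟩ : ∃ D, D = centralizer ({u, v} : Set G) := ⟨_, rfl⟩
  have hle : ∀ {H : Subgroup G}, Elem16 H → u ∈ H → v ∈ H → H ≤ D := by
    intro H hH hu hv g hg
    rw [hD, mem_centralizer_iff]
    intro x hx
    simp only [Set.mem_insert_iff, Set.mem_singleton_iff] at hx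
    rcases hx with rfl | rfl
    · exact hH.comm hu hg
    · exact hH.comm hv hg
  have hp : ∀ {H : Subgroup G}, Elem16 H → H ≤ D → IsPGroup 2 (H.subgroupOf D) := fun hH hHD =>
    IsPGroup.of_card (n := 4) (by rw [Nat.card_congr (subgroupOfEquivOfLe hHD).toEquiv, hH.1]; norm_num)
  have hAD := hle hA huA hvA
  have hBD := hle hB huB hvB
  obtain ⟨P, hP⟩ := (hp hA hAD).exists_le_sylow
  obtain ⟨Q, hQ⟩ := (hp hB hBD).exists_le_sylow
  obtain ⟨c, hc⟩ := MulAction.exists_smul_eq D P Q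
  have hcD := (hD ▸ c.2 : (c : G) ∈ centralizer ({u, v} : Set G))
  refine ⟨c, (mem_centralizer_iff.1 hcD u (Set.mem_insert _ _)).symm,
    (mem_centralizer_iff.1 hcD v (Set.mem_insert_of_mem _ rfl)).symm, ?_⟩
  refine X.elem16_unique (Q.isPGroup'.map D.subtype) (hA.conj c) hB ?_ ?_
  · rintro _ ⟨a, ha, rfl⟩
    refine ⟨c * ⟨a, hAD ha⟩ * c⁻¹, ?_, rfl⟩
    rw [← hc]
    exact ⟨_, hP (mem_subgroupOf.2 ha), rfl⟩
  · intro b hb
    exact ⟨⟨b, hBD hb⟩, hQ (mem_subgroupOf.2 hb), rfl⟩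

/-- Fusion in `E` is controlled by its normaliser. -/
theorem fusion_esub {x g : G} (hx : x ∈ esub φ) (hy : g * x * g⁻¹ ∈ esub φ) :
    ∃ n ∈ normalizer (esub φ : Set G), n * x * n⁻¹ = g * x * g⁻¹ := by
  obtain ⟨c, hc, -, hmap⟩ := X.exists_conj_pair (X.elem16_esub.conj g) X.elem16_esub
    (u := g * x * g⁻¹) (v := 1) ⟨x, hx, rfl⟩ (one_mem _) hy (one_mem _)
  refine ⟨c * g, ?_, ?_⟩
  · refine mem_normalizer_fintype fun e he => ?_
    rw [SetLike.mem_coe, ← hmap]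
    refine ⟨g * e * g⁻¹, ⟨e, he, rfl⟩, ?_⟩
    show c * (g * e * g⁻¹) * c⁻¹ = _
    group
  · calc c * g * x * (c * g)⁻¹ = c * (g * x * g⁻¹) * c⁻¹ := by group
      _ = g * x * g⁻¹ := by rw [hc, mul_inv_cancel_right]

end Cfg

end CfsgLib.Recog.U4Two
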