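import Cfsg.Agent.Lib.Recog.U4Two.Facts

/-!
Finite facts used for the simplicity and the transposition property.
-/

set_option autoImplicit false
set_option maxRecDepth 100000

namespace CfsgLib.Recog.U4Two

open Cm

theorem pow_nine_cube : ∀ m : Cm, m * (m * m) * (m * (m * m)) * (m * (m * m)) = 1 →
    m * (m * m) = 1 := by decide +kernel

theorem no_odd_normal : ∀ m : Cm, m * (m * m) = 1 → m ≠ 1 → ∃ q ∈ invL,
    (q * m * q⁻¹ * m⁻¹) * ((q * m * q⁻¹ * m⁻¹) * (q * m * q⁻¹ * m⁻¹)) ≠ 1 := by decide +kernel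

theorem x3_of : ∀ e ∈ ([2, 7, 11, 15] : List ℕ), ∀ c : Cm, c * io e = io e * c → inE c = false →
    normE c = true → ∃ d : Cm, inE (d * c * d⁻¹ * x3⁻¹) = true ∨ inE (d * c * d⁻¹ * x3) = true := by
  decide +kernel

theorem x3_cube : x3 * (x3 * x3) = 1 := by decide +kernel

theorem io_five_uL : io 5 ∈ uL := by decide +kernel

end CfsgLib.Recog.U4Two
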