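import Cfsg.Agent.Lib.Recog.U4Two.Order
import Cfsg.Agent.Lib.Recog.U4Two.TranspFacts

/-!
The group is simple and the conjugates of `t` form a class of 3-transpositions.
-/

set_option autoImplicit false
set_option linter.unusedSectionVars false
set_option linter.style.haveILetI false

namespace CfsgLib.Recog.U4Two

open Subgroup Cm

namespace Cfg2

variable {G : Type*} [Group G] [Finite G] {t : G} {φ : Cm →* G} (X : Cfg2 t φ)

include X

open Cfg

omit X in
/-- The conjugates of `t`. -/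
def dSet (t : G) : Set G := conjugatesOf t

theorem card_centralizer_t : Nat.card (centralizer ({t} : Set G)) = 576 := by
  rw [← X.toCfg.card_range]
  refine Nat.card_congr (Equiv.subtypeEquivRight fun g => ?_)
  rw [mem_centralizer_singleton_iff, X.range g]
  exact Iff.rfl

theorem card_class : Nat.card {x : G // IsConj t x} = 45 := by
  classical
  haveI : Fintype G := Fintype.ofFinite G
  have h := CfsgLib.Invol.card_class_mul_card_centralizer t
  rw [X.card_centralizer_t, X.card_group] at h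
  omega

/-- Two conjugates of `t` centralising the same second-class involution commute. -/
theorem commute_in_u {w x y : G} (hw : IsConj (ee φ 4) w) (hx : IsConj t x) (hy : IsConj t y)
    (hxw : x * w = w * x) (hyw : y * w = w * y) : x * y = y * x := by
  obtain ⟨g, rfl⟩ := isConj_iff.1 hw
  have key : ∀ {z : G}, IsConj t z → z * (g * ee φ 4 * g⁻¹) = g * ee φ 4 * g⁻¹ * z →
      g⁻¹ * z * g ∈ esub φ := fun {z} hz hzw =>
    X.conj_t_cU (hz.trans (isConj_iff.2 ⟨g⁻¹, by rw [inv_inv]⟩)) (mem_cU.2 (by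
      calc g⁻¹ * z * g * ee φ 4 = g⁻¹ * (z * (g * ee φ 4 * g⁻¹)) * g := by group
        _ = g⁻¹ * (g * ee φ 4 * g⁻¹ * z) * g := by rw [hzw]
        _ = _ := by group))
  have h := X.toCfg.elem16_esub.comm (key hx hxw) (key hy hyw)
  calc x * y = g * (g⁻¹ * x * g * (g⁻¹ * y * g)) * g⁻¹ := by group
    _ = g * (g⁻¹ * y * g * (g⁻¹ * x * g)) * g⁻¹ := by rw [h]
    _ = y * x := by group

/-- The product relation among two conjugates of `t` in `C(t)`. -/
theorem pair_dL {p q : Cm} (hp : p ∈ Cm.dL) (hq : q ∈ Cm.dL) :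
    (φ p * φ q) ^ 2 = 1 ∨ (φ p * φ q) ^ 3 = 1 := by
  have hsq : ∀ {p : Cm}, p ∈ Cm.dL → p * p = 1 := fun {p} h => (invL_sq p ((classes p).2 (Or.inl h))).1
  have hc : p * q = q * p → (φ p * φ q) ^ 2 = 1 := fun h => by
    rw [← map_mul, ← map_pow, pow_two, show p * q * (p * q) = p * (q * p) * q by group, ← h,
      show p * (p * q) * q = p * p * (q * q) by group, hsq hp, hsq hq, one_mul, map_one]
  rcases List.mem_cons.1 hp with rfl | hp'
  · exact Or.inl (hc (zc_central q).symm)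
  rcases List.mem_cons.1 hq with rfl | hq'
  · exact Or.inl (hc (zc_central p))
  by_cases hpq : p = q
  · exact Or.inl (hc (by rw [hpq]))
  rcases wp_products p hp' q hq' hpq with ⟨h, -⟩ | ⟨-, h⟩
  · exact Or.inl (hc h)
  · right
    rw [← map_mul, ← map_pow, pow_three, ← mul_assoc (p * q) (p * q), h, map_one]

/-- The conjugates of `t` centralising `t`. -/
theorem exists_dL {x : G} (hx : IsConj t x) (hxt : x * t = t * x) : ∃ p ∈ Cm.dL, φ p = x := by
  obtain ⟨p, rfl⟩ := (X.range x).1 hxt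
  exact ⟨p, X.isConj_phi.1 hx, rfl⟩

theorem card_cent_class [Fintype G] [DecidableEq G] [DecidablePred fun x => IsConj t x] {d : G}
    (hd : IsConj t d) :
    ((Finset.univ.filter fun x => IsConj t x).filter fun x => x * d = d * x).card = 13 := by
  classical
  obtain ⟨g, rfl⟩ := isConj_iff.1 hd
  have hinj : Function.Injective fun p => g * φ p * g⁻¹ := fun a b h =>
    X.inj (mul_left_cancel (mul_right_cancel h))
  have hL : Cm.dL.toFinset.card = 13 := by
    rw [List.toFinset_card_of_nodup dL_nodup]; rfl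
  rw [← hL, ← Finset.card_image_of_injective _ hinj]
  congr 1
  ext x
  simp only [Finset.mem_filter, Finset.mem_univ, true_and, Finset.mem_image, List.mem_toFinset]
  constructor
  · rintro ⟨hx, hxd⟩
    obtain ⟨p, hp, hpe⟩ := X.exists_dL (x := g⁻¹ * x * g) (hx.trans (isConj_iff.2 ⟨g⁻¹, by rw [inv_inv]⟩)) (by
      calc g⁻¹ * x * g * t = g⁻¹ * (x * (g * t * g⁻¹)) * g := by group
        _ = g⁻¹ * (g * t * g⁻¹ * x) * g := by rw [hxd]
        _ = _ := by group)
    exact ⟨p, hp, by rw [hpe]; group⟩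
  · rintro ⟨p, hp, rfl⟩
    refine ⟨(X.isConj_phi.2 hp).trans (isConj_iff.2 ⟨g, rfl⟩), ?_⟩
    calc g * φ p * g⁻¹ * (g * t * g⁻¹) = g * (φ p * t) * g⁻¹ := by group
      _ = g * (t * φ p) * g⁻¹ := by rw [X.toCfg.comm_t]
      _ = _ := by group

/-- Distance two. -/
theorem exists_common {x : G} (hx : IsConj t x) (hxt : x * t ≠ t * x) :
    ∃ d ∈ Cm.wpL, x * φ d = φ d * x := by
  classical
  haveI : Fintype G := Fintype.ofFinite G
  obtain ⟨D, hD⟩ : ∃ D : Finset G, D = Finset.univ.filter fun x => IsConj t x := ⟨_, rfl⟩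
  have hDc : D.card = 45 := by
    rw [← X.card_class, Nat.card_eq_fintype_card, Fintype.card_subtype, hD]
  obtain ⟨A, hA⟩ : ∃ A : Finset G, A = D.filter fun x => ¬ x * t = t * x := ⟨_, rfl⟩
  have hAc : A.card = 32 := by
    have h := Finset.card_filter_add_card_filter_not (s := D) (fun x => x * t = t * x)
    rw [hD, X.card_cent_class (IsConj.refl t), ← hD, hDc, ← hA] at h
    omega
  obtain ⟨W, hW⟩ : ∃ W : Finset Cm, W = Cm.wpL.toFinset := ⟨_, rfl⟩
  have hmemW : ∀ {d}, d ∈ W ↔ d ∈ Cm.wpL := fun {d} => by rw [hW, List.mem_toFinset]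
  have hrow : ∀ d ∈ W, (A.filter fun x => x * φ d = φ d * x).card = 8 := by
    intro d hd
    have hdd : IsConj t (φ d) := X.isConj_phi.2 (List.mem_cons_of_mem _ (hmemW.1 hd))
    have h := Finset.card_filter_add_card_filter_not
      (s := D.filter fun x => x * φ d = φ d * x) (fun x => x * t = t * x)
    rw [show (D.filter fun x => x * φ d = φ d * x).card = 13 by rw [hD]; exact X.card_cent_class hdd,
      Finset.filter_comm (fun x => x * φ d = φ d * x) (fun x => ¬ x * t = t * x), ← hA] at h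
    have h5 : ((D.filter fun x => x * φ d = φ d * x).filter fun x => x * t = t * x).card = 5 := by
      have hL : (Cm.dL.filter fun x => x * d == d * x).toFinset.card = 5 :=
        (List.toFinset_card_of_nodup (dL_nodup.filter _)).trans (wp_neighbours d (hmemW.1 hd))
      rw [← hL, ← Finset.card_image_of_injective _ X.inj]
      congr 1
      ext y
      simp only [hD, Finset.mem_filter, Finset.mem_univ, true_and, Finset.mem_image, List.mem_toFinset,
        List.mem_filter, beq_iff_eq]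
      constructor
      · rintro ⟨⟨hy, hyd⟩, hyt⟩
        obtain ⟨p, hp, rfl⟩ := X.exists_dL hy hyt
        exact ⟨p, ⟨hp, X.inj (by rw [map_mul, map_mul]; exact hyd)⟩, rfl⟩
      · rintro ⟨p, ⟨hp, hpd⟩, rfl⟩
        exact ⟨⟨X.isConj_phi.2 hp, by rw [← map_mul, hpd, map_mul]⟩, X.toCfg.comm_t p⟩
    rw [h5] at h
    omega
  have hcol : ∀ y ∈ A, (W.filter fun d => y * φ d = φ d * y).card ≤ 3 := by
    intro y hy
    rw [hA, Finset.mem_filter, hD, Finset.mem_filter] at hy
    refine le_trans (Finset.card_le_card_of_injOn lineOf (fun _ _ => Finset.mem_univ _) ?_)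
      (le_of_eq (Fintype.card_fin 3))
    intro d hd e he hde
    simp only [Finset.coe_filter, Set.mem_setOf_eq, hmemW] at hd he
    by_contra hne
    rcases wp_products d hd.1 e he.1 hne with ⟨-, hu⟩ | ⟨hnc, -⟩
    · have hy2 : y * φ (d * e) = φ (d * e) * y := by
        rw [map_mul, ← mul_assoc, hd.2, mul_assoc, he.2, mul_assoc]
      exact hy.2 (X.commute_in_u (X.isConj_phi_u hu) hy.1.2 (IsConj.refl t) hy2
        (X.toCfg.comm_t _).symm)
    · exact hnc (line_fact d hd.1 e he.1 hde)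
  by_contra hno
  push Not at hno
  have hmem : x ∈ A := by rw [hA, Finset.mem_filter, hD, Finset.mem_filter]; exact ⟨⟨Finset.mem_univ _, hx⟩, hxt⟩
  have hWc : W.card = 12 := by
    rw [hW, List.toFinset_card_of_nodup (dL_nodup.of_cons)]; rfl
  have hdouble := Finset.sum_card_bipartiteAbove_eq_sum_card_bipartiteBelow
    (s := W) (t := A) (fun d x => x * φ d = φ d * x)
  simp only [Finset.bipartiteAbove, Finset.bipartiteBelow] at hdouble
  rw [Finset.sum_congr rfl hrow, Finset.sum_const, hWc, smul_eq_mul] at hdouble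
  rw [← Finset.add_sum_erase _ _ hmem, Finset.filter_false_of_mem
    (fun d hd => hno d (hmemW.1 hd)), Finset.card_empty, zero_add] at hdouble
  have hle := Finset.sum_le_card_nsmul (A.erase x) (fun y => (W.filter fun d => y * φ d = φ d * y).card) 3
    (fun y hy => hcol y (Finset.mem_of_mem_erase hy))
  rw [Finset.card_erase_of_mem hmem, hAc, ← hdouble, smul_eq_mul] at hle
  omega

theorem isThree : Cfsg.IsThreeTranspositionSet (conjugatesOf t) := by
  refine ⟨fun d hd => (CfsgLib.Invol.orderOf_eq_of_isConj hd).trans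
    (CfsgLib.Invol.invol_of_mul_self X.toCfg.t_sq X.toCfg.t_ne_one), fun d hd e he => ?_⟩
  have hd' : IsConj t d := hd
  have he' : IsConj t e := he
  obtain ⟨g, rfl⟩ := isConj_iff.1 hd'
  obtain ⟨y, hy⟩ : ∃ y, y = g⁻¹ * e * g := ⟨_, rfl⟩
  have hye : e = g * y * g⁻¹ := by rw [hy]; group
  have hyc : IsConj t y := he'.trans (isConj_iff.2 ⟨g⁻¹, by rw [hy, inv_inv]⟩)
  suffices h : (t * y) ^ 2 = 1 ∨ (t * y) ^ 3 = 1 by
    rw [hye, show g * t * g⁻¹ * (g * y * g⁻¹) = g * (t * y) * g⁻¹ by group, conj_pow, conj_pow,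
      conj_eq_one_iff, conj_eq_one_iff]
    exact h
  by_cases hyt : y * t = t * y
  · obtain ⟨p, hp, rfl⟩ := X.exists_dL hyc hyt
    rw [← X.hz]
    exact X.pair_dL (List.mem_cons_self ..) hp
  obtain ⟨w, hw, hyw⟩ := X.exists_common hyc hyt
  obtain ⟨k, hk⟩ := isConj_iff.1 (X.isConj_phi.2 (List.mem_cons_of_mem _ hw))
  have hloc : ∀ {z : G}, IsConj t z → z * φ w = φ w * z → ∃ p ∈ Cm.dL, φ p = k⁻¹ * z * k := fun {z} hz hzw =>
    X.exists_dL (hz.trans (isConj_iff.2 ⟨k⁻¹, by rw [inv_inv]⟩)) (by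
      calc k⁻¹ * z * k * t = k⁻¹ * (z * (k * t * k⁻¹)) * k := by group
        _ = k⁻¹ * (k * t * k⁻¹ * z) * k := by rw [hk, hzw]
        _ = _ := by group)
  obtain ⟨p, hp, hpe⟩ := hloc (IsConj.refl t) (X.toCfg.comm_t w).symm
  obtain ⟨q, hq, hqe⟩ := hloc hyc hyw
  have h := X.pair_dL hp hq
  rw [hpe, hqe, show k⁻¹ * t * k * (k⁻¹ * y * k) = k⁻¹ * (t * y) * k⁻¹⁻¹ by group, conj_pow, conj_pow,
    conj_eq_one_iff, conj_eq_one_iff] at h
  exact h

theorem odd_normal_trivial {N : Subgroup G} (hN : N.Normal) (ho : Odd (Nat.card N)) {g : G}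
    (hg : g ∈ N) (hgt : g * t = t * g) : g = 1 := by
  obtain ⟨m, rfl⟩ := (X.range g).1 hgt
  by_contra hne
  have hm1 : m ≠ 1 := fun h => hne (by rw [h, map_one])
  have hord : ∀ {c : Cm}, φ c ∈ N → c * (c * c) = 1 := by
    intro c hc
    have h1 : orderOf (φ c) ∣ Nat.card N := Subgroup.orderOf_dvd_natCard N hc
    rw [orderOf_injective φ X.inj] at h1
    have h2 : orderOf c ∣ 576 := by
      have := orderOf_dvd_natCard c
      rwa [Nat.card_eq_fintype_card, Fintype.card_congr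
        (⟨Cm.code, Cm.mk, fun _ => rfl, fun _ => rfl⟩ : Cm ≃ Fin 576), Fintype.card_fin] at this
    have hodd : Odd (orderOf c) := ho.of_dvd_nat h1
    have hcop : Nat.Coprime (orderOf c) 64 :=
      (Nat.coprime_two_right.2 hodd).pow_right 6
    have h9 : orderOf c ∣ 9 := hcop.dvd_of_dvd_mul_left (by norm_num; exact h2)
    refine pow_nine_cube c ?_
    have h := orderOf_dvd_iff_pow_eq_one.1 h9
    rw [show (9 : ℕ) = 3 * 3 from rfl, pow_mul, pow_three, pow_three] at h
    rw [mul_assoc (c * (c * c)), h]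
  obtain ⟨q, -, hq⟩ := no_odd_normal m (hord hg) hm1
  refine hq (hord ?_)
  rw [map_mul, map_mul, map_mul, map_inv, map_inv]
  exact mul_mem (hN.conj_mem _ hg _) (inv_mem hg)

/-- A non-trivial normal subgroup has even order. -/
theorem even_of_normal {N : Subgroup G} (hN : N.Normal) (hne : N ≠ ⊥) : 2 ∣ Nat.card N := by
  by_contra hodd
  have ho : Odd (Nat.card N) := Nat.not_even_iff_odd.1 fun h => hodd (even_iff_two_dvd.1 h)
  have hfree : ∀ {a : G}, IsConj t a → ∀ {g : G}, g ∈ N → a * g * a⁻¹ = g⁻¹ := by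
    intro a ha g hg
    obtain ⟨k, rfl⟩ := isConj_iff.1 ha
    obtain ⟨w, hw⟩ : ∃ w, w = k * t * k⁻¹ := ⟨_, rfl⟩
    have hww : w * w = 1 := X.sq_of_conj X.toCfg.t_sq (hw ▸ ha)
    rw [← hw]
    have hh := MonoidHom.FixedPointFree.coe_eq_inv_of_involutive
      (φ := (MulAut.conjNormal w : MulAut N)) (fun v hv => ?_) (fun v => ?_)
    · exact congrArg Subtype.val (congrFun hh ⟨g, hg⟩)
    · have he : w * (v : G) * w⁻¹ = v := congrArg Subtype.val hv
      refine Subtype.ext (?_ : (v : G) = 1)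
      have h1 := X.odd_normal_trivial hN ho (g := k⁻¹ * v * k)
        (by have := hN.conj_mem _ v.2 k⁻¹; rwa [inv_inv] at this) (by
          rw [hw, mul_inv_eq_iff_eq_mul] at he
          calc k⁻¹ * (v : G) * k * t = k⁻¹ * ((v : G) * (k * t * k⁻¹)) * k := by group
            _ = k⁻¹ * (k * t * k⁻¹ * (v : G)) * k := by rw [he]
            _ = _ := by group)
      calc (v : G) = k * (k⁻¹ * v * k) * k⁻¹ := by group
        _ = 1 := by rw [h1]; group
    · refine Subtype.ext ?_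
      show w * (w * (v : G) * w⁻¹) * w⁻¹ = v
      rw [show w * (w * (v : G) * w⁻¹) * w⁻¹ = w * w * v * (w * w)⁻¹ by group, hww]
      group
  have hcu : N ≤ cU φ := by
    intro g hg
    have h11 := hfree ((X.isConj_ee (a := 11) (by norm_num)).2 (by decide)) hg
    have h15 := hfree ((X.isConj_ee (a := 15) (by norm_num)).2 (by decide)) (inv_mem hg)
    rw [mem_cU, show ee φ 4 = ee φ 15 * ee φ 11 from
      (ee_mul φ (a := 15) (b := 11) (by norm_num) (by norm_num)).symm]
    refine (mul_inv_eq_iff_eq_mul.1 ?_).symm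
    calc ee φ 15 * ee φ 11 * g * (ee φ 15 * ee φ 11)⁻¹
        = ee φ 15 * (ee φ 11 * g * (ee φ 11)⁻¹) * (ee φ 15)⁻¹ := by group
      _ = g := by rw [h11, h15, inv_inv]
  refine hne ((eq_bot_iff_forall _).2 fun g hg => X.odd_normal_trivial hN ho hg ?_)
  have hE : t ∈ esub φ := X.toCfg.ee_one ▸ ee_mem (by norm_num)
  have hn := X.cent_u.2 (hcu hg)
  have h1 : g * t * g⁻¹ * t⁻¹ ∈ esub φ := mul_mem ((mem_normalizer_iff.1 hn _).1 hE) (inv_mem hE)
  have h2 : g * t * g⁻¹ * t⁻¹ ∈ N := by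
    have := mul_mem hg (hN.conj_mem _ (inv_mem hg) t)
    rwa [show g * (t * g⁻¹ * t⁻¹) = g * t * g⁻¹ * t⁻¹ by group] at this
  have h3 : g * t * g⁻¹ * t⁻¹ = 1 := by
    rw [← orderOf_eq_one_iff]
    have e1 : orderOf (g * t * g⁻¹ * t⁻¹) ∣ 2 :=
      orderOf_dvd_of_pow_eq_one (by rw [pow_two]; exact X.toCfg.elem16_esub.2 _ h1)
    have e2 := Subgroup.orderOf_dvd_natCard N h2
    exact Nat.eq_one_of_dvd_coprimes (Nat.coprime_two_right.2 ho) e2 e1
  exact mul_inv_eq_iff_eq_mul.1 (mul_inv_eq_one.1 h3)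

theorem invol_mem_normal {N : Subgroup G} (hN : N.Normal) (hne : N ≠ ⊥) {y : G} (hy : y * y = 1) :
    y ∈ N := by
  haveI : Fact (Nat.Prime 2) := ⟨Nat.prime_two⟩
  obtain ⟨v, hv⟩ := exists_prime_orderOf_dvd_card' (G := N) 2 (X.even_of_normal hN hne)
  rw [← Subgroup.orderOf_coe] at hv
  have hclass : ∀ {a b : G}, IsConj a b → a ∈ N → b ∈ N := fun h ha => by
    obtain ⟨g, rfl⟩ := isConj_iff.1 h
    exact hN.conj_mem _ ha g
  have hD : IsConj t (ee φ 11) ∧ IsConj t (ee φ 15) :=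
    ⟨(X.isConj_ee (by norm_num)).2 (by decide), (X.isConj_ee (by norm_num)).2 (by decide)⟩
  have key : t ∈ N ∧ ee φ 4 ∈ N := by
    rcases X.two_classes (CfsgLib.Invol.invol_mul_self hv) (CfsgLib.Invol.invol_ne_one hv) with h | h
    · have ht := hclass h.symm v.2
      refine ⟨ht, ?_⟩
      rw [show ee φ 4 = ee φ 11 * ee φ 15 from (ee_mul φ (a := 11) (b := 15) (by norm_num) (by norm_num)).symm]
      exact mul_mem (hclass hD.1 ht) (hclass hD.2 ht)
    · have hu := hclass h.symm v.2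
      refine ⟨?_, hu⟩
      rw [← X.toCfg.ee_one, show ee φ 1 = ee φ 4 * ee φ 5 from
        (ee_mul φ (a := 4) (b := 5) (by norm_num) (by norm_num)).symm]
      exact mul_mem hu (hclass (X.isConj_phi_u io_five_uL) hu)
  by_cases h1 : y = 1
  · rw [h1]; exact one_mem _
  rcases X.two_classes hy h1 with h | h
  · exact hclass h key.1
  · exact hclass h key.2

theorem range_le_normal {N : Subgroup G} (hN : N.Normal) (hne : N ≠ ⊥) : φ.range ≤ N := by
  obtain ⟨y0, hy2, hy4, hyE⟩ := exists_outer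
  obtain ⟨-, hcn, x, hx, hx3, hx1, -⟩ := X.cab_facts
  obtain ⟨y, hy⟩ : ∃ y, y = φ y0 := ⟨_, rfl⟩
  have hyy : y * y = 1 := by rw [hy, ← map_mul, hy2, map_one]
  have hyp : y ∈ pU φ := hy ▸ ⟨y0, mem_centralizer_singleton_iff.2 hy4, rfl⟩
  have hyu : y ∈ cU φ := pU_le_cU hyp
  have hyn : y ∈ normalizer (esub φ : Set G) := X.toCfg.pU_le_norm hyp
  have hyE' : y ∉ esub φ := fun h => by
    rw [hy, X.toCfg.map_mem_esub, hyE] at h; exact Bool.false_ne_true h
  have hxu : x ∈ cU φ := mem_cU.2 (mem_cab.1 hx).1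
  obtain ⟨z, hz⟩ : ∃ z, z = y * x * y⁻¹ * x⁻¹ := ⟨_, rfl⟩
  have hyN := X.invol_mem_normal hN hne hyy
  have hzN : z ∈ N := by
    rw [hz, show y * x * y⁻¹ * x⁻¹ = y * (x * y⁻¹ * x⁻¹) by group]
    exact mul_mem hyN (hN.conj_mem _ (inv_mem hyN) x)
  have hfix : ∀ {g : G}, g ∈ cab φ → ∀ {a : ℕ}, a ∈ ([11, 15] : List ℕ) → g * ee φ a * g⁻¹ = ee φ a := by
    intro g hg a ha
    simp only [List.mem_cons, List.not_mem_nil, or_false] at ha
    rcases ha with rfl | rfl
    · rw [(mem_cab.1 hg).2, mul_inv_cancel_right]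
    · rw [comm_fifteen hg, mul_inv_cancel_right]
  have hz11 : z * ee φ 11 = ee φ 11 * z := by
    refine mul_inv_eq_iff_eq_mul.1 ?_
    obtain ⟨a, ha, hya⟩ : ∃ a ∈ ([11, 15] : List ℕ), y⁻¹ * ee φ 11 * y = ee φ a := by
      rcases X.conj_ab (inv_mem hyn) (inv_mem hyu) with ⟨h, -⟩ | ⟨h, -⟩ <;> rw [inv_inv] at h
      · exact ⟨11, by decide, h⟩
      · exact ⟨15, by decide, h⟩
    calc z * ee φ 11 * z⁻¹
        = y * (x * (y⁻¹ * (x⁻¹ * ee φ 11 * x⁻¹⁻¹) * y) * x⁻¹) * y⁻¹ := by rw [hz]; group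
      _ = y * (x * ee φ a * x⁻¹) * y⁻¹ := by rw [hfix (inv_mem hx) (by decide), hya]
      _ = ee φ 11 := by rw [hfix hx ha, ← hya]; group
  have hzu : z ∈ cU φ := hz ▸ mul_mem (mul_mem (mul_mem hyu hxu) (inv_mem hyu)) (inv_mem hxu)
  have hzn : z ∈ normalizer (esub φ : Set G) :=
    hz ▸ mul_mem (mul_mem (mul_mem hyn (hcn hx)) (inv_mem hyn)) (inv_mem (hcn hx))
  have hzt : z * t ≠ t * z := by
    intro h
    have hzs : x * (x * x) = 1 := hx3
    obtain ⟨d, hd, hde⟩ := X.conj_de (inv_mem (hcn hx)) (d := 1) (by decide)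
    rw [inv_inv, X.toCfg.ee_one] at hde
    have hyt : y * t = t * y := hy ▸ X.toCfg.comm_t y0
    have hyd : y * ee φ d = ee φ d * y := by
      rw [hz] at h
      have h' : y⁻¹ * (y * x * y⁻¹ * x⁻¹ * t) * (x * y * x⁻¹) * y⁻¹ = y⁻¹ * (t * (y * x * y⁻¹ * x⁻¹)) * (x * y * x⁻¹) * y⁻¹ := by rw [h]
      have h2 : x * y⁻¹ * (x⁻¹ * t * x) * y * x⁻¹ * y⁻¹ = y⁻¹ * t := by
        calc x * y⁻¹ * (x⁻¹ * t * x) * y * x⁻¹ * y⁻¹
            = y⁻¹ * (y * x * y⁻¹ * x⁻¹ * t) * (x * y * x⁻¹) * y⁻¹ := by group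
          _ = _ := h'
          _ = y⁻¹ * t := by group
      refine mul_inv_eq_iff_eq_mul.1 ?_
      have h3 : y⁻¹ * ee φ d * y = ee φ d := by
        calc y⁻¹ * ee φ d * y = x⁻¹ * (x * y⁻¹ * (x⁻¹ * t * x) * y * x⁻¹ * y⁻¹) * (y * x) := by
              rw [← hde]; group
          _ = x⁻¹ * (y⁻¹ * (t * y)) * x := by rw [h2]; group
          _ = x⁻¹ * t * x := by rw [← hyt, inv_mul_cancel_left]
          _ = ee φ d := hde
      calc y * ee φ d * y⁻¹ = y * (y⁻¹ * ee φ d * y) * y⁻¹ := by rw [h3]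
        _ = ee φ d := by group
    have hxt : x * t ≠ t * x := fun hc => by
      have hxE := X.norm_fix_three (hcn hx) (a := 11) (b := 15) (c := 1) (by decide) (by decide)
        (by decide) (by norm_num) (by norm_num) (by norm_num) (mem_cab.1 hx).2 (comm_fifteen hx)
        (X.toCfg.ee_one.symm ▸ hc)
      rw [X.toCfg.elem16_esub.2 x hxE, mul_one] at hzs
      exact hx1 hzs
    have hd1 : d ≠ 1 := fun e => hxt (by
      rw [e, X.toCfg.ee_one] at hde
      calc x * t = x * (x⁻¹ * t * x) := by rw [hde]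
        _ = t * x := by group)
    have hd2 : d ≠ 11 ∧ d ≠ 15 := by
      constructor <;> intro e <;> rw [e] at hde
      · have h11 : t = ee φ 11 := by
          rw [← hfix hx (a := 11) (by decide), ← hde]; group
        exact absurd (X.toCfg.ee_inj (by norm_num) (by norm_num) (X.toCfg.ee_one.trans h11)) (by norm_num)
      · have h15 : t = ee φ 15 := by
          rw [← hfix hx (a := 15) (by decide), ← hde]; group
        exact absurd (X.toCfg.ee_inj (by norm_num) (by norm_num) (X.toCfg.ee_one.trans h15)) (by norm_num)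
    obtain ⟨e0, -, huniq⟩ := X.exists_unique_fixed hyu hyy hyE'
    have hdin : d ∈ ([1, 2, 7] : List ℕ) :=
      (by decide : ∀ e ∈ ([1, 2, 7, 11, 15] : List ℕ), e ≠ 11 → e ≠ 15 → e ∈ ([1, 2, 7] : List ℕ))
        d hd hd2.1 hd2.2
    exact hd1 ((huniq d ⟨hdin, hyd⟩).trans (huniq 1 ⟨by decide, by rw [X.toCfg.ee_one]; exact hyt⟩).symm)
  -- transport to the centralizer of `t`
  obtain ⟨m, hm, hmt⟩ := (X.orbit_iff (a := 11) (by norm_num)).2 (by decide)
  obtain ⟨e, he, hme⟩ := X.conj_de (inv_mem hm) (d := 15) (by decide)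
  rw [inv_inv] at hme
  have hew : e ∈ ([2, 7, 11, 15] : List ℕ) := by
    rcases List.mem_cons.1 he with rfl | h
    · rw [X.toCfg.ee_one] at hme
      have h15 : ee φ 15 = ee φ 11 := by rw [← hmt, ← hme]; group
      exact absurd (X.toCfg.ee_inj (by norm_num) (by norm_num) h15) (by norm_num)
    · exact h
  obtain ⟨c, hc⟩ := (X.range (m⁻¹ * z * m)).1 (by
    calc m⁻¹ * z * m * t = m⁻¹ * (z * ee φ 11) * m := by rw [← hmt]; group
      _ = m⁻¹ * (ee φ 11 * z) * m := by rw [hz11]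
      _ = _ := by rw [← hmt]; group)
  have hce : c * io e = io e * c := X.inj (by
    rw [map_mul, map_mul, hc, show φ (io e) = ee φ e from rfl, ← hme]
    have hz15 := comm_fifteen (mem_cab.2 ⟨mem_cU.1 hzu, hz11⟩)
    calc m⁻¹ * z * m * (m⁻¹ * ee φ 15 * m) = m⁻¹ * (z * ee φ 15) * m := by group
      _ = m⁻¹ * (ee φ 15 * z) * m := by rw [hz15]
      _ = _ := by group)
  have hcE : inE c = false := Bool.eq_false_iff.2 fun hh => hzt (by
    have h1 : m * φ c * m⁻¹ ∈ esub φ := (mem_normalizer_iff.1 hm _).1 (X.toCfg.map_mem_esub.2 hh)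
    rw [hc, show m * (m⁻¹ * z * m) * m⁻¹ = z by group] at h1
    exact X.toCfg.elem16_esub.comm h1 (X.toCfg.ee_one ▸ ee_mem (φ := φ) (a := 1) (by norm_num)))
  have hcn : normE c = true := by
    refine conj_inE_norm ⟨e, line_lt e hew⟩ ((by decide : ∀ e ∈ ([2, 7, 11, 15] : List ℕ), 2 ≤ e) e hew) c ?_
    rw [show c * io ((⟨e, line_lt e hew⟩ : Fin 16) : ℕ) = io e * c from hce, mul_inv_cancel_right]
    exact (inE_iff _).2 ⟨⟨e, line_lt e hew⟩, rfl⟩
  have hEN : ∀ {q : Cm}, inE q = true → φ q ∈ N := fun hq =>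
    X.invol_mem_normal hN hne (X.toCfg.elem16_esub.2 _ (X.toCfg.map_mem_esub.2 hq))
  have hcN : φ c ∈ N := by
    rw [hc]; have := hN.conj_mem _ hzN m⁻¹; rwa [inv_inv] at this
  obtain ⟨d, hd⟩ := x3_of e hew c hce hcE hcn
  have hdN : φ (d * c * d⁻¹) ∈ N := by rw [map_mul, map_mul, map_inv]; exact hN.conj_mem _ hcN _
  have hx3N : φ x3 ∈ N := by
    rcases hd with hd | hd
    · have := mul_mem (inv_mem (hEN hd)) hdN
      rwa [← map_inv, ← map_mul, show (d * c * d⁻¹ * x3⁻¹)⁻¹ * (d * c * d⁻¹) = x3 by group] at this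
    · have := mul_mem (inv_mem hdN) (hEN hd)
      rwa [← map_inv, ← map_mul, show (d * c * d⁻¹)⁻¹ * (d * c * d⁻¹ * x3) = x3 by group] at this
  have hI : ∀ {i : Cm}, i ∈ (1 :: invL) → φ i ∈ N := by
    intro i hi
    rcases List.mem_cons.1 hi with rfl | hi
    · rw [map_one]; exact one_mem _
    · exact X.invol_mem_normal hN hne (by rw [← map_mul, (invL_sq i hi).1, map_one])
  rintro _ ⟨g, rfl⟩
  obtain ⟨i, hi, hor⟩ := generation g
  have hi' := inv_mem (hI hi)
  rcases hor with h | h | h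
  · have := mul_mem (hI h) hi'
    rwa [← map_inv, ← map_mul, mul_inv_cancel_right] at this
  · have := mul_mem (mul_mem (hI h) hi') (inv_mem hx3N)
    rwa [← map_inv, ← map_inv, ← map_mul, ← map_mul, mul_inv_cancel_right, mul_inv_cancel_right] at this
  · have := mul_mem (mul_mem (hI h) hi') (inv_mem (mul_mem hx3N hx3N))
    rwa [← map_mul φ x3, ← map_inv, ← map_inv, ← map_mul, ← map_mul, mul_inv_cancel_right,
      mul_inv_cancel_right] at this

theorem normal_eq_top {N : Subgroup G} (hN : N.Normal) (hne : N ≠ ⊥) : N = ⊤ := by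
  classical
  haveI : Fintype G := Fintype.ofFinite G
  have hR := X.range_le_normal hN hne
  rw [eq_top_iff]
  intro g _
  have hcommC : ∀ {n : G}, n ∈ N → n * t * n⁻¹ = g * t * g⁻¹ → g ∈ N := by
    intro n hn h
    have h2 : n⁻¹ * g * t = t * (n⁻¹ * g) := by
      calc n⁻¹ * g * t = n⁻¹ * (g * t * g⁻¹) * g := by group
        _ = n⁻¹ * (n * t * n⁻¹) * g := by rw [h]
        _ = _ := by group
    have h3 := hR ((X.range _).1 h2)
    have := mul_mem hn h3
    rwa [mul_inv_cancel_left] at this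
  have hnc : ∀ {a b : G}, IsConj t a → IsConj t b → a * b ≠ b * a →
      ∃ n ∈ N, n * a * n⁻¹ = b := by
    intro a b ha hb hab
    have ha2 := X.sq_of_conj X.toCfg.t_sq ha
    have hb2 := X.sq_of_conj X.toCfg.t_sq hb
    refine ⟨a * b, mul_mem (X.invol_mem_normal hN hne ha2) (X.invol_mem_normal hN hne hb2), ?_⟩
    rcases X.isThree.2 a ha b hb with h | h
    · refine absurd ?_ hab
      rw [pow_two] at h
      have := inv_eq_of_mul_eq_one_right h
      rw [_root_.mul_inv_rev, inv_eq_of_mul_eq_one_right ha2, inv_eq_of_mul_eq_one_right hb2] at this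
      exact this.symm
    · rw [pow_three] at h
      rw [_root_.mul_inv_rev, inv_eq_of_mul_eq_one_right ha2, inv_eq_of_mul_eq_one_right hb2]
      have e : a * b * a * b * a = b⁻¹ := eq_inv_of_mul_eq_one_left (by
        rw [← h]; group)
      rw [← mul_assoc, e, inv_eq_of_mul_eq_one_right hb2]
  obtain ⟨x, hx⟩ : ∃ x, x = g * t * g⁻¹ := ⟨_, rfl⟩
  have hxc : IsConj t x := isConj_iff.2 ⟨g, hx.symm⟩
  obtain ⟨D, hD⟩ : ∃ D : Finset G, D = Finset.univ.filter fun x => IsConj t x := ⟨_, rfl⟩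
  obtain ⟨w, hw, hwt, hwx⟩ : ∃ w, IsConj t w ∧ w * t ≠ t * w ∧ w * x ≠ x * w := by
    by_contra hno
    push Not at hno
    have hsub : D ⊆ (D.filter fun w => w * t = t * w) ∪ (D.filter fun w => w * x = x * w) := by
      intro w hw
      simp only [Finset.mem_union, Finset.mem_filter]
      by_cases h : w * t = t * w
      · exact Or.inl ⟨hw, h⟩
      · exact Or.inr ⟨hw, hno w (by rw [hD, Finset.mem_filter] at hw; exact hw.2) h⟩
    have h1 := (Finset.card_le_card hsub).trans (Finset.card_union_le _ _)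
    rw [show D.card = 45 by rw [← X.card_class, Nat.card_eq_fintype_card, Fintype.card_subtype, hD],
      hD, X.card_cent_class (IsConj.refl t), X.card_cent_class hxc] at h1
    omega
  obtain ⟨n1, hn1, he1⟩ := hnc (IsConj.refl t) hw (fun h => hwt h.symm)
  obtain ⟨n2, hn2, he2⟩ := hnc hw hxc hwx
  refine hcommC (mul_mem hn2 hn1) ?_
  rw [← hx, ← he2, ← he1]; group

theorem isSimple : IsSimpleGroup G := by
  haveI : Nontrivial G := Finite.one_lt_card_iff_nontrivial.1 (by rw [X.card_group]; norm_num)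
  exact { eq_bot_or_eq_top_of_normal := fun H hH => or_iff_not_imp_left.2 (X.normal_eq_top hH) }

end Cfg2

end CfsgLib.Recog.U4Two
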